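import Mathlib.GroupTheory.GroupAction.FixedPoints
import Mathlib.GroupTheory.GroupAction.FixingSubgroup
import Mathlib.GroupTheory.GroupAction.SubMulAction.OfStabilizer
import Mathlib.GroupTheory.Perm.Sign
import Mathlib.GroupTheory.Sylow
import Mathlib.Data.Fintype.Perm
import Cfsg.Agent.FiLarge.Cent.Parity

/-!
Elementary facts about a simple group acting with at most four fixed points per element.
-/

set_option autoImplicit false
set_option linter.unusedSectionVars false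
set_option linter.style.haveILetI false

namespace CfsgLib.Fixity4

open Subgroup MulAction
open scoped Pointwise

variable {G Ω : Type*} [Group G] [MulAction G Ω]

/-- The standing hypotheses. -/
structure Ctx (G Ω : Type*) [Group G] [MulAction G Ω] : Prop where
  simple : IsSimpleGroup G
  nonab : ¬ IsMulCommutative G
  trans : IsPretransitive G Ω
  le4 : ∀ g : G, g ≠ 1 → Nat.card (fixedBy Ω g) ≤ 4
  five : 5 ≤ Nat.card Ω

theorem Ctx.hom_trivial (c : Ctx G Ω) {A : Type*} [CommGroup A] (φ : G →* A) (g : G) : φ g = 1 := by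
  haveI := c.simple
  rcases (MonoidHom.normal_ker φ).eq_bot_or_eq_top with h | h
  · refine absurd ⟨⟨fun x y => ?_⟩⟩ c.nonab
    exact (MonoidHom.ker_eq_bot_iff φ).1 h (by rw [map_mul, map_mul, mul_comm])
  · exact MonoidHom.mem_ker.1 (h ▸ mem_top g)

theorem mem_fix {g : G} {A : Set Ω} : g ∈ fixingSubgroup G A ↔ A ⊆ fixedBy Ω g :=
  mem_fixingSubgroup_iff G

theorem fixing_le_stab (A : Set Ω) : fixingSubgroup G A ≤ stabilizer G A := fun _ hg =>
  set_mem_fixedBy_of_subset_fixedBy (mem_fix.1 hg)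

theorem fixedBy_conj (g x : G) : fixedBy Ω (g * x * g⁻¹) = g • fixedBy Ω x :=
  (smul_fixedBy Ω x g).symm

theorem mem_stab_of_commute {g x : G} (h : g * x = x * g) : g ∈ stabilizer G (fixedBy Ω x) := by
  rw [mem_stabilizer_iff, ← fixedBy_conj, h, mul_inv_cancel_right]

theorem conj_mem_stab {g x : G} {A : Set Ω} (hx : x ∈ stabilizer G A) :
    g * x * g⁻¹ ∈ stabilizer G (g • A) := by
  rw [mem_stabilizer_iff] at hx ⊢
  rw [mul_smul, mul_smul, inv_smul_smul, hx]

theorem conj_mem_fix {g x : G} {A : Set Ω} (hx : x ∈ fixingSubgroup G A) :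
    g * x * g⁻¹ ∈ fixingSubgroup G (g • A) := by
  rw [mem_fix] at hx ⊢
  rw [fixedBy_conj]
  exact Set.smul_set_mono hx

theorem conj_mem_fix_of_stab {g x : G} {A : Set Ω} (hg : g ∈ stabilizer G A)
    (hx : x ∈ fixingSubgroup G A) : g * x * g⁻¹ ∈ fixingSubgroup G A := by
  have := conj_mem_fix (g := g) hx
  rwa [mem_stabilizer_iff.1 hg] at this

theorem fix_normal (A : Set Ω) : ((fixingSubgroup G A).subgroupOf (stabilizer G A)).Normal :=
  ⟨fun _ hx g => mem_subgroupOf.2 (conj_mem_fix_of_stab g.2 (mem_subgroupOf.1 hx))⟩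

theorem mem_fix_inter {g : G} {A B : Set Ω} (hA : g ∈ stabilizer G A) (hB : g ∈ stabilizer G B) {a : Ω}
    (ha : a ∈ A) (hb : a ∈ B) : g • a ∈ A ∩ B :=
  ⟨(mem_stabilizer_iff.1 hA) ▸ Set.smul_mem_smul_set ha, (mem_stabilizer_iff.1 hB) ▸ Set.smul_mem_smul_set hb⟩

theorem smul_mem_of_stab {g : G} {A : Set Ω} (hA : g ∈ stabilizer G A) {a : Ω} (ha : a ∈ A) : g • a ∈ A :=
  (mem_stabilizer_iff.1 hA) ▸ Set.smul_mem_smul_set ha

variable [Finite G] [Finite Ω]

theorem Ctx.card_lt (c : Ctx G Ω) {A : Set Ω} (hA : Nat.card A ≤ 4) : ∃ b, b ∉ A := by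
  by_contra h
  push Not at h
  have := c.five
  rw [Set.eq_univ_iff_forall.2 h, Nat.card_univ] at hA
  omega

theorem Ctx.stab_ne_top (c : Ctx G Ω) {A : Set Ω} (hA : Nat.card A ≤ 4) (hne : A.Nonempty) :
    stabilizer G A ≠ ⊤ := by
  haveI := c.trans
  intro h
  obtain ⟨a, ha⟩ := hne
  obtain ⟨b, hb⟩ := c.card_lt hA
  obtain ⟨g, hg⟩ := exists_smul_eq G a b
  exact hb (hg ▸ smul_mem_of_stab (h ▸ mem_top g) ha)

theorem eq_of_subset_fixedBy {A : Set Ω} {x : G} (h : A ⊆ fixedBy Ω x)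
    (hle : Nat.card (fixedBy Ω x) ≤ Nat.card A) : A = fixedBy Ω x :=
  Set.eq_of_subset_of_ncard_le h (by rwa [← Nat.card_coe_set_eq, ← Nat.card_coe_set_eq]) (Set.toFinite _)

theorem fixedBy_subset_pow (x : G) (k : ℕ) : fixedBy Ω x ⊆ fixedBy Ω (x ^ k) := fun a ha => by
  have hs : x ∈ stabilizer G a := mem_stabilizer_iff.2 ha
  exact mem_stabilizer_iff.1 (Subgroup.pow_mem _ hs k)

/-- A nontrivial `p`-element has a power of order `p`. -/
theorem exists_pow_order {p : ℕ} [hp : Fact p.Prime] {x : G} (hx : ∃ j, orderOf x = p ^ j) (hx1 : x ≠ 1) :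
    ∃ k, orderOf (x ^ k) = p := by
  obtain ⟨j, hj⟩ := hx
  rcases j with _ | j
  · exact absurd (orderOf_eq_one_iff.1 hj) hx1
  · refine ⟨p ^ j, ?_⟩
    rw [orderOf_pow' _ (pow_ne_zero _ hp.out.ne_zero), hj, Nat.gcd_eq_right (pow_dvd_pow p j.le_succ),
      pow_succ, Nat.mul_div_cancel_left _ (pow_pos hp.out.pos _)]

theorem pgroup_order {p : ℕ} [hp : Fact p.Prime] {P : Subgroup G} (hP : IsPGroup p P) {x : G} (hx : x ∈ P) :
    ∃ j, orderOf x = p ^ j := by
  obtain ⟨j, hj⟩ := (IsPGroup.iff_orderOf.1 hP) ⟨x, hx⟩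
  exact ⟨j, by rw [← hj, Subgroup.orderOf_mk]⟩

/-- `p`-elements fixing all of `A` have no further fixed point. -/
theorem fix_eq_of_kernel {p : ℕ} [Fact p.Prime] {A : Set Ω}
    (hmax : ∀ t : G, orderOf t = p → Nat.card (fixedBy Ω t) ≤ Nat.card A) {x : G}
    (hx : ∃ j, orderOf x = p ^ j) (hx1 : x ≠ 1) (hxA : x ∈ fixingSubgroup G A) : fixedBy Ω x = A := by
  obtain ⟨k, hk⟩ := exists_pow_order hx hx1
  have h1 := mem_fix.1 hxA
  refine Set.Subset.antisymm ?_ h1
  rw [eq_of_subset_fixedBy (h1.trans (fixedBy_subset_pow x k)) (hmax _ hk)]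
  exact fixedBy_subset_pow x k

/-- Nontrivial elements fixing four points pointwise fix exactly those. -/
theorem Ctx.fix_eq4 (c : Ctx G Ω) {A : Set Ω} (hA : Nat.card A = 4) {x : G} (hx : x ≠ 1)
    (hxA : x ∈ fixingSubgroup G A) : fixedBy Ω x = A :=
  (eq_of_subset_fixedBy (mem_fix.1 hxA) ((c.le4 x hx).trans hA.ge)).symm

/-- The criterion for strong embedding of a set stabiliser. -/
theorem se_of_fix {p : ℕ} [hp : Fact p.Prime] {A : Set Ω}
    (h : ∀ t ∈ stabilizer G A, orderOf t = p → fixedBy Ω t = A) :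
    ∀ g : G, g ∉ stabilizer G A →
      ¬ p ∣ Nat.card ↥(stabilizer G A ⊓ (stabilizer G A).map (MulAut.conj g).toMonoidHom) := by
  intro g hg hdvd
  obtain ⟨u, hu⟩ := exists_prime_orderOf_dvd_card' p hdvd
  rw [← Subgroup.orderOf_coe] at hu
  obtain ⟨t, ⟨ht1, ht2⟩, ht⟩ :
      ∃ t, (t ∈ stabilizer G A ∧ t ∈ (stabilizer G A).map (MulAut.conj g).toMonoidHom) ∧ orderOf t = p :=
    ⟨u, ⟨u.2.1, u.2.2⟩, hu⟩
  obtain ⟨s, hs, hst⟩ := ht2
  simp only [MulEquiv.coe_toMonoidHom, MulAut.conj_apply] at hst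
  have hso : orderOf s = p := by
    rw [← ht, ← hst]
    exact (orderOf_injective (MulAut.conj g).toMonoidHom (MulAut.conj g).injective s).symm
  refine hg (mem_stabilizer_iff.2 ?_)
  conv_rhs => rw [← h t ht1 ht, ← hst, fixedBy_conj, h s hs hso]

/-- A subgroup acting semiregularly on an invariant finite set. -/
theorem card_le_of_semiregular {H : Subgroup G} {B : Set Ω} (hB : ∀ h ∈ H, ∀ b ∈ B, h • b ∈ B)
    (hfree : ∀ h ∈ H, ∀ b ∈ B, h • b = b → h = 1) {b : Ω} (hb : b ∈ B) : Nat.card H ≤ Nat.card B := by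
  refine Nat.card_le_card_of_injective (fun h : H => (⟨(h : G) • b, hB h h.2 b hb⟩ : B)) fun h k he => ?_
  have he' : (h : G) • b = (k : G) • b := congrArg Subtype.val he
  have := hfree _ (H.mul_mem (H.inv_mem k.2) h.2) b hb (by rw [mul_smul, he', inv_smul_smul])
  exact Subtype.ext (inv_mul_eq_one.1 this).symm

/-- A semiregular group of the same order as the set is transitive. -/
theorem exists_smul_of_regular {H : Subgroup G} {B : Set Ω} (hB : ∀ h ∈ H, ∀ b ∈ B, h • b ∈ B)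
    (hfree : ∀ h ∈ H, ∀ b ∈ B, h • b = b → h = 1) (hcard : Nat.card B ≤ Nat.card H) {a b : Ω}
    (ha : a ∈ B) (hb : b ∈ B) : ∃ h ∈ H, h • a = b := by
  let f : H → B := fun h => ⟨(h : G) • a, hB h h.2 a ha⟩
  have hf : Function.Injective f := fun h k he => by
    have he' : (h : G) • a = (k : G) • a := congrArg Subtype.val he
    have := hfree _ (H.mul_mem (H.inv_mem k.2) h.2) a ha (by rw [mul_smul, he', inv_smul_smul])
    exact Subtype.ext (inv_mul_eq_one.1 this).symm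
  obtain ⟨h, hh⟩ := ((Nat.bijective_iff_injective_and_card f).2
    ⟨hf, le_antisymm (Nat.card_le_card_of_injective f hf) hcard⟩).2 ⟨b, hb⟩
  exact ⟨h, h.2, congrArg Subtype.val hh⟩

/-- A maximal `p`-subgroup of `M` meets every conjugacy class of `p`-elements of `M`. -/
theorem exists_conj_mem {p : ℕ} [hp : Fact p.Prime] {M R : Subgroup G} (hR : IsPGroup p R) (hRM : R ≤ M)
    (hmax : ∀ Q : Subgroup G, IsPGroup p Q → R ≤ Q → Q ≤ M → Q = R) {Q : Subgroup G} (hQ : IsPGroup p Q)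
    (hQM : Q ≤ M) : ∃ m ∈ M, ∀ x ∈ Q, m * x * m⁻¹ ∈ R := by
  let S : Sylow p M :=
    { toSubgroup := R.subgroupOf M
      isPGroup' := hR.comap_of_injective M.subtype M.subtype_injective
      is_maximal' := fun {Q'} hQ' hle => by
        have h1 := hmax (Q'.map M.subtype) (hQ'.map _) (fun x hx => ⟨⟨x, hRM hx⟩, hle hx, rfl⟩) (map_subtype_le _)
        rw [← h1, subgroupOf, comap_map_eq_self_of_injective M.subtype_injective] }
  obtain ⟨S', hS'⟩ := (hQ.comap_of_injective M.subtype M.subtype_injective).exists_le_sylow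
  obtain ⟨m, hm⟩ := exists_smul_eq M S' S
  refine ⟨m, m.2, fun x hx => ?_⟩
  have : (MulAut.conj m) ⟨x, hQM hx⟩ ∈ (S : Subgroup M) := by
    rw [← hm]
    exact ⟨⟨x, hQM hx⟩, hS' hx, rfl⟩
  simpa [S, mem_subgroupOf] using this

theorem exists_conj_mem_elem {p : ℕ} [hp : Fact p.Prime] {M R : Subgroup G} (hR : IsPGroup p R)
    (hRM : R ≤ M) (hmax : ∀ Q : Subgroup G, IsPGroup p Q → R ≤ Q → Q ≤ M → Q = R) {x : G}
    (hx : ∃ j, orderOf x = p ^ j) (hxM : x ∈ M) : ∃ m ∈ M, m * x * m⁻¹ ∈ R := by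
  obtain ⟨j, hj⟩ := hx
  obtain ⟨m, hm, h⟩ := exists_conj_mem hR hRM hmax
    (IsPGroup.of_card (by rw [Nat.card_zpowers, hj])) (zpowers_le.2 hxM)
  exact ⟨m, hm, h x (mem_zpowers x)⟩

/-- A Sylow subgroup of `G` contained in `M` is maximal in `M`. -/
theorem sylow_max {p : ℕ} (S : Sylow p G) (M : Subgroup G) :
    ∀ Q : Subgroup G, IsPGroup p Q → (S : Subgroup G) ≤ Q → Q ≤ M → Q = S :=
  fun _ hQ hle _ => S.is_maximal' hQ hle

theorem Ctx.faithful_sign [FaithfulSMul G Ω] (c : Ctx G Ω) [Fintype Ω] [DecidableEq Ω] (g : G) :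
    Equiv.Perm.sign (MulAction.toPerm g : Equiv.Perm Ω) = 1 :=
  c.hom_trivial (Equiv.Perm.sign.comp (MulAction.toPermHom G Ω)) g

/-- The number of points moved by an involution is a multiple of four. -/
theorem Ctx.four_dvd [FaithfulSMul G Ω] (c : Ctx G Ω) {t : G} (ht : orderOf t = 2) :
    4 ∣ Nat.card Ω - Nat.card (fixedBy Ω t) := by
  classical
  haveI := Fintype.ofFinite Ω
  set σ : Equiv.Perm Ω := MulAction.toPerm t
  have hσ : σ * σ = 1 := by
    show MulAction.toPermHom G Ω t * MulAction.toPermHom G Ω t = 1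
    rw [← map_mul, ← pow_two, ← ht, pow_orderOf_eq_one, map_one]
  have hsupp : σ.support.card = Nat.card Ω - Nat.card (fixedBy Ω t) := by
    rw [Nat.card_coe_set_eq, ← Set.ncard_compl _ (Set.toFinite _), ← Set.ncard_coe_finset]
    congr 1
    ext a
    simp [σ, mem_fixedBy]
  have h2 : 2 ∣ σ.support.card := Equiv.Perm.two_dvd_card_support (by rw [pow_two, hσ])
  have h := c.faithful_sign t
  rw [CfsgLib.FiLarge.Cent.sign_invol hσ] at h
  obtain ⟨m, hm⟩ := (neg_one_pow_eq_one_iff_even (R := ℤˣ) (by decide)).1 h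
  omega

section Perm4

theorem perm4_centralizer : ∀ a : Equiv.Perm (Fin 4), a * a = 1 → a ≠ 1 → ∀ b, b * b = 1 → b ≠ 1 → b ≠ a →
    a * b = b * a → ∀ x, a * x = x * a → b * x = x * b → x = 1 ∨ x = a ∨ x = b ∨ x = a * b := by
  decide +kernel

theorem perm4_fpf : ∀ w : Equiv.Perm (Fin 4), w * w = 1 → (∀ i, w i ≠ i) → ∀ x, w * x = x * w →
    x * x * (x * x) = 1 := by
  decide +kernel

theorem perm4_even : ∀ x : Equiv.Perm (Fin 4), Equiv.Perm.sign x = 1 → x ^ 8 = 1 →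
    x * x = 1 ∧ (x = 1 ∨ ∀ i, x i ≠ i) := by
  decide +kernel

theorem perm4_odd : ∀ x : Equiv.Perm (Fin 4), Equiv.Perm.sign x = -1 → x ^ 8 = 1 →
    (x * x = 1 ∧ (Finset.univ.filter fun i => x i = i).card = 2) ∨
      ((∀ i, x i ≠ i) ∧ (∀ i, x (x i) ≠ i) ∧ x * x * (x * x) = 1) := by
  decide +kernel

theorem perm_equiv {A : Set Ω} (hA : Nat.card A = 4) : Nonempty (A ≃ Fin 4) :=
  ⟨(Finite.equivFin A).trans (finCongr hA)⟩

end Perm4

/-- The action of a set stabiliser on the set. -/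
def res (A : Set Ω) : stabilizer G A →* Equiv.Perm A := MulAction.toPermHom (stabilizer G A) A

omit [Finite G] [Finite Ω] in
@[simp] theorem res_coe {A : Set Ω} (g : stabilizer G A) (a : A) : ((res A g a : A) : Ω) = (g : G) • (a : Ω) := rfl

theorem res_eq_one {A : Set Ω} {g : stabilizer G A} : res A g = 1 ↔ (g : G) ∈ fixingSubgroup G A := by
  constructor
  · intro h
    refine mem_fix.2 fun a ha => ?_
    have := congrArg (fun σ : Equiv.Perm A => ((σ ⟨a, ha⟩ : A) : Ω)) h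
    simpa using this
  · intro h
    refine Equiv.ext fun a => Subtype.ext ?_
    rw [res_coe]
    exact mem_fix.1 h a.2

end CfsgLib.Fixity4
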