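import Cfsg.Agent.Fixity4.FourFree

/-!
Involutions fixing four points: strongly embedded subgroup or sectional 2-rank at most four.
-/

set_option autoImplicit false
set_option linter.unusedSectionVars false
set_option linter.style.haveILetI false

namespace CfsgLib.Fixity4

open Subgroup MulAction
open scoped Pointwise

variable {G Ω : Type*} [Group G] [MulAction G Ω] [Finite G] [Finite Ω] [FaithfulSMul G Ω]

/-- Involutions fixing four points. -/
theorem four (c : Ctx G Ω) (hf' : ∃ g : G, orderOf g = 2 ∧ Nat.card (fixedBy Ω g) = 4) :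
    (∃ H : Subgroup G, Cfsg.IsStronglyEmbedded H) ∨ Cfsg.SectionalPRankLE 2 4 G := by
  haveI : Fact (Nat.Prime 2) := ⟨Nat.prime_two⟩
  obtain ⟨z, hz, hzA⟩ := hf'
  set A := fixedBy Ω z with hA
  have hne : A.Nonempty := nonempty_of_card (by omega)
  have hzK : z ∈ fixingSubgroup G A := mem_fix.2 le_rfl
  have hzM : z ∈ stabilizer G A := fixing_le_stab A hzK
  obtain ⟨RM, hRM⟩ := (IsPGroup.of_card (p := 2) (n := 1)
    (by rw [Nat.card_zpowers, Subgroup.orderOf_mk, hz, pow_one] :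
      Nat.card (zpowers (⟨z, hzM⟩ : stabilizer G A)) = 2 ^ 1)).exists_le_sylow
  set R : Subgroup G := (RM : Subgroup (stabilizer G A)).map (stabilizer G A).subtype with hR
  have hRp : IsPGroup 2 R := RM.isPGroup'.map _
  have hRle : R ≤ stabilizer G A := map_subtype_le _
  have hzR : z ∈ R := ⟨⟨z, hzM⟩, hRM (mem_zpowers _), rfl⟩
  obtain ⟨S, hRS⟩ := hRp.exists_le_sylow
  have hSR : (S : Subgroup G) ⊓ stabilizer G A = R := by
    refine le_antisymm ?_ (le_inf hRS hRle)
    have h1 := RM.is_maximal' ((S.isPGroup'.to_le (inf_le_left : (S : Subgroup G) ⊓ stabilizer G A ≤ _)).comap_of_injective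
      (stabilizer G A).subtype (stabilizer G A).subtype_injective) (fun p hp =>
        show (p : G) ∈ (S : Subgroup G) ⊓ stabilizer G A from ⟨hRS ⟨p, hp, rfl⟩, p.2⟩)
    intro x hx
    exact ⟨⟨x, hx.2⟩, h1 ▸ (show ((⟨x, hx.2⟩ : stabilizer G A) : G) ∈ _ from hx), rfl⟩
  have hzS : z ∈ (S : Subgroup G) := hRS hzR
  have key : ∀ {B : Set Ω} {y : G}, B ≠ A → Nat.card B = 4 → orderOf y = 2 →
      y ∈ BData.wpart (S : Subgroup G) A B → (S : Subgroup G) ⊓ stabilizer G B ≤ stabilizer G A →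
      ((S : Subgroup G) ≤ stabilizer G A ∨ ∃ v : G, ∀ x : G, x ∈ BData.wpart (S : Subgroup G) A B ↔
        v⁻¹ * x * v ∈ (S : Subgroup G) ⊓ fixingSubgroup G A) →
      Cfsg.SectionalPRankLE 2 4 G := fun {B y} hBA hB hy hyW hsub hmix =>
    sectional_group S (BData.rank ⟨c, hzA, hB, hBA, S.isPGroup', hsub⟩ hyW hy hmix)
  by_cases hSA : (S : Subgroup G) ≤ stabilizer G A
  · -- the Sylow subgroup preserves the quadruple
    by_cases hall : ∀ t ∈ stabilizer G A, orderOf t = 2 → fixedBy Ω t = A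
    · exact Or.inl (se_two c hzA.le hne hz hzM hall)
    push Not at hall
    obtain ⟨u₀, hu₀M, hu₀, hu₀A⟩ := hall
    obtain ⟨m, hm, hu⟩ := exists_conj_mem_elem S.isPGroup' hSA (sylow_max S _) ⟨1, by rw [hu₀, pow_one]⟩ hu₀M
    have hun₀ : u₀ ∉ fixingSubgroup G A := fun h => hu₀A (c.fix_eq4 hzA (CfsgLib.Invol.ne_one hu₀) h)
    have hun : m * u₀ * m⁻¹ ∉ fixingSubgroup G A := fun h => hun₀ (by
      have := conj_mem_fix_of_stab ((stabilizer G A).inv_mem hm) h
      simpa [mul_assoc] using this)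
    by_cases hfree : ∀ u ∈ (S : Subgroup G), orderOf u = 2 → u ∉ fixingSubgroup G A → fixedBy Ω u = ∅
    · refine Or.inr (sectional_group S (Free.rank ⟨c, hzA, hSA, hfree⟩
        ⟨_, hu, by rw [CfsgLib.Invol.orderOf_conj_eq, hu₀], hun⟩ fun h => CfsgLib.Invol.ne_one hz ?_))
      have : z ∈ (S : Subgroup G) ⊓ fixingSubgroup G A := ⟨hzS, hzK⟩
      rw [h] at this
      exact this
    push Not at hfree
    obtain ⟨y, hyS, hy, hyn, hyfix⟩ := hfree
    have hy4 : Nat.card (fixedBy Ω y) = 4 := by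
      have h1 := c.four_dvd hy
      have h2 := c.four_dvd hz
      rw [hA] at hzA
      rw [hzA] at h2
      have h3 := c.le4 y (CfsgLib.Invol.ne_one hy)
      have h4 : 0 < Nat.card (fixedBy Ω y) := Nat.card_pos_iff.2
        ⟨hyfix.to_subtype, inferInstance⟩
      have := c.five
      omega
    refine Or.inr (key (B := fixedBy Ω y) (fun h => hyn (mem_fix.2 h.ge)) hy4 hy
      ⟨⟨hyS, hSA hyS⟩, mem_fix.2 le_rfl⟩ (inf_le_left.trans hSA) (Or.inl hSA))
  · -- the Sylow subgroup moves the quadruple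
    have hlt : R.subgroupOf (S : Subgroup G) < ⊤ := lt_top_iff_ne_top.2 fun h => hSA
      ((subgroupOf_eq_top.1 h).trans hRle)
    have := S.isPGroup'.isNilpotent
    obtain ⟨⟨v, hvS⟩, hvn, hvR⟩ := SetLike.exists_of_lt (Group.normalizerCondition_of_isNilpotent _ hlt)
    rw [mem_subgroupOf] at hvR
    have hvA : v ∉ stabilizer G A := fun h => hvR (hSR.le ⟨hvS, h⟩)
    have hconj : ∀ x ∈ R, v * x * v⁻¹ ∈ R := fun x hx =>
      mem_subgroupOf.1 ((mem_normalizer_iff.1 hvn ⟨x, hRS hx⟩).1 (mem_subgroupOf.2 hx))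
    have hconj' : ∀ x ∈ R, v⁻¹ * x * v ∈ R := fun x hx => by
      have := mem_subgroupOf.1 ((mem_normalizer_iff.1 ((normalizer _).inv_mem hvn) ⟨x, hRS hx⟩).1
        (mem_subgroupOf.2 hx))
      simpa using this
    have hB : Nat.card ↥(v • A) = 4 := by
      rw [Nat.card_coe_set_eq, Set.ncard_smul_set, ← Nat.card_coe_set_eq, hzA]
    have hy : orderOf (v * z * v⁻¹) = 2 := by rw [CfsgLib.Invol.orderOf_conj_eq, hz]
    have hsub : (S : Subgroup G) ⊓ stabilizer G (v • A) ≤ stabilizer G A := by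
      rintro x ⟨hxS, hxB⟩
      have h1 : v⁻¹ * x * v ∈ stabilizer G A := by
        have := conj_mem_stab (g := v⁻¹) hxB
        rwa [inv_inv, inv_smul_smul] at this
      have h2 : v⁻¹ * x * v ∈ R := hSR.le
        ⟨(S : Subgroup G).mul_mem ((S : Subgroup G).mul_mem ((S : Subgroup G).inv_mem hvS) hxS) hvS, h1⟩
      have h3 := hconj _ h2
      simp only [mul_assoc, mul_inv_cancel_left, mul_inv_cancel, mul_one] at h3
      exact hRle h3
    refine Or.inr (key (B := v • A) (fun h => hvA (mem_stabilizer_iff.2 h)) hB hy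
      ⟨hSR.ge (hconj z hzR), conj_mem_fix hzK⟩ hsub (Or.inr ⟨v, fun x => ⟨fun hx => ?_, fun hx => ?_⟩⟩))
    · refine ⟨(hSR.ge (hconj' x (hSR.le hx.1))).1, ?_⟩
      have := conj_mem_fix (g := v⁻¹) hx.2
      rwa [inv_inv, inv_smul_smul] at this
    · have h1 := conj_mem_fix (g := v) hx.2
      have h2 := hconj _ (hSR.le ⟨hx.1, fixing_le_stab A hx.2⟩)
      have e : v * (v⁻¹ * x * v) * v⁻¹ = x := by group
      rw [e] at h1 h2
      exact ⟨hSR.ge h2, h1⟩

end CfsgLib.Fixity4
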