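import Cfsg.Agent.Fixity4.PairLemma
import Cfsg.Agent.Invol.Dihedral
import Cfsg.Agent.Invol.FocalTransfer
import Cfsg.Agent.Solvable.PGroupBasic

/-!
The case in which a Sylow 2-subgroup preserves a quadruple and every involution moving it is fixed-point-free.
-/

set_option autoImplicit false
set_option linter.unusedSectionVars false
set_option linter.style.haveILetI false

namespace CfsgLib.Fixity4

open Subgroup MulAction
open scoped Pointwise

variable {G Ω : Type*} [Group G] [MulAction G Ω] [Finite G] [Finite Ω] [FaithfulSMul G Ω]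

/-- The hypotheses of the fixed-point-free case. -/
structure Free (S : Sylow 2 G) (A : Set Ω) : Prop where
  ctx : Ctx G Ω
  hA : Nat.card A = 4
  hSA : (S : Subgroup G) ≤ stabilizer G A
  free : ∀ u ∈ (S : Subgroup G), orderOf u = 2 → u ∉ fixingSubgroup G A → fixedBy Ω u = ∅

namespace Free

variable {S : Sylow 2 G} {A : Set Ω}

theorem fix_nonempty (d : Free S A) {x : G} (hx : x ∈ fixingSubgroup G A) : (fixedBy Ω x).Nonempty := by
  obtain ⟨a, ha⟩ := nonempty_of_card (A := A) (by rw [d.hA]; norm_num)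
  exact ⟨a, mem_fix.1 hx ha⟩

/-- Involutions of the stabiliser moving `A` are fixed-point-free. -/
theorem free_stab (d : Free S A) {u : G} (hu : orderOf u = 2) (huA : u ∈ stabilizer G A)
    (hun : u ∉ fixingSubgroup G A) : fixedBy Ω u = ∅ := by
  haveI : Fact (Nat.Prime 2) := ⟨Nat.prime_two⟩
  obtain ⟨m, hm, hmu⟩ := exists_conj_mem_elem S.isPGroup' d.hSA (sylow_max S _) ⟨1, by rw [hu, pow_one]⟩ huA
  have h := d.free _ hmu (by rw [CfsgLib.Invol.orderOf_conj_eq, hu]) fun h => hun (by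
    have := conj_mem_fix_of_stab ((stabilizer G A).inv_mem hm) h
    simpa [mul_assoc] using this)
  rw [fixedBy_conj] at h
  exact Set.smul_set_eq_empty.1 h

/-- An involution of a conjugate stabiliser with a fixed point lies in its kernel. -/
theorem kernel_of_fixed (d : Free S A) {u g : G} (hu : orderOf u = 2) (huA : u ∈ stabilizer G (g • A))
    (hne : (fixedBy Ω u).Nonempty) : u ∈ fixingSubgroup G (g • A) := by
  by_contra hn
  have h1 : g⁻¹ * u * g ∈ stabilizer G A := by
    have := conj_mem_stab (g := g⁻¹) huA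
    rwa [inv_inv, inv_smul_smul] at this
  have h2 : g⁻¹ * u * g ∉ fixingSubgroup G A := fun h => hn (by
    have := conj_mem_fix (g := g) h
    simpa [mul_assoc] using this)
  have h3 := d.free_stab (by
    have := CfsgLib.Invol.orderOf_conj_eq g⁻¹ u
    rw [inv_inv] at this
    rw [this, hu]) h1 h2
  rw [show g⁻¹ * u * g = g⁻¹ * u * g⁻¹⁻¹ by rw [inv_inv], fixedBy_conj, Set.smul_set_eq_empty] at h3
  exact hne.ne_empty h3

/-- Every element of the Sylow subgroup induces an even permutation on `A`. -/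
theorem even_img (d : Free S A) [Fintype A] [DecidableEq A] (s : (S : Subgroup G)) :
    Equiv.Perm.sign (res A (inclusion d.hSA s)) = 1 := by
  haveI : Fact (Nat.Prime 2) := ⟨Nat.prime_two⟩
  set χ : (S : Subgroup G) →* ℤˣ := Equiv.Perm.sign.comp ((res A).comp (inclusion d.hSA)) with hχ
  let e : A ≃ Fin 4 := (Finite.equivFin A).trans (finCongr d.hA)
  let φ := e.permCongrHom
  let Odd' : G → Prop := fun x => Nat.card (fixedBy Ω x) = 2 ∨ fixedBy Ω (x * x) = ∅
  have hpow8 : ∀ x : (S : Subgroup G), φ (res A (inclusion d.hSA x)) ^ 8 = 1 := by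
    intro x
    obtain ⟨j, hj, hdvd⟩ := img_dvd (d.hSA) S.isPGroup'
    have hmem : res A (inclusion d.hSA x) ∈ ((res A).comp (inclusion d.hSA)).range := ⟨x, rfl⟩
    have h8 : Nat.card ((res A).comp (inclusion d.hSA)).range ∣ 8 := by
      rw [hj]
      refine pow_dvd_pow (m := j) (n := 3) 2 ?_
      by_contra h
      rw [d.hA] at hdvd
      have : 2 ^ 4 ∣ Nat.factorial 4 := (pow_dvd_pow 2 (by omega : 4 ≤ j)).trans hdvd
      norm_num [Nat.factorial] at this
    have h1 : (⟨_, hmem⟩ : ((res A).comp (inclusion d.hSA)).range) ^ 8 = 1 :=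
      orderOf_dvd_iff_pow_eq_one.1 ((_root_.orderOf_dvd_natCard _).trans h8)
    have h2 : res A (inclusion d.hSA x) ^ 8 = 1 := congrArg Subtype.val h1
    rw [← map_pow, h2, map_one]
  have hfixA : ∀ x : (S : Subgroup G), ∀ a : A, φ (res A (inclusion d.hSA x)) (e a) = e a ↔ (x : G) • (a : Ω) = a := by
    intro x a
    simp [φ, Equiv.permCongrHom, Equiv.permCongr_apply, Subtype.ext_iff]
  have hodd : ∀ x : (S : Subgroup G), χ x = -1 → Odd' x := by
    intro x hx
    have hs : Equiv.Perm.sign (φ (res A (inclusion d.hSA x))) = -1 := by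
      rw [← hx]; exact Equiv.Perm.sign_permCongr e _
    rcases perm4_odd _ hs (hpow8 x) with ⟨hsq, htwo⟩ | ⟨hfp, hfp2, hfour⟩
    · left
      have hxK : (x : G) * x ∈ fixingSubgroup G A := by
        have h1 : res A (inclusion d.hSA (x * x)) = 1 := by
          rw [map_mul, map_mul]
          apply φ.injective
          rw [map_mul, map_one, hsq]
        exact res_eq_one.1 h1
      have hcount : Nat.card ↥(A ∩ fixedBy Ω (x : G)) = 2 := by
        refine Eq.trans ?_ htwo
        rw [← Fintype.card_subtype, ← Nat.card_eq_fintype_card]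
        refine Nat.card_congr ?_
        exact (Equiv.subtypeSubtypeEquivSubtypeInter (· ∈ A) (· ∈ fixedBy Ω (x : G))).symm.trans
          (e.subtypeEquiv fun a => (hfixA x a).symm)
      have hxx : (x : G) * x ≠ 1 := by
        intro h1
        have h2 : orderOf (x : G) = 2 := CfsgLib.Invol.orderOf_eq_two h1 fun h => by
          have hxone : x = 1 := Subtype.ext h
          rw [hxone, map_one] at hx
          exact absurd hx (by decide)
        have h3 : (x : G) ∉ fixingSubgroup G A := fun h => by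
          have : res A (inclusion d.hSA x) = 1 := res_eq_one.2 h
          rw [this, map_one, map_one] at hs
          exact absurd hs (by decide)
        have := d.free x x.2 h2 h3
        rw [this, Set.inter_empty] at hcount
        simp at hcount
      have hfx := d.ctx.fix_eq4 d.hA hxx hxK
      have hsub : fixedBy Ω (x : G) ⊆ A := fun a ha => hfx ▸ (by
        rw [mem_fixedBy] at ha ⊢
        rw [mul_smul, ha, ha])
      rwa [Set.inter_eq_right.2 hsub] at hcount
    · right
      set q : G := (x : G) * x with hq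
      have hqS : q ∈ (S : Subgroup G) := (S : Subgroup G).mul_mem x.2 x.2
      have hqA : ∀ a ∈ A, q • a ≠ a := by
        intro a ha h
        refine hfp2 (e ⟨a, ha⟩) ?_
        have := (hfixA (x * x) ⟨a, ha⟩).2 h
        rwa [map_mul, map_mul, map_mul] at this
      obtain ⟨a₀, ha₀⟩ := nonempty_of_card (A := A) (by rw [d.hA]; norm_num)
      have hqn : q ∉ fixingSubgroup G A := fun h => hqA a₀ ha₀ (mem_fix.1 h ha₀)
      have hq1 : q ≠ 1 := fun h => hqn (h ▸ one_mem _)
      by_cases hqq : q * q = 1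
      · exact d.free q hqS (CfsgLib.Invol.orderOf_eq_two hqq hq1) hqn
      · have hqK : q * q ∈ fixingSubgroup G A := by
          have h1 : res A (inclusion d.hSA (x * x * (x * x))) = 1 := by
            simp only [map_mul]
            apply φ.injective
            simp only [map_mul, map_one]
            exact hfour
          exact res_eq_one.1 h1
        refine Set.eq_empty_iff_forall_notMem.2 fun a ha => ?_
        have ha' : a ∈ fixedBy Ω (q * q) := by
          rw [mem_fixedBy] at ha ⊢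
          rw [mul_smul, ha, ha]
        rw [d.ctx.fix_eq4 d.hA hqq hqK] at ha'
        exact hqA a ha' ha
  have heven : ∀ x : (S : Subgroup G), χ x = 1 → ¬ Odd' x := by
    intro x hx
    have hs : Equiv.Perm.sign (φ (res A (inclusion d.hSA x))) = 1 := by
      rw [← hx]; exact Equiv.Perm.sign_permCongr e _
    obtain ⟨hsq, hcase⟩ := perm4_even _ hs (hpow8 x)
    have hxK : (x : G) * x ∈ fixingSubgroup G A := by
      have h1 : res A (inclusion d.hSA (x * x)) = 1 := by
        rw [map_mul, map_mul]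
        apply φ.injective
        rw [map_mul, map_one, hsq]
      exact res_eq_one.1 h1
    rintro (h2 | h2)
    · rcases hcase with h1 | hfp
      · have hK : (x : G) ∈ fixingSubgroup G A := res_eq_one.1 (φ.injective (h1.trans (map_one φ).symm))
        by_cases hx1 : (x : G) = 1
        · rw [hx1, fixedBy_one_eq_univ, Nat.card_univ] at h2
          have := d.ctx.five
          omega
        · rw [d.ctx.fix_eq4 d.hA hx1 hK, d.hA] at h2
          omega
      · have hxA : ∀ a ∈ A, (x : G) • a ≠ a := fun a ha h => hfp (e ⟨a, ha⟩) ((hfixA x ⟨a, ha⟩).2 h)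
        obtain ⟨a₀, ha₀⟩ := nonempty_of_card (A := A) (by rw [d.hA]; norm_num)
        have hxn : (x : G) ∉ fixingSubgroup G A := fun h => hxA a₀ ha₀ (mem_fix.1 h ha₀)
        have : fixedBy Ω (x : G) = ∅ := by
          by_cases hxx : (x : G) * x = 1
          · exact d.free x x.2 (CfsgLib.Invol.orderOf_eq_two hxx fun h => hxn (h ▸ one_mem _)) hxn
          · refine Set.eq_empty_iff_forall_notMem.2 fun a ha => ?_
            have ha' : a ∈ fixedBy Ω ((x : G) * x) := by
              rw [mem_fixedBy] at ha ⊢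
              rw [mul_smul, ha, ha]
            rw [d.ctx.fix_eq4 d.hA hxx hxK] at ha'
            exact hxA a ha' ha
        rw [this] at h2
        simp at h2
    · exact (d.fix_nonempty hxK).ne_empty h2
  have hconj : ∀ g x : G, Odd' (g * x * g⁻¹) ↔ Odd' x := by
    intro g x
    simp only [Odd']
    rw [show g * x * g⁻¹ * (g * x * g⁻¹) = g * (x * x) * g⁻¹ by group, fixedBy_conj, fixedBy_conj,
      Set.smul_set_eq_empty, Nat.card_coe_set_eq, Nat.card_coe_set_eq, Set.ncard_smul_set]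
  by_contra hne
  have hne' : χ ⟨s, s.2⟩ ≠ 1 := hne
  refine CfsgLib.FocalTransfer.transfer_ne_one χ
    ((Nat.Prime.coprime_iff_not_dvd Nat.prime_two).2 S.not_dvd_index) s.2 (pgroup_order S.isPGroup' s.2) hne'
    (fun k g₀ h => ?_) (d.ctx.hom_trivial _ _)
  rw [← map_pow]
  set x : (S : Subgroup G) := ⟨(s : G), s.2⟩ ^ k with hx
  have hiff : Odd' (g₀⁻¹ * (s : G) ^ k * g₀) ↔ Odd' (x : G) := by
    have := hconj g₀⁻¹ ((s : G) ^ k)
    rwa [inv_inv] at this
  rcases Int.units_eq_one_or (χ x) with h1 | h1 <;>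
    rcases Int.units_eq_one_or (χ ⟨_, h⟩) with h2 | h2 <;> rw [h1, h2]
  · exact absurd (hiff.1 (hodd ⟨_, h⟩ h2)) (heven x h1)
  · exact absurd (hiff.2 (hodd x h1)) (heven ⟨_, h⟩ h2)

/-- The image on `A` of a 2-element of the stabiliser is semiregular of exponent two. -/
theorem two_img (d : Free S A) {x : G} (hx : ∃ j, orderOf x = 2 ^ j) (hxA : x ∈ stabilizer G A) :
    x * x ∈ fixingSubgroup G A ∧ (x ∈ fixingSubgroup G A ∨ ∀ a ∈ A, x • a ≠ a) := by
  classical
  haveI : Fact (Nat.Prime 2) := ⟨Nat.prime_two⟩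
  haveI := Fintype.ofFinite A
  obtain ⟨m, hm, hmx⟩ := exists_conj_mem_elem S.isPGroup' d.hSA (sylow_max S _) hx hxA
  set s : (S : Subgroup G) := ⟨_, hmx⟩
  let e : A ≃ Fin 4 := (Finite.equivFin A).trans (finCongr d.hA)
  let φ := e.permCongrHom
  have hs : Equiv.Perm.sign (φ (res A (inclusion d.hSA s))) = 1 :=
    (Equiv.Perm.sign_permCongr e _).trans (d.even_img s)
  have h8 : φ (res A (inclusion d.hSA s)) ^ 8 = 1 := by
    obtain ⟨j, hj⟩ := pgroup_order S.isPGroup' s.2
    have h1 : orderOf (φ (res A (inclusion d.hSA s))) ∣ 2 ^ j := by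
      rw [← hj, Subgroup.orderOf_coe]
      exact orderOf_map_dvd (φ.toMonoidHom.comp ((res A).comp (inclusion d.hSA))) s
    obtain ⟨i, -, hi⟩ := (Nat.dvd_prime_pow Nat.prime_two).1 h1
    rw [← orderOf_dvd_iff_pow_eq_one, hi]
    refine pow_dvd_pow (m := i) (n := 3) 2 ?_
    by_contra h
    have h2 : 2 ^ 4 ∣ orderOf (φ (res A (inclusion d.hSA s))) := by
      rw [hi]; exact pow_dvd_pow 2 (by omega)
    have h3 := h2.trans (_root_.orderOf_dvd_natCard _)
    rw [Nat.card_perm, Nat.card_eq_fintype_card, Fintype.card_fin] at h3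
    norm_num [Nat.factorial] at h3
  obtain ⟨hsq, hcase⟩ := perm4_even _ hs h8
  have hmm : ∀ y : G, m * y * m⁻¹ ∈ fixingSubgroup G A → y ∈ fixingSubgroup G A := fun y hy => by
    have := conj_mem_fix_of_stab ((stabilizer G A).inv_mem hm) hy
    simpa [mul_assoc] using this
  refine ⟨hmm _ ?_, ?_⟩
  · have h1 : res A (inclusion d.hSA (s * s)) = 1 := by
      rw [map_mul, map_mul]
      apply φ.injective
      rw [map_mul, map_one, hsq]
    have h2 : (s : G) * s ∈ fixingSubgroup G A := res_eq_one.1 h1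
    rwa [show m * (x * x) * m⁻¹ = m * x * m⁻¹ * (m * x * m⁻¹) by group]
  · rcases hcase with h | h
    · exact Or.inl (hmm x (res_eq_one.1 (φ.injective (h.trans (map_one φ).symm))))
    · refine Or.inr fun a ha hfa => h (e ⟨m • a, smul_mem_of_stab hm ha⟩) ?_
      have : (s : G) • (m • a) = m • a := by
        show (m * x * m⁻¹) • m • a = m • a
        rw [mul_smul, mul_smul, inv_smul_smul, hfa]
      simp [φ, Equiv.permCongrHom, Equiv.permCongr_apply, Subtype.ext_iff, this]

/-- Squares of elements centralizing an involution that moves `A` fix `A`. -/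
theorem sq_mem (d : Free S A) {x w : G} (hw : orderOf w = 2) (hwA : w ∈ stabilizer G A)
    (hwn : w ∉ fixingSubgroup G A) (hxA : x ∈ stabilizer G A) (hxw : w * x = x * w) :
    x * x ∈ fixingSubgroup G A := by
  classical
  haveI := Fintype.ofFinite A
  let e : A ≃ Fin 4 := (Finite.equivFin A).trans (finCongr d.hA)
  let φ := e.permCongrHom
  set W := φ (res A ⟨w, hwA⟩) with hW
  set X := φ (res A ⟨x, hxA⟩) with hX
  have hWW : W * W = 1 := by
    rw [hW, ← map_mul, ← map_mul, show (⟨w, hwA⟩ : stabilizer G A) * ⟨w, hwA⟩ = 1 from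
      Subtype.ext (CfsgLib.Invol.mul_self_eq_one hw), map_one, map_one]
  have hWfp : ∀ i, W i ≠ i := by
    intro i h
    have hfree := d.free_stab hw hwA hwn
    have h' : w • ((e.symm i : A) : Ω) = e.symm i := by
      have h2 : res A ⟨w, hwA⟩ (e.symm i) = e.symm i := e.injective (by
        rw [e.apply_symm_apply]
        simpa [W, φ, Equiv.permCongrHom, Equiv.permCongr_apply] using h)
      exact congrArg Subtype.val h2
    have : ((e.symm i : A) : Ω) ∈ fixedBy Ω w := h'
    rw [hfree] at this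
    exact this
  have hcomm : W * X = X * W := by
    rw [hW, hX, ← map_mul, ← map_mul, ← map_mul, ← map_mul]
    exact congrArg φ (congrArg (res A) (Subtype.ext hxw))
  have h4 := perm4_fpf W hWW hWfp X hcomm
  set k := orderOf x with hk
  have hkpos : 0 < k := orderOf_pos x
  obtain ⟨a, b, hb, hab⟩ := Nat.exists_eq_two_pow_mul_odd hkpos.ne'
  have h2el : ∃ j, orderOf (x ^ b) = 2 ^ j := by
    refine ⟨a, ?_⟩
    rw [orderOf_pow' _ hb.pos.ne', ← hk, hab, Nat.gcd_eq_right (dvd_mul_left b _), Nat.mul_div_cancel _ hb.pos]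
  have hbK := (d.two_img h2el ((stabilizer G A).pow_mem hxA b)).1
  have hXb : X ^ (b + b) = 1 := by
    have h1 : res A (⟨x, hxA⟩ ^ (b + b)) = 1 := by
      refine res_eq_one.2 ?_
      rw [SubmonoidClass.coe_pow, pow_add]
      exact hbK
    rw [hX, ← map_pow, ← map_pow, h1, map_one]
  have h4' : X ^ 4 = 1 := by
    calc X ^ 4 = X ^ 2 * X ^ 2 := pow_add X 2 2
      _ = 1 := by rw [pow_two]; exact h4
  have hg : Nat.gcd (b + b) 4 = 2 := by
    rw [← two_mul, show (4 : ℕ) = 2 * 2 from rfl, Nat.gcd_mul_left, hb.coprime_two_right.gcd_eq_one, mul_one]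
  have hX2 : X ^ Nat.gcd (b + b) 4 = 1 := pow_gcd_eq_one.2 ⟨hXb, h4'⟩
  rw [hg, pow_two, hX, ← map_mul, ← map_mul] at hX2
  exact res_eq_one.1 (φ.injective (hX2.trans (map_one φ).symm))

section LemmaX

variable {w : G}

/-- The conjugates of `A` under the centralizer of `w`. -/
def Quads (w : G) (A : Set Ω) : Type _ := {X : Set Ω // ∃ c : G, c * w = w * c ∧ c • A = X}

instance : Finite (Quads w A) := inferInstanceAs (Finite {X : Set Ω // ∃ c : G, c * w = w * c ∧ c • A = X})

/-- An involution centralizing `w` and fixing a member of `Quads` moves every other member. -/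
theorem moves (d : Free S A) (X Y : Quads w A) {t : G} (ht : orderOf t = 2)
    (htX : t ∈ fixingSubgroup G X.1) (hXY : X.1 ≠ Y.1) : t • Y.1 ≠ Y.1 := by
  obtain ⟨cX, -, hcX⟩ := X.2
  obtain ⟨cY, -, hcY⟩ := Y.2
  intro h
  have ht1 := CfsgLib.Invol.ne_one ht
  have hfix := d.ctx.fix_eq4 (A := X.1) (by
    rw [← hcX, Nat.card_coe_set_eq, Set.ncard_smul_set, ← Nat.card_coe_set_eq, d.hA]) ht1 htX
  have hne : (fixedBy Ω t).Nonempty := by
    rw [hfix, ← hcX]
    exact (nonempty_of_card (A := A) (by rw [d.hA]; norm_num)).smul_set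
  have htY := d.kernel_of_fixed (g := cY) ht (mem_stabilizer_iff.2 (by rw [hcY]; exact h)) hne
  rw [hcY] at htY
  exact hXY (hfix.symm.trans (d.ctx.fix_eq4 (by
    rw [← hcY, Nat.card_coe_set_eq, Set.ncard_smul_set, ← Nat.card_coe_set_eq, d.hA]) ht1 htY))

/-- Two such involutions moving one member in the same way are equal. -/
theorem swap_unique (d : Free S A) (hw : orderOf w = 2) (hwA : w ∈ stabilizer G A)
    (hwn : w ∉ fixingSubgroup G A) (X₁ X₂ Y : Quads w A) {t s : G} (ht : orderOf t = 2) (hs : orderOf s = 2)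
    (htw : t * w = w * t) (hsw : s * w = w * s) (htX : t ∈ fixingSubgroup G X₁.1)
    (hsX : s ∈ fixingSubgroup G X₂.1) (hX₁Y : X₁.1 ≠ Y.1) (hst : t • Y.1 = s • Y.1) : t = s := by
  have htt := CfsgLib.Invol.mul_self_eq_one ht
  have hss := CfsgLib.Invol.mul_self_eq_one hs
  set x := s * t with hx
  have hsY : x • Y.1 = Y.1 := by rw [hx, mul_smul, hst, ← mul_smul, hss, one_smul]
  have htY : x • (t • Y.1) = t • Y.1 := by rw [hx, mul_smul, ← mul_smul t t, htt, one_smul, hst]
  have hxw : w * x = x * w := by rw [hx, ← mul_assoc, ← hsw, mul_assoc, ← htw, mul_assoc]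
  have hsq : ∀ Z : Set Ω, (∃ c : G, c * w = w * c ∧ c • A = Z) → x • Z = Z → x * x ∈ fixingSubgroup G Z := by
    rintro Z ⟨c, hcw, rfl⟩ hZ
    have h1 : c⁻¹ * x * c ∈ stabilizer G A := by
      rw [mem_stabilizer_iff, mul_smul, mul_smul, hZ, inv_smul_smul]
    have hci : c⁻¹ * w * c = w := by rw [mul_assoc, ← hcw]; group
    have h2 := d.sq_mem hw hwA hwn h1 (by
      calc w * (c⁻¹ * x * c) = c⁻¹ * w * c * (c⁻¹ * x * c) := by rw [hci]
        _ = c⁻¹ * (w * x) * c := by group
        _ = c⁻¹ * x * c * (c⁻¹ * w * c) := by rw [hxw]; group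
        _ = c⁻¹ * x * c * w := by rw [hci])
    have := conj_mem_fix (g := c) h2
    simpa [mul_assoc] using this
  obtain ⟨cY, hcYw, hcY⟩ := Y.2
  have hY4 : Nat.card Y.1 = 4 := by
    rw [← hcY, Nat.card_coe_set_eq, Set.ncard_smul_set, ← Nat.card_coe_set_eq, d.hA]
  have htY4 : Nat.card ↥(t • Y.1) = 4 := by
    rw [Nat.card_coe_set_eq, Set.ncard_smul_set, ← Nat.card_coe_set_eq, hY4]
  have hne : t • Y.1 ≠ Y.1 := d.moves X₁ Y ht htX hX₁Y
  have hxx : x * x = 1 := by
    by_contra h
    have e1 := d.ctx.fix_eq4 hY4 h (hsq _ Y.2 hsY)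
    have e2 := d.ctx.fix_eq4 htY4 h (hsq _ ⟨t * cY, by rw [mul_assoc, hcYw, ← mul_assoc, htw, mul_assoc],
      by rw [mul_smul, hcY]⟩ htY)
    exact hne (e2.symm.trans e1)
  have hcomm : s * t = t * s := by
    rw [hx] at hxx
    calc s * t = (s * t)⁻¹ := (inv_eq_of_mul_eq_one_right hxx).symm
      _ = t * s := by rw [mul_inv_rev, CfsgLib.Invol.inv_eq_self ht, CfsgLib.Invol.inv_eq_self hs]
  obtain ⟨c1, hc1w, hc1⟩ := X₁.2
  obtain ⟨c2, hc2w, hc2⟩ := X₂.2
  have hX2 : Nat.card X₂.1 = 4 := by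
    rw [← hc2, Nat.card_coe_set_eq, Set.ncard_smul_set, ← Nat.card_coe_set_eq, d.hA]
  have hX12 : X₂.1 = X₁.1 := by
    by_contra hne'
    have h := mem_stab_of_commute (Ω := Ω) hcomm.symm
    rw [d.ctx.fix_eq4 hX2 (CfsgLib.Invol.ne_one hs) hsX] at h
    exact d.moves X₁ X₂ ht htX (Ne.symm hne') (mem_stabilizer_iff.1 h)
  by_contra hts
  have hx1 : x ≠ 1 := by
    intro h
    rw [hx, mul_eq_one_iff_eq_inv, CfsgLib.Invol.inv_eq_self ht] at h
    exact hts h.symm
  exact d.moves X₁ Y (CfsgLib.Invol.orderOf_eq_two hxx hx1) (mul_mem (hX12 ▸ hsX) htX) hX₁Y hsY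

/-- A chosen conjugating element for a member. -/
noncomputable def rep (X : Quads w A) : G := X.2.choose

theorem rep_spec (X : Quads w A) : rep X * w = w * rep X ∧ rep X • A = X.1 := X.2.choose_spec

theorem conj_props (X : Quads w A) {i : G} (hi : orderOf i = 2) (hiw : i * w = w * i)
    (hiA : i ∈ fixingSubgroup G A) :
    orderOf (rep X * i * (rep X)⁻¹) = 2 ∧ rep X * i * (rep X)⁻¹ * w = w * (rep X * i * (rep X)⁻¹) ∧
      rep X * i * (rep X)⁻¹ ∈ fixingSubgroup G X.1 := by
  obtain ⟨h1, h2⟩ := rep_spec X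
  refine ⟨by rw [CfsgLib.Invol.orderOf_conj_eq, hi], ?_, ?_⟩
  · have hci : (rep X)⁻¹ * w = w * (rep X)⁻¹ := by
      calc (rep X)⁻¹ * w = (rep X)⁻¹ * (w * rep X) * (rep X)⁻¹ := by group
        _ = w * (rep X)⁻¹ := by rw [← h1]; group
    rw [mul_assoc, hci, ← mul_assoc, mul_assoc (rep X), hiw, ← mul_assoc, h1, mul_assoc, mul_assoc, mul_assoc]
  · have := conj_mem_fix (g := rep X) hiA
    rwa [h2] at this

/-- Off-diagonal pairs of members. -/
abbrev Pairs (w : G) (A : Set Ω) := {p : Quads w A × Quads w A // p.1.1 ≠ p.2.1}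

/-- The map recording how the conjugate of `i` at the first member moves the second. -/
noncomputable def sigma (d : Free S A) {i : G} (hi : orderOf i = 2) (hiw : i * w = w * i)
    (hiA : i ∈ fixingSubgroup G A) (p : Pairs w A) : Pairs w A :=
  ⟨(⟨(rep p.1.1 * i * (rep p.1.1)⁻¹) • p.1.2.1,
      rep p.1.1 * i * (rep p.1.1)⁻¹ * rep p.1.2, by
        rw [mul_assoc, (rep_spec p.1.2).1, ← mul_assoc, (conj_props p.1.1 hi hiw hiA).2.1, mul_assoc],
      by rw [mul_smul, (rep_spec p.1.2).2]⟩, p.1.2),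
    d.moves p.1.1 p.1.2 (conj_props p.1.1 hi hiw hiA).1 (conj_props p.1.1 hi hiw hiA).2.2 p.2⟩

theorem sigma_inj (d : Free S A) (hw : orderOf w = 2) (hwA : w ∈ stabilizer G A)
    (hwn : w ∉ fixingSubgroup G A) {i j : G} (hi : orderOf i = 2) (hiw : i * w = w * i)
    (hiA : i ∈ fixingSubgroup G A) (hj : orderOf j = 2) (hjw : j * w = w * j)
    (hjA : j ∈ fixingSubgroup G A) {p q : Pairs w A} (h : sigma d hi hiw hiA p = sigma d hj hjw hjA q) :
    i = j ∧ p = q := by
  have h0 : p.1.2 = q.1.2 := by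
    have := congrArg (fun r : Pairs w A => r.1.2) h
    exact this
  have hY : p.1.2.1 = q.1.2.1 := congrArg Subtype.val h0
  have ht : (rep p.1.1 * i * (rep p.1.1)⁻¹) • p.1.2.1 = (rep q.1.1 * j * (rep q.1.1)⁻¹) • q.1.2.1 :=
    congrArg (fun r : Pairs w A => r.1.1.1) h
  rw [← hY] at ht
  obtain ⟨hi2, hiw', hiX⟩ := conj_props p.1.1 hi hiw hiA
  obtain ⟨hj2, hjw', hjX⟩ := conj_props q.1.1 hj hjw hjA
  have heq := d.swap_unique hw hwA hwn p.1.1 q.1.1 p.1.2 hi2 hj2 hiw' hjw' hiX hjX p.2 ht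
  have hX4 : ∀ X : Quads w A, Nat.card X.1 = 4 := fun X => by
    rw [← (rep_spec X).2, Nat.card_coe_set_eq, Set.ncard_smul_set, ← Nat.card_coe_set_eq, d.hA]
  have hX : p.1.1 = q.1.1 := Subtype.ext (by
    rw [← d.ctx.fix_eq4 (hX4 p.1.1) (CfsgLib.Invol.ne_one hi2) hiX, heq,
      d.ctx.fix_eq4 (hX4 q.1.1) (CfsgLib.Invol.ne_one hj2) hjX])
  refine ⟨?_, Subtype.ext (Prod.ext hX h0)⟩
  rw [hX] at heq
  simpa using heq

/-- A centralizer not inside the stabiliser contains at most one involution of the kernel. -/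
theorem one_invol (d : Free S A) (hw : orderOf w = 2) (hwA : w ∈ stabilizer G A)
    (hwn : w ∉ fixingSubgroup G A) {c : G} (hcw : c * w = w * c) (hc : c ∉ stabilizer G A) {i j : G}
    (hi : orderOf i = 2) (hiw : i * w = w * i) (hiA : i ∈ fixingSubgroup G A) (hj : orderOf j = 2)
    (hjw : j * w = w * j) (hjA : j ∈ fixingSubgroup G A) : i = j := by
  classical
  by_contra hne
  let Ψ : Pairs w A × Bool → Pairs w A :=
    fun q => if q.2 then sigma d hi hiw hiA q.1 else sigma d hj hjw hjA q.1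
  have hΨ : Function.Injective Ψ := by
    rintro ⟨p, b⟩ ⟨q, b'⟩ he
    cases b <;> cases b' <;> simp only [Ψ, Bool.false_eq_true, ↓reduceIte] at he
    · rw [(d.sigma_inj hw hwA hwn hj hjw hjA hj hjw hjA he).2]
    · exact absurd (d.sigma_inj hw hwA hwn hj hjw hjA hi hiw hiA he).1 (Ne.symm hne)
    · exact absurd (d.sigma_inj hw hwA hwn hi hiw hiA hj hjw hjA he).1 hne
    · rw [(d.sigma_inj hw hwA hwn hi hiw hiA hi hiw hiA he).2]
  haveI : Nonempty (Pairs w A) :=
    ⟨⟨(⟨A, 1, by simp, one_smul G A⟩, ⟨c • A, c, hcw, rfl⟩), fun h => hc (mem_stabilizer_iff.2 h.symm)⟩⟩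
  have := Nat.card_le_card_of_injective Ψ hΨ
  rw [Nat.card_prod, Nat.card_eq_fintype_card (α := Bool), Fintype.card_bool] at this
  have := Nat.card_pos (α := Pairs w A)
  omega

end LemmaX

/-- No involution outside the kernel commutes with two commuting involutions of the kernel, in a
configuration reaching out of the stabiliser. -/
theorem bad_core (d : Free S A) {u y a b : G} (hu : orderOf u = 2) (huS : u ∈ (S : Subgroup G))
    (hun : u ∉ fixingSubgroup G A) (ha : orderOf a = 2) (haS : a ∈ (S : Subgroup G))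
    (haK : a ∈ fixingSubgroup G A) (hb : orderOf b = 2) (hbS : b ∈ (S : Subgroup G))
    (hbK : b ∈ fixingSubgroup G A) (hab : a ≠ b) (hau : a * u = u * a) (hbu : b * u = u * b)
    (hy : orderOf y = 2) (hyS : y ∈ (S : Subgroup G)) (hyn : y ∉ fixingSubgroup G A)
    (hyu : y * u = u * y) {c₀ : G} (hc₀ : c₀ * y = y * c₀) (hc₀A : c₀ ∉ stabilizer G A) {z : G}
    (hz : orderOf z = 2) (hzS : z ∈ (S : Subgroup G)) (hzK : z ∈ fixingSubgroup G A)
    (hzc : ∀ x ∈ (S : Subgroup G), x * z = z * x) : False := by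
  classical
  have hyA := d.hSA hyS
  have hzy : z * y = y * z := (hzc y hyS).symm
  -- the centralizers of `u` and `uz` stay in the stabiliser
  have hcen : ∀ v : G, orderOf v = 2 → v ∈ (S : Subgroup G) → v ∉ fixingSubgroup G A →
      a * v = v * a → b * v = v * b → ∀ c : G, c * v = v * c → c ∈ stabilizer G A := by
    intro v hv hvS hvn hav hbv c hcv
    by_contra hc
    exact hab (d.one_invol hv (d.hSA hvS) hvn hcv hc ha hav haK hb hbv hbK)
  have hCu := hcen u hu huS hun hau hbu
  have huz : orderOf (u * z) = 2 := CfsgLib.Invol.orderOf_eq_two (by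
    rw [mul_assoc, ← mul_assoc z u z, ← hzc u huS, mul_assoc u z z, CfsgLib.Invol.mul_self_eq_one hz,
      mul_one, CfsgLib.Invol.mul_self_eq_one hu]) (by
    intro h
    exact hun (by rw [mul_eq_one_iff_eq_inv.1 h]; exact inv_mem hzK))
  have huzn : u * z ∉ fixingSubgroup G A := fun h => hun (by simpa using mul_mem h (inv_mem hzK))
  have hCuz := hcen (u * z) huz ((S : Subgroup G).mul_mem huS hzS) huzn
    (by rw [← mul_assoc, hau, mul_assoc, hzc a haS, mul_assoc])
    (by rw [← mul_assoc, hbu, mul_assoc, hzc b hbS, mul_assoc])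
  -- a preserved member is the base member
  have hbase : ∀ v : G, v * y = y * v → (∀ c : G, c * v = v * c → c ∈ stabilizer G A) →
      ∀ X : Quads y A, v • X.1 = X.1 → X.1 = A := by
    intro v hvy hCv X hvX
    obtain ⟨ht, hty, htX⟩ := conj_props X hz hzy hzK
    set t := rep X * z * (rep X)⁻¹ with htdef
    by_contra hne
    obtain ⟨hrep1, hrep2⟩ := rep_spec X
    have hs : v * t * v⁻¹ = t := by
      have h1 := conj_mem_fix_of_stab (mem_stabilizer_iff.2 hvX) htX
      have h2 : (rep X)⁻¹ * (v * t * v⁻¹) * rep X ∈ fixingSubgroup G A := by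
        have := conj_mem_fix (g := (rep X)⁻¹) h1
        rw [inv_inv, ← hrep2, inv_smul_smul] at this
        exact this
      have hri : (rep X)⁻¹ * y * rep X = y := by rw [mul_assoc, ← hrep1]; group
      have hvi : v⁻¹ * y * v = y := by rw [mul_assoc, ← hvy]; group
      have hzz := d.one_invol hy hyA hyn hc₀ hc₀A (i := (rep X)⁻¹ * (v * t * v⁻¹) * rep X)
        (by
          have := CfsgLib.Invol.orderOf_conj_eq (rep X)⁻¹ (v * t * v⁻¹)
          rw [inv_inv, CfsgLib.Invol.orderOf_conj_eq, ht] at this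
          exact this)
        (by
          have hvty : v * t * v⁻¹ * y = y * (v * t * v⁻¹) := by
            calc v * t * v⁻¹ * y = v * t * (v⁻¹ * y * v) * v⁻¹ := by group
              _ = v * (t * y) * v⁻¹ := by rw [hvi]; group
              _ = v * y * t * v⁻¹ := by rw [hty]; group
              _ = y * (v * t * v⁻¹) := by rw [hvy]; group
          calc (rep X)⁻¹ * (v * t * v⁻¹) * rep X * y
              = (rep X)⁻¹ * (v * t * v⁻¹) * rep X * ((rep X)⁻¹ * y * rep X) := by rw [hri]
            _ = (rep X)⁻¹ * (v * t * v⁻¹ * y) * rep X := by group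
            _ = (rep X)⁻¹ * y * rep X * ((rep X)⁻¹ * (v * t * v⁻¹) * rep X) := by rw [hvty]; group
            _ = y * ((rep X)⁻¹ * (v * t * v⁻¹) * rep X) := by rw [hri])
        h2 hz hzy hzK
      rw [htdef] at hzz ⊢
      calc v * (rep X * z * (rep X)⁻¹) * v⁻¹
          = rep X * ((rep X)⁻¹ * (v * (rep X * z * (rep X)⁻¹) * v⁻¹) * rep X) * (rep X)⁻¹ := by group
        _ = rep X * z * (rep X)⁻¹ := by rw [hzz]
    have htv : t * v = v * t := by rw [mul_inv_eq_iff_eq_mul] at hs; exact hs.symm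
    have htA := hCv t htv
    exact d.moves X ⟨A, 1, by simp, one_smul G A⟩ ht htX hne (mem_stabilizer_iff.1 htA)
  have hA' : Quads y A := ⟨A, 1, by simp, one_smul G A⟩
  let δ : Quads y A := ⟨c₀ • A, c₀, hc₀, rfl⟩
  have hδ : δ.1 ≠ A := fun h => hc₀A (mem_stabilizer_iff.2 h)
  have hβδ : u • δ.1 ≠ δ.1 := fun h => hδ (hbase u hyu.symm hCu δ h)
  let β : Quads y A := ⟨u • δ.1, u * c₀, by rw [mul_assoc, hc₀, ← mul_assoc, ← hyu, mul_assoc],
    by rw [mul_smul]⟩
  -- a conjugate of `z` interchanges `δ` and `β`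
  let σ := sigma d hz hzy hzK
  have hσ : Function.Injective σ := fun p q h => (d.sigma_inj hy hyA hyn hz hzy hzK hz hzy hzK h).2
  obtain ⟨⟨⟨X, Y⟩, hXY⟩, hp⟩ := (Finite.injective_iff_surjective.1 hσ) ⟨(β, δ), hβδ⟩
  have hY : Y = δ := congrArg (fun r : Pairs y A => r.1.2) hp
  subst hY
  obtain ⟨ht, hty, htX⟩ := conj_props X hz hzy hzK
  set t := rep X * z * (rep X)⁻¹ with htdef
  have htδ : t • δ.1 = u • δ.1 := congrArg (fun r : Pairs y A => r.1.1.1) hp
  have htt := CfsgLib.Invol.mul_self_eq_one ht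
  have huu := CfsgLib.Invol.mul_self_eq_one hu
  have hui := CfsgLib.Invol.inv_eq_self hu
  set t' := u * t * u⁻¹ with ht'
  have ht'δ : t' • δ.1 = u • δ.1 := by
    rw [ht', hui, mul_smul, mul_smul, ← htδ, ← mul_smul t t, htt, one_smul, htδ]
  let X' : Quads y A := ⟨u • X.1, u * rep X, by
    rw [mul_assoc, (rep_spec X).1, ← mul_assoc, ← hyu, mul_assoc], by rw [mul_smul, (rep_spec X).2]⟩
  have hyu' : u⁻¹ * y * u = y := by rw [mul_assoc, hyu]; group
  have hu_eq := d.swap_unique hy hyA hyn X X' δ ht (by rw [CfsgLib.Invol.orderOf_conj_eq, ht]) hty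
    (by
      calc t' * y = u * t * (u⁻¹ * y * u) * u⁻¹ := by rw [ht']; group
        _ = u * (t * y) * u⁻¹ := by rw [hyu']; group
        _ = u * y * t * u⁻¹ := by rw [hty]; group
        _ = y * t' := by rw [← hyu, ht']; group)
    htX (conj_mem_fix htX) hXY (htδ.trans ht'δ.symm)
  have hX : X.1 = A := by
    refine hbase u hyu.symm hCu X ?_
    have hX4 : Nat.card X.1 = 4 := by
      rw [← (rep_spec X).2, Nat.card_coe_set_eq, Set.ncard_smul_set, ← Nat.card_coe_set_eq, d.hA]
    have h1 := d.ctx.fix_eq4 hX4 (CfsgLib.Invol.ne_one ht) htX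
    rw [← h1, ← fixedBy_conj]
    exact congrArg _ hu_eq.symm
  have htz : t = z := by
    refine d.one_invol hy hyA hyn hc₀ hc₀A ht hty ?_ hz hzy hzK
    rw [← hX]; exact htX
  refine hδ (hbase (u * z) ?_ hCuz δ ?_)
  · rw [mul_assoc, hzy, ← mul_assoc, ← hyu, mul_assoc]
  · rw [mul_smul, ← htz, htδ, ← mul_smul, huu, one_smul]

/-- A Sylow subgroup in this situation has sectional rank at most four. -/
theorem rank (d : Free S A) (hnot : ∃ u ∈ (S : Subgroup G), orderOf u = 2 ∧ u ∉ fixingSubgroup G A)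
    (hT : (S : Subgroup G) ⊓ fixingSubgroup G A ≠ ⊥) :
    Cfsg.SectionalPRankLE 2 4 (S : Subgroup G) := by
  classical
  haveI : Fact (Nat.Prime 2) := ⟨Nat.prime_two⟩
  have hmul : ∀ {v : G}, orderOf v = 2 → v * v = 1 := fun hv => CfsgLib.Invol.mul_self_eq_one hv
  set T := (S : Subgroup G) ⊓ fixingSubgroup G A with hTdef
  haveI hTn : (T.subgroupOf (S : Subgroup G)).Normal := ⟨fun t ht g => mem_subgroupOf.2
    ⟨(S : Subgroup G).mul_mem ((S : Subgroup G).mul_mem g.2 (mem_subgroupOf.1 ht).1)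
      ((S : Subgroup G).inv_mem g.2), conj_mem_fix_of_stab (d.hSA g.2) (mem_subgroupOf.1 ht).2⟩⟩
  -- a central involution in the kernel
  obtain ⟨z, hz, hzS, hzK, hzc⟩ : ∃ z, orderOf z = 2 ∧ z ∈ (S : Subgroup G) ∧ z ∈ fixingSubgroup G A ∧
      ∀ x ∈ (S : Subgroup G), x * z = z * x := by
    haveI := S.isPGroup'.isNilpotent
    have hne : T.subgroupOf (S : Subgroup G) ≠ ⊥ := fun h => hT (by
      rw [subgroupOf_eq_bot] at h
      exact h.eq_bot_of_le inf_le_left)
    obtain ⟨w, hw, hw1⟩ := (bot_or_exists_ne_one _).resolve_left (CfsgLib.PGroupBasic.inf_center_ne_bot _ hne)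
    obtain ⟨k, hk⟩ := exists_pow_order (p := 2) (pgroup_order S.isPGroup' w.2) fun h => hw1 (Subtype.ext h)
    refine ⟨_, hk, (S : Subgroup G).pow_mem w.2 k, pow_mem (mem_subgroupOf.1 hw.1).2 k, fun x hx => ?_⟩
    exact Commute.pow_right (congrArg Subtype.val (mem_center_iff.1 hw.2 ⟨x, hx⟩) : x * (w : G) = w * x) k
  -- involutions outside the kernel centralize only `z` there
  have honly : ∀ u ∈ (S : Subgroup G), orderOf u = 2 → u ∉ fixingSubgroup G A → ∀ i ∈ (S : Subgroup G),
      orderOf i = 2 → i ∈ fixingSubgroup G A → i * u = u * i → i = z := by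
    intro u huS hu hun i hiS hi hiK hiu
    by_contra hiz
    have hzu : z * u = u * z := (hzc u huS).symm
    have hiz' : i * z = z * i := hzc i hiS
    have hCu : ∀ c : G, c * u = u * c → c ∈ stabilizer G A := fun c hc => by
      by_contra hcA
      exact hiz (d.one_invol hu (d.hSA huS) hun hc hcA hi hiu hiK hz hzu hzK)
    obtain ⟨a₀, ha₀⟩ := nonempty_of_card (A := A) (by rw [d.hA]; norm_num)
    obtain ⟨g, hg⟩ : ∃ g, g ∉ stabilizer G A := by
      by_contra h
      push Not at h
      exact d.ctx.stab_ne_top (A := A) d.hA.le ⟨a₀, ha₀⟩ (eq_top_iff.2 fun x _ => h x)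
    set z' := g * z * g⁻¹ with hz'
    have hz'2 : orderOf z' = 2 := by rw [hz', CfsgLib.Invol.orderOf_conj_eq, hz]
    have hz'K : z' ∈ fixingSubgroup G (g • A) := conj_mem_fix hzK
    have hA' : Nat.card ↥(g • A) = 4 := by
      rw [Nat.card_coe_set_eq, Set.ncard_smul_set, ← Nat.card_coe_set_eq, d.hA]
    have hz'fix := d.ctx.fix_eq4 hA' (CfsgLib.Invol.ne_one hz'2) hz'K
    have hgA : g • A ≠ A := fun h => hg (mem_stabilizer_iff.2 h)
    have hnc : ¬ IsConj u z' := by
      rintro h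
      obtain ⟨k, hk⟩ := isConj_iff.1 h
      rw [← hk, fixedBy_conj, d.free_stab hu (d.hSA huS) hun, Set.smul_set_empty] at hz'fix
      rw [← hz'fix] at hA'
      simp at hA'
    obtain ⟨y, hy, hyu, hyz'⟩ := CfsgLib.Invol.exists_commuting_invol hu hz'2 hnc
    have hyA := hCu y hyu
    have hygA : y ∈ stabilizer G (g • A) := hz'fix ▸ mem_stab_of_commute hyz'.eq
    have hyn : y ∉ fixingSubgroup G A := fun h => by
      have hfx := d.ctx.fix_eq4 d.hA (CfsgLib.Invol.ne_one hy) h
      have h' := d.kernel_of_fixed hy hygA (hfx ▸ ⟨a₀, ha₀⟩)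
      exact hgA ((d.ctx.fix_eq4 hA' (CfsgLib.Invol.ne_one hy) h').symm.trans hfx)
    have hz'A : z' ∉ stabilizer G A := fun h => by
      have hne : (fixedBy Ω z').Nonempty := by rw [hz'fix]; exact ⟨g • a₀, Set.smul_mem_smul_set ha₀⟩
      have h' := d.kernel_of_fixed (g := (1 : G)) hz'2 (by rw [one_smul]; exact h) hne
      rw [one_smul] at h'
      exact hgA (hz'fix.symm.trans (d.ctx.fix_eq4 d.hA (CfsgLib.Invol.ne_one hz'2) h'))
    -- a Sylow subgroup of the centralizer of `u`
    set M := centralizer ({u} : Set G) with hM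
    have hMA : M ≤ stabilizer G A := fun c hc => hCu c (mem_centralizer_singleton_iff.1 hc)
    have hel : Cfsg.IsElementaryAbelian 2 (closure ({u, i, z} : Set G)) := closure_elem
      (by
        rintro p (rfl | rfl | rfl) q (rfl | rfl | rfl)
        exacts [rfl, hiu.symm, hzu.symm, hiu, rfl, hiz', hzu, hiz'.symm, rfl])
      (by rintro p (rfl | rfl | rfl) <;> exact hmul ‹_›)
    set Q := closure ({u, i, z} : Set G) with hQ
    have hQM : Q ≤ M := (closure_le _).2 (by
      rintro p (rfl | rfl | rfl)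
      exacts [mem_centralizer_singleton_iff.2 rfl, mem_centralizer_singleton_iff.2 hiu,
        mem_centralizer_singleton_iff.2 hzu])
    obtain ⟨P, hP⟩ := ((elem_isPGroup hel).comap_of_injective M.subtype M.subtype_injective).exists_le_sylow
    have hyM : y ∈ M := mem_centralizer_singleton_iff.2 hyu
    set R := (P : Subgroup M).map M.subtype with hR
    have hRp : IsPGroup 2 R := P.isPGroup'.map _
    have hRmax : ∀ Q' : Subgroup G, IsPGroup 2 Q' → R ≤ Q' → Q' ≤ M → Q' = R := by
      intro Q' hQ' hle hQ'M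
      refine le_antisymm ?_ hle
      have h1 := P.is_maximal' (hQ'.comap_of_injective M.subtype M.subtype_injective)
        (fun p hp => hle ⟨p, hp, rfl⟩)
      intro x hx
      exact ⟨⟨x, hQ'M hx⟩, h1 ▸ hx, rfl⟩
    obtain ⟨c, hc, hcy⟩ := exists_conj_mem_elem hRp (map_subtype_le _) hRmax ⟨1, by rw [hy, pow_one]⟩ hyM
    have hQR : Q ≤ R := fun x hx => ⟨⟨x, hQM hx⟩, hP hx, rfl⟩
    obtain ⟨m, hm, hmR⟩ := exists_conj_mem S.isPGroup' d.hSA (sylow_max S _) hRp
      ((map_subtype_le _).trans hMA)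
    have hmn : ∀ {x}, m * x * m⁻¹ ∈ fixingSubgroup G A → x ∈ fixingSubgroup G A := fun {x} hx => by
      have := conj_mem_fix_of_stab ((stabilizer G A).inv_mem hm) hx
      simpa [mul_assoc] using this
    have hcn : ∀ {x}, c * x * c⁻¹ ∈ fixingSubgroup G A → x ∈ fixingSubgroup G A := fun {x} hx => by
      have := conj_mem_fix_of_stab ((stabilizer G A).inv_mem (hMA hc)) hx
      simpa [mul_assoc] using this
    have hcu : c * u = u * c := mem_centralizer_singleton_iff.1 hc
    have hcu' : c⁻¹ * u * c = u := by rw [mul_assoc, ← hcu]; group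
    have hcomm : ∀ {p q : G}, p * q = q * p → m * p * m⁻¹ * (m * q * m⁻¹) = m * q * m⁻¹ * (m * p * m⁻¹) := by
      intro p q h
      calc m * p * m⁻¹ * (m * q * m⁻¹) = m * (p * q) * m⁻¹ := by group
        _ = m * q * m⁻¹ * (m * p * m⁻¹) := by rw [h]; group
    refine d.bad_core (u := m * u * m⁻¹) (y := m * (c * y * c⁻¹) * m⁻¹) (a := m * i * m⁻¹) (b := m * z * m⁻¹)
      (by rw [CfsgLib.Invol.orderOf_conj_eq, hu]) (hmR u (hQR (subset_closure (by simp))))
      (fun h => hun (hmn h))
      (by rw [CfsgLib.Invol.orderOf_conj_eq, hi]) (hmR i (hQR (subset_closure (by simp))))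
      (conj_mem_fix_of_stab hm hiK)
      (by rw [CfsgLib.Invol.orderOf_conj_eq, hz]) (hmR z (hQR (subset_closure (by simp))))
      (conj_mem_fix_of_stab hm hzK)
      (fun h => hiz (by simpa using h))
      (hcomm hiu) (hcomm hzu)
      (by rw [CfsgLib.Invol.orderOf_conj_eq, CfsgLib.Invol.orderOf_conj_eq, hy]) (hmR _ hcy)
      (fun h => hyn (hcn (hmn h)))
      (hcomm (by
        calc c * y * c⁻¹ * u = c * (y * (c⁻¹ * u * c)) * c⁻¹ := by group
          _ = c * (u * y) * c⁻¹ := by rw [hcu', hyu.eq]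
          _ = u * (c * y * c⁻¹) := by rw [← mul_assoc c u y, hcu]; group))
      (c₀ := m * (c * z' * c⁻¹) * m⁻¹) (hcomm (by
        calc c * z' * c⁻¹ * (c * y * c⁻¹) = c * (z' * y) * c⁻¹ := by group
          _ = c * y * c⁻¹ * (c * z' * c⁻¹) := by rw [← hyz'.eq]; group))
      (fun h => hz'A (by
        have hmc : m * c ∈ stabilizer G A := mul_mem hm (hMA hc)
        have := mul_mem (mul_mem (inv_mem hmc) h) hmc
        simpa [mul_assoc] using this))
      hz hzS hzK hzc
  -- the kernel has a unique involution, or there is no normal elementary group of order eight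
  by_cases hV : ∀ V : Subgroup (S : Subgroup G), V.Normal → IsMulCommutative V → (∀ v ∈ V, v ^ 2 = 1) →
      Nat.card V ≤ 4
  · exact Cfsg.Agent.S0501.result S.isPGroup' hV
  push Not at hV
  obtain ⟨V, hVn, hVc, hVe, hV4⟩ := hV
  have hVel : Cfsg.IsElementaryAbelian 2 V := ⟨hVc, hVe⟩
  have hzv : ∀ v ∈ V, (v : G) ∈ fixingSubgroup G A →
      (∃ u ∈ (S : Subgroup G), orderOf u = 2 ∧ u ∉ fixingSubgroup G A ∧ (v : G) * u = u * v) →
      (v : G) = 1 ∨ (v : G) = z := by
    rintro v hv hvK ⟨u, huS, hu, hun, hvu⟩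
    by_cases hv1 : (v : G) = 1
    · exact Or.inl hv1
    · exact Or.inr (honly u huS hu hun v v.2 (CfsgLib.Invol.orderOf_eq_two
        (congrArg Subtype.val (elem_sq hVel hv)) hv1) hvK hvu)
  have hfix3 : ∀ w : (S : Subgroup G), w * w = 1 →
      2 < Nat.card ↥(V ⊓ centralizer ({w} : Set (S : Subgroup G))) := fun w hw => by
    have h := card_le_cent_sq hVel (x := w) (fun v hv => hVn.conj_mem v hv w)
      (fun v _ => by rw [hw, one_mul, mul_one])
    by_contra hle
    have := Nat.mul_le_mul (not_lt.1 hle) (not_lt.1 hle)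
    omega
  have hnot2 : ∀ X : Subgroup (S : Subgroup G), 2 < Nat.card X →
      ¬ ∀ x ∈ X, (x : G) = 1 ∨ (x : G) = z := by
    intro X hX hall
    have h : ((fun x : (S : Subgroup G) => (x : G)) '' (X : Set (S : Subgroup G))).ncard ≤ 2 := by
      refine (Set.ncard_le_ncard (t := {1, z}) ?_ (Set.toFinite _)).trans
        ((Set.ncard_insert_le _ _).trans (by rw [Set.ncard_singleton]))
      rintro _ ⟨x, hx, rfl⟩
      rcases hall x hx with h | h <;> simp [h]
    rw [Set.ncard_image_of_injective _ Subtype.val_injective, ← Nat.card_coe_set_eq] at h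
    exact absurd h (not_le.2 hX)
  obtain ⟨u₀, hu₀V, hu₀n⟩ : ∃ v ∈ V, (v : G) ∉ fixingSubgroup G A := by
    by_contra h
    push Not at h
    obtain ⟨u, huS, hu, hun⟩ := hnot
    refine hnot2 _ (hfix3 ⟨u, huS⟩ (Subtype.ext (hmul hu))) fun v hv =>
      hzv v hv.1 (h v hv.1) ⟨u, huS, hu, hun, congrArg Subtype.val (mem_centralizer_singleton_iff.1 hv.2)⟩
  have hu₀ : orderOf (u₀ : G) = 2 := CfsgLib.Invol.orderOf_eq_two (congrArg Subtype.val (elem_sq hVel hu₀V))
    fun h => hu₀n (h ▸ one_mem _)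
  have huniq : ∀ t ∈ (S : Subgroup G), orderOf t = 2 → t ∈ fixingSubgroup G A → t = z := by
    intro t htS ht htK
    by_contra htz
    refine hnot2 _ (hfix3 ⟨t, htS⟩ (Subtype.ext (hmul ht))) fun v hv => ?_
    have hvt : (v : G) * t = t * v := congrArg Subtype.val (mem_centralizer_singleton_iff.1 hv.2)
    by_cases hvK : (v : G) ∈ fixingSubgroup G A
    · exact hzv v hv.1 hvK ⟨u₀, u₀.2, hu₀, hu₀n, congrArg Subtype.val (elem_comm hVel hv.1 hu₀V)⟩
    · exact absurd (honly v v.2 (CfsgLib.Invol.orderOf_eq_two (congrArg Subtype.val (elem_sq hVel hv.1))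
        fun h => hvK (h ▸ one_mem _)) hvK t htS ht htK hvt.symm) htz
  refine Sec4.sectional (sec4_of_unique S.isPGroup' (T.subgroupOf (S : Subgroup G)) ?_ fun x hx y hy hx2 hy2 =>
    Subtype.ext ?_)
  · have hker : T.subgroupOf (S : Subgroup G) = ((res A).comp (inclusion d.hSA)).ker := by
      ext x
      rw [mem_subgroupOf, MonoidHom.mem_ker, MonoidHom.comp_apply, res_eq_one]
      exact ⟨fun h => h.2, fun h => ⟨x.2, h⟩⟩
    rw [hker, index_ker, ← d.hA]
    obtain ⟨a₀, ha₀⟩ := nonempty_of_card (A := A) (by rw [d.hA]; norm_num)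
    refine Nat.card_le_card_of_injective (fun σ => σ.1 ⟨a₀, ha₀⟩) ?_
    rintro ⟨_, x, rfl⟩ ⟨_, y, rfl⟩ h
    refine Subtype.ext ?_
    have h' : (x : G) • a₀ = (y : G) • a₀ := congrArg Subtype.val h
    have hk : ((y⁻¹ * x : (S : Subgroup G)) : G) • a₀ = a₀ := by
      rw [Subgroup.coe_mul, InvMemClass.coe_inv, mul_smul, h', inv_smul_smul]
    rcases (d.two_img (pgroup_order S.isPGroup' (y⁻¹ * x).2) (d.hSA (y⁻¹ * x).2)).2 with hK | hfp
    · have : ((res A).comp (inclusion d.hSA)) (y⁻¹ * x) = 1 := res_eq_one.2 hK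
      rw [map_mul, map_inv] at this
      exact (inv_mul_eq_one.1 this).symm
    · exact absurd hk (hfp a₀ ha₀)
  · rw [huniq x x.2 (by rw [Subgroup.orderOf_coe, hx2]) (mem_subgroupOf.1 hx).2,
      huniq y y.2 (by rw [Subgroup.orderOf_coe, hy2]) (mem_subgroupOf.1 hy).2]

end Free

end CfsgLib.Fixity4
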