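import Cfsg.Prelude.Def_Involutions
import Cfsg.Prelude.Def_CaseTheorems
import Cfsg.Agent.Fixity4.Basic
import Cfsg.Agent.Invol.Dihedral
import Cfsg.Agent.S3390

/-!
Involutions fixing at most three points: strongly embedded subgroup, or dihedral or semidihedral Sylow
2-subgroups.
-/

set_option autoImplicit false
set_option linter.unusedSectionVars false
set_option linter.style.haveILetI false

namespace CfsgLib.Fixity4

open Subgroup MulAction
open scoped Pointwise

variable {G Ω : Type*} [Group G] [MulAction G Ω] [Finite G] [Finite Ω]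

/-- Order of a subgroup of a set stabiliser through its kernel and image on the set. -/
theorem card_eq_ker_mul {A : Set Ω} {H : Subgroup G} (hH : H ≤ stabilizer G A) :
    Nat.card H = Nat.card ↥(H ⊓ fixingSubgroup G A) * Nat.card ((res A).comp (inclusion hH)).range := by
  set φ := (res A).comp (inclusion hH)
  have e := φ.ker.card_mul_index
  rw [index_ker] at e
  rw [← e]
  congr 1
  refine Nat.card_congr ⟨fun x => ⟨((x : H) : G), (x : H).2, res_eq_one.1 x.2⟩,
    fun x => ⟨⟨x, x.2.1⟩, res_eq_one.2 x.2.2⟩, fun _ => rfl, fun _ => rfl⟩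

/-- The image of a `p`-subgroup on a set has `p`-power order dividing the factorial of its size. -/
theorem img_dvd {p : ℕ} [Fact p.Prime] {A : Set Ω} {H : Subgroup G} (hH : H ≤ stabilizer G A)
    (hp : IsPGroup p H) :
    ∃ j, Nat.card ((res A).comp (inclusion hH)).range = p ^ j ∧ p ^ j ∣ (Nat.card A).factorial := by
  obtain ⟨j, hj⟩ := (hp.of_surjective _ (MonoidHom.rangeRestrict_surjective ((res A).comp (inclusion hH)))).exists_card_eq
  refine ⟨j, hj, ?_⟩
  rw [← hj, ← Nat.card_perm]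
  exact card_subgroup_dvd_card _

theorem img_le_two {A : Set Ω} (hA : Nat.card A ≤ 3) {H : Subgroup G} (hH : H ≤ stabilizer G A)
    (hp : IsPGroup 2 H) : Nat.card ((res A).comp (inclusion hH)).range ≤ 2 := by
  haveI : Fact (Nat.Prime 2) := ⟨Nat.prime_two⟩
  obtain ⟨j, hj, hd⟩ := img_dvd hH hp
  have h6 : 2 ^ j ∣ 6 := hd.trans (Nat.factorial_dvd_factorial hA)
  rw [hj]
  rcases j with _ | _ | j
  · norm_num
  · norm_num
  · exfalso
    have : 4 ∣ 6 := dvd_trans ⟨2 ^ j, by ring⟩ h6
    norm_num at this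

theorem img_le_eight {A : Set Ω} (hA : Nat.card A = 4) {H : Subgroup G} (hH : H ≤ stabilizer G A)
    (hp : IsPGroup 2 H) : Nat.card ((res A).comp (inclusion hH)).range ≤ 8 := by
  haveI : Fact (Nat.Prime 2) := ⟨Nat.prime_two⟩
  obtain ⟨j, hj, hd⟩ := img_dvd hH hp
  rw [hA] at hd
  rw [hj]
  rcases le_or_gt j 3 with h | h
  · exact le_trans (Nat.pow_le_pow_right two_pos h) (by norm_num)
  · exfalso
    have : 2 ^ 4 ∣ Nat.factorial 4 := (pow_dvd_pow 2 h).trans hd
    norm_num [Nat.factorial] at this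

/-- An involution normalising a set moves an even number of its points. -/
theorem two_dvd_moved {A : Set Ω} {t : G} (ht : t * t = 1) (hA : t ∈ stabilizer G A) :
    2 ∣ Nat.card A - Nat.card ↥(A ∩ fixedBy Ω t) := by
  classical
  haveI := Fintype.ofFinite A
  set σ := res A ⟨t, hA⟩ with hσdef
  have hσ : σ ^ 2 = 1 := by
    rw [hσdef, ← map_pow, res_eq_one, SubmonoidClass.coe_pow, pow_two, ht]
    exact one_mem _
  have hsupp : σ.support.card = Nat.card A - Nat.card ↥(A ∩ fixedBy Ω t) := by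
    have h1 : (σ.support : Set A) = {a : A | (a : Ω) ∈ fixedBy Ω t}ᶜ := by
      ext a
      simp only [Finset.mem_coe, Equiv.Perm.mem_support, Set.mem_compl_iff, Set.mem_ofPred_eq, mem_fixedBy,
        ne_eq, Subtype.ext_iff]
      rfl
    rw [← Set.ncard_coe_finset, h1, Set.ncard_compl _ (Set.toFinite _), ← Nat.card_coe_set_eq]
    congr 1
    exact Nat.card_congr ⟨fun a => ⟨a.1.1, a.1.2, a.2⟩, fun a => ⟨⟨a, a.2.1⟩, a.2.2⟩,
      fun _ => rfl, fun _ => rfl⟩
  rw [← hsupp]
  exact Equiv.Perm.two_dvd_card_support hσ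

theorem card_cent_sub (S : Subgroup G) (u : S) :
    Nat.card ↥(centralizer ({u} : Set S)) = Nat.card ↥(S ⊓ centralizer ({(u : G)} : Set G)) :=
  Nat.card_congr ⟨fun x => ⟨(x : S), (x : S).2, mem_centralizer_singleton_iff.2
      (congrArg Subtype.val (mem_centralizer_singleton_iff.1 x.2))⟩,
    fun x => ⟨⟨x, x.2.1⟩, mem_centralizer_singleton_iff.2
      (Subtype.ext (mem_centralizer_singleton_iff.1 x.2.2))⟩,
    fun _ => rfl, fun _ => rfl⟩

/-- A central element of order `p` of a nontrivial `p`-group. -/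
theorem exists_central_prime {p : ℕ} [hp : Fact p.Prime] {P : Subgroup G} (hP : IsPGroup p P) (hne : P ≠ ⊥) :
    ∃ z ∈ P, orderOf z = p ∧ ∀ x ∈ P, x * z = z * x := by
  haveI : Nontrivial P := (Subgroup.nontrivial_iff_ne_bot P).2 hne
  haveI := hP.center_nontrivial
  obtain ⟨k, hk⟩ := (hP.to_subgroup (center P)).exists_card_eq
  obtain ⟨z, hz⟩ := exists_prime_orderOf_dvd_card' (G := center P) p (by
    rcases k with _ | k
    · have := Finite.one_lt_card (α := center P)
      rw [hk] at this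
      simp at this
    · rw [hk]; exact dvd_pow_self p k.succ_ne_zero)
  exact ⟨((z : P) : G), z.1.2, by rw [Subgroup.orderOf_coe, Subgroup.orderOf_coe, hz],
    fun x hx => congrArg Subtype.val (mem_center_iff.1 z.2 ⟨x, hx⟩)⟩

theorem sylow_ne_bot {p : ℕ} [hp : Fact p.Prime] (S : Sylow p G) {t : G} (ht : orderOf t = p) :
    (S : Subgroup G) ≠ ⊥ := by
  intro h
  have hd : p ∣ Nat.card G := ht ▸ orderOf_dvd_natCard t
  have := S.dvd_card_of_dvd_card hd
  rw [h, card_bot] at this
  exact hp.out.one_lt.ne' (Nat.dvd_one.1 this)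

/-- The set stabiliser is strongly embedded when all its involutions fix the set. -/
theorem se_two (c : Ctx G Ω) {A : Set Ω} (hA : Nat.card A ≤ 4) (hne : A.Nonempty) {z : G} (hz : orderOf z = 2)
    (hzA : z ∈ stabilizer G A) (h : ∀ t ∈ stabilizer G A, orderOf t = 2 → fixedBy Ω t = A) :
    ∃ H : Subgroup G, Cfsg.IsStronglyEmbedded H := by
  haveI : Fact (Nat.Prime 2) := ⟨Nat.prime_two⟩
  refine ⟨stabilizer G A, c.stab_ne_top hA hne, even_iff_two_dvd.2 ?_, fun g hg => ?_⟩
  · rw [← hz, ← Subgroup.orderOf_mk z hzA]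
    exact orderOf_dvd_natCard _
  · exact Nat.not_even_iff_odd.1 fun he => se_of_fix h g hg (even_iff_two_dvd.1 he)

theorem nonempty_of_card {A : Set Ω} (h : 0 < Nat.card A) : A.Nonempty :=
  Set.nonempty_coe_sort.1 (Nat.card_pos_iff.1 h).1

/-- The case of involutions fixing between one and three points. -/
theorem small [FaithfulSMul G Ω] (c : Ctx G Ω) (S : Sylow 2 G) (f : ℕ) (hf1 : 1 ≤ f) (hf3 : f ≤ 3)
    (hf : ∀ g : G, orderOf g = 2 → Nat.card (fixedBy Ω g) ≤ f)
    (hf' : ∃ g : G, orderOf g = 2 ∧ Nat.card (fixedBy Ω g) = f) :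
    (∃ H : Subgroup G, Cfsg.IsStronglyEmbedded H) ∨
      ((∃ n : ℕ, Nonempty ((S : Subgroup G) ≃* DihedralGroup n)) ∨ Cfsg.IsQuasiDihedral (S : Subgroup G)) := by
  haveI : Fact (Nat.Prime 2) := ⟨Nat.prime_two⟩
  obtain ⟨t₀, ht₀, hft⟩ := hf'
  have hcount : ∀ t : G, orderOf t = 2 → Nat.card (fixedBy Ω t) = f := by
    intro t ht
    have h1 := c.four_dvd ht
    have h2 := c.four_dvd ht₀
    have h3 := hf t ht
    have := c.five
    omega
  obtain ⟨z, hzS, hz, hzc⟩ := exists_central_prime S.isPGroup' (sylow_ne_bot S ht₀)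
  set A := fixedBy Ω z with hA
  have hAf : Nat.card A = f := hcount z hz
  have hSM : (S : Subgroup G) ≤ stabilizer G A := fun s hs => mem_stab_of_commute (hzc s hs)
  have hne : A.Nonempty := nonempty_of_card (by omega)
  by_cases hse : ∀ t ∈ stabilizer G A, orderOf t = 2 → fixedBy Ω t = A
  · exact Or.inl (se_two c (by omega) hne hz (hSM hzS) hse)
  push Not at hse
  obtain ⟨u₀, hu₀M, hu₀, hu₀A⟩ := hse
  obtain ⟨m, hm, hu⟩ := exists_conj_mem_elem S.isPGroup' hSM (sylow_max S _)
    ⟨1, by rw [hu₀, pow_one]⟩ hu₀M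
  set u := m * u₀ * m⁻¹ with hudef
  have hu2 : orderOf u = 2 := by
    rw [hudef, ← hu₀]
    exact orderOf_injective (MulAut.conj m).toMonoidHom (MulAut.conj m).injective u₀
  have huA : fixedBy Ω u ≠ A := by
    rw [hudef, fixedBy_conj]
    intro h
    refine hu₀A (smul_left_cancel m ?_)
    rw [h, mem_stabilizer_iff.1 hm]
  set B := fixedBy Ω u with hB
  have hBf : Nat.card B = f := hcount u hu2
  -- exactly two fixed points of `u` lie outside `A`
  have hout : Nat.card ↥(B \ A) ≤ 2 ∧ (B \ A).Nonempty := by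
    have h2 := two_dvd_moved (A := A) (by rw [← pow_two, ← hu2, pow_orderOf_eq_one]) (hSM hu)
    have hlt : Nat.card ↥(A ∩ B) < Nat.card A := by
      rw [Nat.card_coe_set_eq, Nat.card_coe_set_eq]
      refine Set.ncard_lt_ncard (Set.ssubset_iff_subset_ne.2 ⟨Set.inter_subset_left, fun h => huA ?_⟩) (Set.toFinite _)
      exact (Set.eq_of_subset_of_ncard_le (Set.inter_eq_left.1 h) (by
        rw [← Nat.card_coe_set_eq, ← Nat.card_coe_set_eq]
        exact le_of_eq (hBf.trans hAf.symm)) (Set.toFinite _)).symm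
    have hd : Nat.card ↥(B \ A) + Nat.card ↥(A ∩ B) = Nat.card B := by
      rw [Nat.card_coe_set_eq, Nat.card_coe_set_eq, Nat.card_coe_set_eq, Set.inter_comm,
        ← Set.ncard_inter_add_ncard_sdiff_eq_ncard B A, add_comm]
    rw [← hB] at h2
    exact ⟨by omega, nonempty_of_card (by omega)⟩
  have hK : ∀ x ∈ (S : Subgroup G) ⊓ centralizer ({u} : Set G) ⊓ fixingSubgroup G A,
      ∀ b ∈ B \ A, x • b = b → x = 1 := by
    intro x hx b hb hxb
    by_contra hx1
    have := fix_eq_of_kernel (p := 2) (fun t ht => (hcount t ht).le.trans hAf.ge)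
      (pgroup_order S.isPGroup' hx.1.1) hx1 hx.2
    exact hb.2 (this ▸ hxb)
  have hC : Nat.card ↥((S : Subgroup G) ⊓ centralizer ({u} : Set G)) ≤ 4 := by
    set H := (S : Subgroup G) ⊓ centralizer ({u} : Set G) with hH
    rw [card_eq_ker_mul (A := A) (inf_le_left.trans hSM : H ≤ _)]
    refine (Nat.mul_le_mul ?_ (img_le_two (by omega) _ (S.isPGroup'.to_le inf_le_left))).trans (le_refl (2 * 2))
    obtain ⟨b, hb⟩ := hout.2
    refine le_trans (card_le_of_semiregular (B := B \ A) ?_ hK hb) hout.1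
    intro x hx b' hb'
    refine ⟨?_, fun h => hb'.2 ?_⟩
    · exact smul_mem_of_stab (mem_stab_of_commute (mem_centralizer_singleton_iff.1 hx.1.2)) hb'.1
    · have := smul_mem_of_stab ((stabilizer G A).inv_mem (hSM hx.1.1)) h
      rwa [inv_smul_smul] at this
  -- four elements in that centralizer
  have huz : u * z = z * u := hzc u hu
  have hzu : z ≠ u := fun h => huA (by rw [hB, ← h])
  have hV : Nat.card ↥(centralizer ({⟨u, hu⟩} : Set (S : Subgroup G))) = 4 := by
    rw [card_cent_sub]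
    refine le_antisymm hC ?_
    set H := (S : Subgroup G) ⊓ centralizer ({u} : Set G) with hH
    have hzH : z ∈ H := ⟨hzS, mem_centralizer_singleton_iff.2 huz.symm⟩
    have huH : u ∈ H := ⟨hu, mem_centralizer_singleton_iff.2 rfl⟩
    obtain ⟨k, hk⟩ := (S.isPGroup'.to_le (inf_le_left : H ≤ _)).exists_card_eq
    have h3 : 2 < Nat.card H := by
      have hsub : ({1, z, u} : Set G) ⊆ H := by
        rintro x (rfl | rfl | rfl)
        exacts [one_mem _, hzH, huH]
      have := Set.ncard_le_ncard hsub (Set.toFinite _)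
      rw [Set.ncard_eq_three.2 ⟨1, z, u, (CfsgLib.Invol.ne_one hz).symm,
        (CfsgLib.Invol.ne_one hu2).symm, hzu, rfl⟩, ← Nat.card_coe_set_eq] at this
      exact this
    rcases k with _ | _ | k
    · rw [hk] at h3; omega
    · rw [hk] at h3; omega
    · rw [hk, pow_succ, pow_succ]
      have := Nat.two_pow_pos k
      omega
  refine Or.inr (Cfsg.Agent.S3390.dihedral_or_sd S.isPGroup' ⟨u, hu⟩ (by rw [Subgroup.orderOf_mk, hu2]) hV ?_)
  intro h4 hcyc
  have e : ∀ x : (S : Subgroup G), orderOf x = 2 → ∀ y : (S : Subgroup G), orderOf y = 2 → x = y := by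
    intro x hx y hy
    haveI := Fintype.ofFinite (S : Subgroup G)
    have hcard := IsCyclic.card_orderOf_eq_totient (α := (S : Subgroup G)) (d := 2)
      (by rw [← Nat.card_eq_fintype_card, h4]; norm_num)
    rw [Nat.totient_two, Finset.card_eq_one] at hcard
    obtain ⟨w, hw⟩ := hcard
    have h1 : x ∈ ({w} : Finset (S : Subgroup G)) := hw ▸ by simp [hx]
    have h2 : y ∈ ({w} : Finset (S : Subgroup G)) := hw ▸ by simp [hy]
    rw [Finset.mem_singleton] at h1 h2
    rw [h1, h2]
  exact hzu (congrArg Subtype.val (e ⟨z, hzS⟩ (by rw [Subgroup.orderOf_mk, hz]) ⟨u, hu⟩ (by rw [Subgroup.orderOf_mk, hu2])))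

end CfsgLib.Fixity4
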