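import Cfsg.Prelude.Def_CaseTheorems
import Cfsg.Prelude.Def_Transfer
import Cfsg.Agent.SelfCentEight.ProductFourSylow
import Cfsg.Agent.Solvable.PGroupBasic
import Cfsg.Agent.InvChar.UniqueInvolution
import Mathlib.GroupTheory.SpecificGroups.Quaternion
import Cfsg.Agent.LocalB.ChermakDelgado
import Cfsg.Agent.S0501
import Cfsg.Agent.S1232
import Cfsg.Agent.S1234

/-!
Sufficient conditions for a finite 2-group to have sectional rank at most four.
-/

set_option autoImplicit false
set_option linter.unusedSectionVars false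
set_option linter.style.haveILetI false

namespace CfsgLib.Fixity4

open Subgroup
open scoped Pointwise commutatorElement

variable {S : Type*} [Group S]

/-- Every elementary abelian section has order at most sixteen, stated with elements. -/
def Sec4 (S : Type*) [Group S] : Prop :=
  ∀ H N : Subgroup S, N ≤ H → (∀ x ∈ H, ∀ y ∈ H, x * y * x⁻¹ * y⁻¹ ∈ N) → (∀ x ∈ H, x * x ∈ N) →
    Nat.card H ≤ 16 * Nat.card N

theorem Sec4.sectional [Finite S] (h : Sec4 S) : Cfsg.SectionalPRankLE 2 4 S := by
  intro H N _ E hEc hEe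
  set T : Subgroup H := E.comap (QuotientGroup.mk' N) with hT
  have hcard : Nat.card T = Nat.card N * Nat.card E := by
    have hNT : N ≤ T := fun x hx => by
      rw [hT, mem_comap, QuotientGroup.mk'_apply, (QuotientGroup.eq_one_iff x).2 hx]
      exact one_mem _
    have e := (N.subgroupOf T).card_mul_index
    rw [Nat.card_congr (subgroupOfEquivOfLe hNT).toEquiv] at e
    rw [← e]
    congr 1
    have hE : T.map (QuotientGroup.mk' N) = E :=
      map_comap_eq_self_of_surjective (QuotientGroup.mk'_surjective N) E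
    let φ : T →* E := (QuotientGroup.mk' N).subgroupComap E
    have hφ : Function.Surjective φ := by
      intro q
      obtain ⟨u, hu⟩ := QuotientGroup.mk'_surjective N (q : H ⧸ N)
      exact ⟨⟨u, by rw [hT, mem_comap, hu]; exact q.2⟩, Subtype.ext hu⟩
    have hk : φ.ker = N.subgroupOf T := by
      ext x
      rw [MonoidHom.mem_ker, mem_subgroupOf, ← QuotientGroup.eq_one_iff]
      exact Subtype.ext_iff
    rw [← hk, index_ker, φ.range_eq_top_of_surjective hφ, card_top]
  have hmem : ∀ x ∈ T.map H.subtype, ∃ u : H, (u : S) = x ∧ QuotientGroup.mk' N u ∈ E := by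
    rintro _ ⟨u, hu, rfl⟩
    exact ⟨u, rfl, hu⟩
  have hN' := h (T.map H.subtype) (N.map H.subtype) ?_ ?_ ?_
  · rw [card_map_of_injective H.subtype_injective, card_map_of_injective H.subtype_injective,
      hcard, mul_comm 16] at hN'
    exact Nat.le_of_mul_le_mul_left hN' Nat.card_pos
  · refine map_mono fun x hx => ?_
    rw [hT, mem_comap, QuotientGroup.mk'_apply, (QuotientGroup.eq_one_iff x).2 hx]
    exact one_mem _
  · intro x hx y hy
    obtain ⟨u, rfl, hu⟩ := hmem x hx
    obtain ⟨v, rfl, hv⟩ := hmem y hy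
    refine ⟨u * v * u⁻¹ * v⁻¹, (QuotientGroup.eq_one_iff _).1 ?_, by simp⟩
    have hc := congrArg Subtype.val (hEc.is_comm.comm ⟨_, hu⟩ ⟨_, hv⟩)
    simp only [QuotientGroup.mk'_apply] at hc
    simp only [QuotientGroup.mk_mul, QuotientGroup.mk_inv]
    exact commutatorElement_eq_one_iff_mul_comm.2 hc
  · intro x hx
    obtain ⟨u, rfl, hu⟩ := hmem x hx
    refine ⟨u * u, (QuotientGroup.eq_one_iff _).1 ?_, by simp⟩
    rw [QuotientGroup.mk_mul, ← pow_two]
    exact hEe _ hu

theorem sec4_of_card_le [Finite S] (h : Nat.card S ≤ 16) : Sec4 S := fun H N _ _ _ =>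
  le_trans (le_trans (Finite.card_subtype_le _) h) (Nat.le_mul_of_pos_right _ Nat.card_pos)

/-- A group of order at most `32` is fine unless it is elementary abelian of order `32`. -/
theorem sec4_of_card_le' [Finite S] (h : Nat.card S ≤ 32) (hne : ∃ x y : S, x * y ≠ y * x ∨ x * x ≠ 1) :
    Sec4 S := by
  intro H N hNH hc hs
  by_contra hlt
  have hd : Nat.card N ∣ Nat.card H := card_dvd_of_le hNH
  have hS : Nat.card H ≤ Nat.card S := Finite.card_subtype_le _
  have hN1 : Nat.card N = 1 := by
    have := Nat.card_pos (α := N)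
    omega
  have hN : N = ⊥ := card_eq_one.1 hN1
  have hHS : H = ⊤ := by
    refine eq_top_of_card_eq _ (le_antisymm hS ?_)
    have hdS := H.card_subgroup_dvd_card
    obtain ⟨k, hk⟩ := hdS
    rcases k with _ | _ | k
    · have := Nat.card_pos (α := S); omega
    · omega
    · have h2 : 2 * Nat.card H ≤ Nat.card S := by rw [hk]; nlinarith
      omega
  subst hHS
  subst hN
  obtain ⟨x, y, hxy | hx⟩ := hne
  · refine hxy (commutatorElement_eq_one_iff_mul_comm.1 ?_)
    exact mem_bot.1 (hc x (mem_top _) y (mem_top _))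
  · exact hx (mem_bot.1 (hs x (mem_top _)))

section Frattini

variable {G : Type*} [Group G] [Finite G]

/-- Sectional rank four of a Sylow 2-subgroup passes to the group. -/
theorem sectional_group (P : Sylow 2 G) (h : Cfsg.SectionalPRankLE 2 4 (P : Subgroup G)) :
    Cfsg.SectionalPRankLE 2 4 G := by
  haveI : Fact (Nat.Prime 2) := ⟨Nat.prime_two⟩
  refine CfsgLib.SelfCentEight.sectional_of_sylow P fun H => ?_
  obtain ⟨hc, hp⟩ := CfsgLib.PGroupBasic.commutator_pow_le_frattini (P.isPGroup'.to_subgroup H)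
  have h' := h H (frattini H) ⊤ ⟨⟨fun u v => Subtype.ext (by
      obtain ⟨u', hu⟩ := QuotientGroup.mk'_surjective (frattini H) u.1
      obtain ⟨v', hv⟩ := QuotientGroup.mk'_surjective (frattini H) v.1
      show u.1 * v.1 = v.1 * u.1
      rw [← hu, ← hv, ← commutatorElement_eq_one_iff_mul_comm, ← map_commutatorElement]
      exact (QuotientGroup.eq_one_iff _).2 (hc (commutator_mem_commutator (mem_top _) (mem_top _))))⟩⟩
    (fun u _ => by
      obtain ⟨u, rfl⟩ := QuotientGroup.mk'_surjective (frattini H) u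
      rw [← map_pow]
      exact (QuotientGroup.eq_one_iff _).2 (hp u))
  rw [card_top, ← index_eq_card] at h'
  simpa using h'

end Frattini

/-- Commuting elements of square one generate an elementary abelian subgroup. -/
theorem closure_elem {s : Set S} (hc : ∀ a ∈ s, ∀ b ∈ s, a * b = b * a) (hs : ∀ a ∈ s, a * a = 1) :
    Cfsg.IsElementaryAbelian 2 (closure s) := by
  have hcomm : ∀ a ∈ closure s, ∀ b ∈ closure s, a * b = b * a := by
    have h1 : closure s ≤ centralizer s := (closure_le _).2 fun a ha =>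
      mem_centralizer_iff.2 fun b hb => hc b hb a ha
    have h2 : closure s ≤ centralizer ((closure s : Subgroup S) : Set S) := (closure_le _).2
      fun a ha => mem_centralizer_iff.2 fun b hb => ((mem_centralizer_iff.1 (h1 hb)) a ha).symm
    exact fun a ha b hb => mem_centralizer_iff.1 (h2 hb) a ha
  refine ⟨⟨⟨fun a b => Subtype.ext (hcomm a a.2 b b.2)⟩⟩, fun a ha => ?_⟩
  rw [pow_two]
  induction ha using closure_induction with
  | mem x hx => exact hs x hx
  | one => exact mul_one _
  | mul x y hx hy h1 h2 =>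
    have hxy := hcomm x hx y hy
    calc x * y * (x * y) = x * (y * x) * y := by group
      _ = x * (x * y) * y := by rw [hxy]
      _ = (x * x) * (y * y) := by group
      _ = 1 := by rw [h1, h2, mul_one]
  | inv x _ h1 => rw [← mul_inv_rev, h1, inv_one]

theorem elem_comm {A : Subgroup S} (hA : Cfsg.IsElementaryAbelian 2 A) {a b : S} (ha : a ∈ A)
    (hb : b ∈ A) : a * b = b * a :=
  congrArg Subtype.val (hA.1.is_comm.comm ⟨a, ha⟩ ⟨b, hb⟩)

theorem elem_sq {A : Subgroup S} (hA : Cfsg.IsElementaryAbelian 2 A) {a : S} (ha : a ∈ A) :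
    a * a = 1 := by rw [← pow_two]; exact hA.2 a ha

theorem elem_le {A B : Subgroup S} (hA : Cfsg.IsElementaryAbelian 2 A) (h : B ≤ A) :
    Cfsg.IsElementaryAbelian 2 B :=
  ⟨⟨⟨fun a b => Subtype.ext (elem_comm hA (h a.2) (h b.2))⟩⟩, fun a ha => hA.2 a (h ha)⟩

theorem elem_isPGroup {A : Subgroup S} (hA : Cfsg.IsElementaryAbelian 2 A) : IsPGroup 2 A :=
  fun a => ⟨1, Subtype.ext (by rw [pow_one, SubmonoidClass.coe_pow]; exact hA.2 a a.2)⟩

/-- An elementary abelian subgroup of order at least eight contains one of order exactly eight through a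
given involution. -/
theorem exists_eight [Finite S] {A : Subgroup S} (hA : Cfsg.IsElementaryAbelian 2 A) (h8 : 8 ≤ Nat.card A)
    {x : S} (hxA : x ∈ A) (hx : x ≠ 1) :
    ∃ E : Subgroup S, E ≤ A ∧ Cfsg.IsElementaryAbelian 2 E ∧ Nat.card E = 8 ∧ x ∈ E := by
  haveI : Fact (Nat.Prime 2) := ⟨Nat.prime_two⟩
  have hx2 : orderOf (⟨x, hxA⟩ : A) = 2 :=
    orderOf_eq_prime (Subtype.ext (by simpa using hA.2 x hxA)) fun h => hx (congrArg Subtype.val h)
  obtain ⟨k, hk⟩ := (elem_isPGroup hA).exists_card_eq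
  have hk3 : 3 ≤ k := by
    by_contra hk'
    have : (2 : ℕ) ^ k ≤ 2 ^ 2 := Nat.pow_le_pow_right two_pos (by omega)
    rw [← hk] at this
    omega
  obtain ⟨K, hK, hxK⟩ := Sylow.exists_subgroup_card_pow_prime_le 2 (n := 1) (m := 3)
    (hk ▸ pow_dvd_pow 2 hk3) (zpowers (⟨x, hxA⟩ : A)) (by rw [Nat.card_zpowers, hx2, pow_one]) (by norm_num)
  exact ⟨K.map A.subtype, map_subtype_le K, elem_le hA (map_subtype_le K),
    by rw [card_map_of_injective A.subtype_injective, hK]; norm_num,
    ⟨⟨x, hxA⟩, hxK (mem_zpowers _), rfl⟩⟩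

/-- The fixed points of an involution on an elementary abelian group it normalises are at least the
square root. -/
theorem card_le_cent_sq [Finite S] {V : Subgroup S} (hV : Cfsg.IsElementaryAbelian 2 V) {x : S}
    (hxV : ∀ v ∈ V, x * v * x⁻¹ ∈ V) (hxx : ∀ v ∈ V, x * x * v = v * (x * x)) :
    Nat.card V ≤ Nat.card ↥(V ⊓ centralizer ({x} : Set S)) * Nat.card ↥(V ⊓ centralizer ({x} : Set S)) := by
  let f : V →* S :=
    { toFun := fun v => (v : S) * (x * v * x⁻¹)
      map_one' := by simp
      map_mul' := fun a b => by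
        have hb : (b : S) * (x * a * x⁻¹) = x * a * x⁻¹ * b := elem_comm hV b.2 (hxV a a.2)
        simp only [Subgroup.coe_mul]
        calc (a : S) * b * (x * (a * b) * x⁻¹)
            = a * (b * (x * a * x⁻¹)) * (x * b * x⁻¹) := by group
          _ = a * (x * a * x⁻¹ * b) * (x * b * x⁻¹) := by rw [hb]
          _ = a * (x * a * x⁻¹) * (b * (x * b * x⁻¹)) := by group }
  have hrange : f.range ≤ V ⊓ centralizer ({x} : Set S) := by
    rintro _ ⟨v, rfl⟩
    refine ⟨V.mul_mem v.2 (hxV v v.2), mem_centralizer_singleton_iff.2 ?_⟩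
    show (v : S) * (x * v * x⁻¹) * x = x * (v * (x * v * x⁻¹))
    have h1 : (v : S) * (x * v * x⁻¹) = x * v * x⁻¹ * v := elem_comm hV v.2 (hxV v v.2)
    have h2 : x * (x * (v : S) * x⁻¹) * x⁻¹ = v := by
      calc x * (x * (v : S) * x⁻¹) * x⁻¹ = (x * x * v) * (x⁻¹ * x⁻¹) := by group
        _ = v * (x * x) * (x⁻¹ * x⁻¹) := by rw [hxx v v.2]
        _ = v := by group
    calc (v : S) * (x * v * x⁻¹) * x = x * v * x⁻¹ * v * x := by rw [h1]
      _ = x * v * x⁻¹ * (x * (x * v * x⁻¹) * x⁻¹) * x := by rw [h2]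
      _ = x * (v * (x * v * x⁻¹)) := by group
  have hker : f.ker.map V.subtype ≤ V ⊓ centralizer ({x} : Set S) := by
    rintro _ ⟨v, hv, rfl⟩
    refine ⟨v.2, mem_centralizer_singleton_iff.2 ?_⟩
    have hv' : (v : S) * (x * v * x⁻¹) = 1 := hv
    have h3 : x * (v : S) * x⁻¹ = v := (eq_inv_of_mul_eq_one_right hv').trans
      (inv_eq_of_mul_eq_one_right (elem_sq hV v.2))
    show (v : S) * x = x * v
    calc (v : S) * x = x * v * x⁻¹ * x := by rw [h3]
      _ = x * v := by group
  have e := f.ker.card_mul_index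
  rw [index_ker] at e
  rw [← e, ← card_map_of_injective (K := f.ker) V.subtype_injective]
  exact Nat.mul_le_mul (Nat.card_le_card_of_injective _ (inclusion_injective hker))
    (Nat.card_le_card_of_injective _ (inclusion_injective hrange))

/-- If every elementary group of order eight through some involution is self-centralizing, the sectional
rank is at most four. -/
theorem rank_of_invol [Finite S] (hS : IsPGroup 2 S) (x : S) (hx : orderOf x = 2)
    (h : ∀ E : Subgroup S, Cfsg.IsElementaryAbelian 2 E → Nat.card E = 8 → x ∈ E →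
      centralizer (E : Set S) ≤ E) :
    Cfsg.SectionalPRankLE 2 4 S := by
  have hx1 : x ≠ 1 := fun h1 => by simp [h1] at hx
  have hxx : x * x = 1 := by rw [← pow_two, ← hx, pow_orderOf_eq_one]
  by_cases hE : ∃ E : Subgroup S, Cfsg.IsElementaryAbelian 2 E ∧ Nat.card E = 8 ∧ x ∈ E
  · obtain ⟨E, hE, h8, hxE⟩ := hE
    refine Cfsg.Agent.S1232.result hS E hE h8 (le_antisymm (h E hE h8 hxE) fun a ha => ?_)
    exact mem_centralizer_iff.2 fun b hb => elem_comm hE hb ha
  · refine Cfsg.Agent.S0501.result hS fun A hAn hAc hAe => ?_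
    have hA : Cfsg.IsElementaryAbelian 2 A := ⟨hAc, hAe⟩
    by_contra hA4
    have h8 : 8 ≤ Nat.card A := by
      obtain ⟨k, hk⟩ := (hS.to_subgroup A).exists_card_eq
      rcases k with _ | _ | _ | k
      · omega
      · omega
      · omega
      · rw [hk, pow_succ, pow_succ, pow_succ]
        have := Nat.two_pow_pos k
        omega
    refine hE ?_
    by_cases hxA : x ∈ A
    · obtain ⟨E, -, hE8⟩ := exists_eight hA h8 hxA hx1
      exact ⟨E, hE8⟩
    have hsq := card_le_cent_sq hA (x := x) (fun v hv => hAn.conj_mem v hv x)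
      (fun v _ => by rw [hxx, one_mul, mul_one])
    set C : Subgroup S := A ⊓ centralizer ({x} : Set S) with hC
    have hC4 : 4 ≤ Nat.card C := by
      obtain ⟨k, hk⟩ := (hS.to_subgroup C).exists_card_eq
      rcases k with _ | _ | k
      · rw [hk] at hsq; omega
      · rw [hk] at hsq; omega
      · rw [hk, pow_succ, pow_succ]
        have := Nat.two_pow_pos k
        omega
    have hB : Cfsg.IsElementaryAbelian 2 (closure (insert x (C : Set S))) := by
      refine closure_elem ?_ ?_
      · rintro a (rfl | ha) b (rfl | hb)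
        · rfl
        · exact (mem_centralizer_singleton_iff.1 hb.2).symm
        · exact mem_centralizer_singleton_iff.1 ha.2
        · exact elem_comm hA ha.1 hb.1
      · rintro a (rfl | ha)
        · exact hxx
        · exact elem_sq hA ha.1
    set B := closure (insert x (C : Set S))
    have hCB : C ≤ B := fun a ha => subset_closure (Set.mem_insert_of_mem x ha)
    have hxB : x ∈ B := subset_closure (Set.mem_insert x _)
    have hlt : Nat.card C < Nat.card B := by
      refine lt_of_le_of_ne (Nat.card_le_card_of_injective _ (inclusion_injective hCB)) fun he => ?_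
      rw [← eq_of_le_of_card_ge hCB he.ge] at hxB
      exact hxA hxB.1
    obtain ⟨m, hm⟩ := card_dvd_of_le hCB
    have h2m : 2 ≤ m := by
      rcases m with _ | _ | m <;> omega
    obtain ⟨E, -, hE8⟩ := exists_eight hB (by rw [hm]; nlinarith) hxB hx1
    exact ⟨E, hE8⟩

/-- The wreath configuration: an involution centralizer of order 32 over an elementary group of order 16. -/
theorem rank_of_swap [Finite S] (hS : IsPGroup 2 S) (D : Subgroup S) (hD : Cfsg.IsElementaryAbelian 2 D)
    (h16 : Nat.card D = 16) (w : S) (hwD : w ∈ D) (hQ : Nat.card ↥(centralizer ({w} : Set S)) = 32)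
    (r : S) (hr : r * w = w * r) (hrD : r ∉ D) (hfix : Nat.card ↥(D ⊓ centralizer ({r} : Set S)) = 4) :
    Cfsg.SectionalPRankLE 2 4 S := by
  set Q : Subgroup S := centralizer ({w} : Set S) with hQdef
  have hDQ : D ≤ Q := fun d hd => mem_centralizer_singleton_iff.2 (elem_comm hD hd hwD)
  have hrQ : r ∈ Q := mem_centralizer_singleton_iff.2 hr
  have hidx : (D.subgroupOf Q).index = 2 := by
    have e := (D.subgroupOf Q).card_mul_index
    rw [Nat.card_congr (subgroupOfEquivOfLe hDQ).toEquiv, h16, hQ] at e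
    omega
  haveI hn : (D.subgroupOf Q).Normal := normal_of_index_eq_two hidx
  have hrn : ∀ d ∈ D, r * d * r⁻¹ ∈ D := fun d hd =>
    hn.conj_mem ⟨d, hDQ hd⟩ hd ⟨r, hrQ⟩
  have hr2 : r * r ∈ D := by
    have := sq_mem_of_index_two hidx ⟨r, hrQ⟩
    rwa [mem_subgroupOf, SubmonoidClass.coe_pow, pow_two] at this
  -- the commutator map onto the fixed points
  let f : D →* S :=
    { toFun := fun v => (v : S) * (r * v * r⁻¹)
      map_one' := by simp
      map_mul' := fun a b => by
        have hb : (b : S) * (r * a * r⁻¹) = r * a * r⁻¹ * b := elem_comm hD b.2 (hrn a a.2)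
        simp only [Subgroup.coe_mul]
        calc (a : S) * b * (r * (a * b) * r⁻¹)
            = a * (b * (r * a * r⁻¹)) * (r * b * r⁻¹) := by group
          _ = a * (r * a * r⁻¹ * b) * (r * b * r⁻¹) := by rw [hb]
          _ = a * (r * a * r⁻¹) * (b * (r * b * r⁻¹)) := by group }
  set C : Subgroup S := D ⊓ centralizer ({r} : Set S) with hC
  have hrange : f.range ≤ C := by
    rintro _ ⟨v, rfl⟩
    refine ⟨D.mul_mem v.2 (hrn v v.2), mem_centralizer_singleton_iff.2 ?_⟩
    show (v : S) * (r * v * r⁻¹) * r = r * (v * (r * v * r⁻¹))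
    have h1 : (v : S) * (r * v * r⁻¹) = r * v * r⁻¹ * v := elem_comm hD v.2 (hrn v v.2)
    have h2 : r * (r * (v : S) * r⁻¹) * r⁻¹ = v := by
      calc r * (r * (v : S) * r⁻¹) * r⁻¹ = (r * r) * v * (r * r)⁻¹ := by group
        _ = v := by rw [elem_comm hD hr2 v.2]; group
    calc (v : S) * (r * v * r⁻¹) * r = r * v * r⁻¹ * v * r := by rw [h1]
      _ = r * v * r⁻¹ * (r * (r * v * r⁻¹) * r⁻¹) * r := by rw [h2]
      _ = r * (v * (r * v * r⁻¹)) := by group
  have hker : f.ker.map D.subtype ≤ C := by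
    rintro _ ⟨v, hv, rfl⟩
    refine ⟨v.2, mem_centralizer_singleton_iff.2 ?_⟩
    have hv' : (v : S) * (r * v * r⁻¹) = 1 := hv
    have h3 : r * (v : S) * r⁻¹ = v := (eq_inv_of_mul_eq_one_right hv').trans
      (inv_eq_of_mul_eq_one_right (elem_sq hD v.2))
    show (v : S) * r = r * v
    calc (v : S) * r = r * v * r⁻¹ * r := by rw [h3]
      _ = r * v := by group
  have hr2C : r * r ∈ f.range := by
    have hk := Nat.card_le_card_of_injective _ (inclusion_injective hker)
    rw [card_map_of_injective D.subtype_injective] at hk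
    have e := f.ker.card_mul_index
    rw [index_ker, h16] at e
    have heq : f.range = C := eq_of_le_of_card_ge hrange (by nlinarith [Nat.card_pos (α := f.ker)])
    rw [heq]
    exact ⟨hr2, mem_centralizer_singleton_iff.2 (mul_assoc r r r)⟩
  obtain ⟨d, hd⟩ := hr2C
  have hd' : (d : S) * (r * d * r⁻¹) = r * r := hd
  set s : S := (d : S) * r with hs
  have hss : s * s = 1 := by
    have h4 : (r * r) * (r * r) = 1 := elem_sq hD hr2
    calc s * s = (d * (r * d * r⁻¹)) * (r * r) := by rw [hs]; group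
      _ = 1 := by rw [hd', h4]
  have hsD : s ∉ D := fun h => hrD (by simpa [hs] using D.mul_mem (D.inv_mem d.2) h)
  have hs1 : s ≠ 1 := fun h => hsD (h ▸ D.one_mem)
  refine Cfsg.Agent.S1234.result hS Q D hDQ hD h16 hQ s ?_ hsD (orderOf_eq_prime (by rw [pow_two, hss]) hs1) ?_ ?_
  · exact Q.mul_mem (hDQ d.2) hrQ
  · rw [← hfix]
    have : D ⊓ centralizer ({s} : Set S) = C := by
      ext v
      simp only [hC, mem_inf, mem_centralizer_singleton_iff, and_congr_right_iff]
      intro hv
      have hvd : v * (d : S) = d * v := elem_comm hD hv d.2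
      rw [hs]
      constructor
      · intro h
        calc v * r = (d : S)⁻¹ * (d * v * r) := by group
          _ = (d : S)⁻¹ * (v * (d * r)) := by rw [← hvd]; group
          _ = r * v := by rw [h]; group
      · intro h
        calc v * (d * r) = d * (v * r) := by rw [← mul_assoc, hvd, mul_assoc]
          _ = d * r * v := by rw [h, mul_assoc]
    rw [this]
  · have hZ : w ∈ (center Q).map Q.subtype := ⟨⟨w, hDQ hwD⟩, mem_center_iff.2 fun g => Subtype.ext
      (mem_centralizer_singleton_iff.1 g.2), rfl⟩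
    refine le_antisymm (fun a ha => mem_centralizer_singleton_iff.2 ((mem_centralizer_iff.1 ha) w hZ).symm)
      fun a ha => mem_centralizer_iff.2 ?_
    rintro _ ⟨z, hz, rfl⟩
    exact (congrArg Subtype.val (mem_center_iff.1 hz ⟨a, ha⟩)).symm

/-- In a 2-group, a subgroup equal to its normaliser is everything. -/
theorem eq_top_of_normalizer [Finite S] (hS : IsPGroup 2 S) {H : Subgroup S}
    (h : normalizer (H : Set S) ≤ H) : H = ⊤ := by
  haveI : Fact (Nat.Prime 2) := ⟨Nat.prime_two⟩
  have := hS.isNilpotent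
  by_contra hne
  exact (lt_top_iff_ne_top.2 hne |> (Group.normalizerCondition_of_isNilpotent H)).not_ge h

theorem mem_normalizer_of_conj [Finite S] {H : Subgroup S} {g : S} (h : ∀ x ∈ H, g * x * g⁻¹ ∈ H) :
    g ∈ normalizer (H : Set S) := by
  have he : H.map (MulAut.conj g).toMonoidHom = H := by
    refine eq_of_le_of_card_ge ?_ (card_map_of_injective (MulAut.conj g).injective).ge
    rintro _ ⟨x, hx, rfl⟩
    exact h x hx
  refine mem_normalizer_iff.2 fun x => ⟨h x, fun hx => ?_⟩
  rw [← he] at hx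
  obtain ⟨y, hy, hyx⟩ := hx
  simp only [MulEquiv.coe_toMonoidHom, MulAut.conj_apply, mul_left_inj, mul_right_inj] at hyx
  exact hyx ▸ hy

theorem card_mul_le_of_le [Finite S] (B D N : Subgroup S) (hB : B ≤ N) (hD : D ≤ N) :
    Nat.card B * Nat.card D ≤ Nat.card N * Nat.card ↥(B ⊓ D) := by
  rw [← CfsgLib.LocalB.CD.ncard_mul B D]
  refine Nat.mul_le_mul_right _ ((CfsgLib.LocalB.CD.ncard_mul_le B D).trans ?_)
  exact Nat.card_le_card_of_injective _ (inclusion_injective (sup_le hB hD))

theorem le_or_le_of_subset_union {E D B : Subgroup S} (h : ∀ x ∈ E, x ∈ D ∨ x ∈ B) : E ≤ D ∨ E ≤ B := by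
  by_contra hne
  rw [not_or] at hne
  obtain ⟨a, haE, haD⟩ := SetLike.not_le_iff_exists.1 hne.1
  obtain ⟨b, hbE, hbB⟩ := SetLike.not_le_iff_exists.1 hne.2
  have haB := (h a haE).resolve_left haD
  have hbD := (h b hbE).resolve_right hbB
  rcases h (a * b) (E.mul_mem haE hbE) with h' | h'
  · exact haD (by simpa using D.mul_mem h' (D.inv_mem hbD))
  · exact hbB (by simpa using B.mul_mem (B.inv_mem haB) h')

theorem elem_map {A : Subgroup S} (hA : Cfsg.IsElementaryAbelian 2 A) (f : S →* S) :
    Cfsg.IsElementaryAbelian 2 (A.map f) := by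
  refine ⟨⟨⟨?_⟩⟩, ?_⟩
  · rintro ⟨_, a, ha, rfl⟩ ⟨_, b, hb, rfl⟩
    exact Subtype.ext (by simp only [Subgroup.coe_mul, ← map_mul, elem_comm hA ha hb])
  · rintro _ ⟨a, ha, rfl⟩
    rw [← map_pow, hA.2 a ha, map_one]

/-- `S` has sections of rank at most four when some elementary group of order sixteen contains a four group
whose involutions have it as centralizer, with the stated trivial intersection property. -/
theorem rank_of_spread [Finite S] (hS : IsPGroup 2 S) (D W : Subgroup S) (hD : Cfsg.IsElementaryAbelian 2 D)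
    (h16 : Nat.card D = 16) (hWD : W ≤ D) (hW4 : Nat.card W = 4)
    (hcent : ∀ w ∈ W, w ≠ 1 → centralizer ({w} : Set S) = D)
    (hTI : ∀ n ∈ normalizer (D : Set S), ∀ w ∈ W, w ≠ 1 → n * w * n⁻¹ ∈ W → ∀ v ∈ W, n * v * n⁻¹ ∈ W) :
    Cfsg.SectionalPRankLE 2 4 S := by
  classical
  haveI : Fact (Nat.Prime 2) := ⟨Nat.prime_two⟩
  refine Sec4.sectional ?_
  set N : Subgroup S := normalizer (D : Set S) with hN
  have hDN : D ≤ N := le_normalizer
  -- the setwise stabiliser of `W` in `N` is `D`
  have hstab : ∀ n ∈ N, (∀ v ∈ W, n * v * n⁻¹ ∈ W) → n ∈ D := by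
    intro n hn hW
    have hnn : ∀ {k}, k ∈ zpowers n → ∀ v ∈ W, k * v * k⁻¹ ∈ W := fun {k} hk v hv =>
      ((mem_normalizer_iff.1 ((zpowers_le.2 (mem_normalizer_of_conj hW)) hk)) v).1 hv
    letI act : MulAction (zpowers n) W :=
      { smul := fun k v => ⟨(k : S) * v * (k : S)⁻¹, hnn k.2 v v.2⟩
        one_smul := fun v => Subtype.ext (by
          show ((1 : zpowers n) : S) * v * ((1 : zpowers n) : S)⁻¹ = v
          simp)
        mul_smul := fun a b v => Subtype.ext (by
          show ((a * b : zpowers n) : S) * v * ((a * b : zpowers n) : S)⁻¹ =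
            (a : S) * ((b : S) * v * (b : S)⁻¹) * (a : S)⁻¹
          rw [Subgroup.coe_mul]; group) }
    have h1 : (1 : W) ∈ MulAction.fixedPoints (zpowers n) W := fun k => Subtype.ext (by
      show (k : S) * ((1 : W) : S) * (k : S)⁻¹ = ((1 : W) : S)
      simp)
    obtain ⟨w, hw, hw1⟩ := (hS.to_subgroup (zpowers n)).exists_fixed_point_of_prime_dvd_card_of_fixed_point
      W (by rw [hW4]; norm_num) h1
    have hfx : n * (w : S) * n⁻¹ = w := congrArg Subtype.val (hw ⟨n, mem_zpowers n⟩)
    have : n ∈ centralizer ({(w : S)} : Set S) := mem_centralizer_singleton_iff.2 (mul_inv_eq_iff_eq_mul.1 hfx)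
    rwa [hcent w w.2 fun h => hw1 (Subtype.ext h.symm)] at this
  -- disjointness of the conjugates of `W`
  have hdisj : ∀ m ∈ N, ∀ n ∈ N, ∀ v ∈ W, ∀ w ∈ W, v ≠ 1 → n * v * n⁻¹ = m * w * m⁻¹ → m⁻¹ * n ∈ D := by
    intro m hm n hn v hv w hw hv1 he
    refine hstab _ (N.mul_mem (N.inv_mem hm) hn) (hTI _ (N.mul_mem (N.inv_mem hm) hn) v hv hv1 ?_)
    have : m⁻¹ * n * v * (m⁻¹ * n)⁻¹ = w := by
      calc m⁻¹ * n * v * (m⁻¹ * n)⁻¹ = m⁻¹ * (n * v * n⁻¹) * m := by group
        _ = w := by rw [he]; group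
    rw [this]; exact hw
  -- nontrivial fixed points of an element outside `D`
  have hC : ∀ n ∈ N, n ∉ D → ∀ d ∈ D, d * n = n * d → ∀ m ∈ N, ∀ w ∈ W, d = m * w * m⁻¹ → d = 1 := by
    intro n hn hnD d hd hdn m hm w hw he
    by_contra hd1
    have hw1 : w ≠ 1 := fun h => hd1 (by rw [he, h]; group)
    have : m⁻¹ * n * m ∈ centralizer ({w} : Set S) := mem_centralizer_singleton_iff.2 (by
      have hw' : w = m⁻¹ * d * m := by rw [he]; group
      calc m⁻¹ * n * m * w = m⁻¹ * (n * d) * m := by rw [hw']; group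
        _ = w * (m⁻¹ * n * m) := by rw [← hdn, hw']; group)
    rw [hcent w hw hw1] at this
    refine hnD ?_
    have hc := (mem_normalizer_iff.1 hm _).1 this
    simpa [mul_assoc] using hc
  by_cases hND : N ≤ D
  · exact sec4_of_card_le (by rw [← h16, eq_top_of_normalizer hS hND, card_top])
  obtain ⟨n₁, hn₁, hn₁D⟩ := SetLike.not_le_iff_exists.1 hND
  -- the map of cosets and involutions of `W` into `D`
  haveI hDn : (D.subgroupOf N).Normal := normal_in_normalizer
  let Q := N ⧸ D.subgroupOf N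
  let W' := {w : W // w ≠ 1}
  let Φ : Q × W' → D := fun q => ⟨(q.1.out : S) * (q.2.1 : S) * (q.1.out : S)⁻¹,
    (mem_normalizer_iff.1 q.1.out.2 _).1 (hWD q.2.1.2)⟩
  have hne1 : ∀ q, Φ q ≠ 1 := fun q h => q.2.2 (Subtype.ext (by
    have h' : (q.1.out : S) * (q.2.1 : S) * (q.1.out : S)⁻¹ = 1 := congrArg Subtype.val h
    simpa [conj_eq_one_iff] using h'))
  have hΦ : Function.Injective Φ := by
    rintro ⟨q, w⟩ ⟨q', w'⟩ he
    have he' : (q.out : S) * (w.1 : S) * (q.out : S)⁻¹ = (q'.out : S) * (w'.1 : S) * (q'.out : S)⁻¹ :=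
      congrArg Subtype.val he
    have hq : q = q' := by
      have h' := hdisj _ q'.out.2 _ q.out.2 _ w.1.2 _ w'.1.2 (fun h => w.2 (Subtype.ext h)) he'
      rw [← QuotientGroup.out_eq' q, ← QuotientGroup.out_eq' q', eq_comm, QuotientGroup.eq, mem_subgroupOf]
      simpa using h'
    subst hq
    refine Prod.ext rfl (Subtype.ext (Subtype.ext ?_))
    simpa using he'
  have hW' : Nat.card W' = 3 := by
    haveI := Fintype.ofFinite W
    rw [Nat.card_eq_fintype_card, Fintype.card_subtype_compl, Fintype.card_subtype_eq, ← Nat.card_eq_fintype_card, hW4]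
  have hcardN : Nat.card N = Nat.card Q * 16 := by
    rw [← h16, ← Nat.card_congr (subgroupOfEquivOfLe hDN).toEquiv]
    exact (D.subgroupOf N).card_eq_card_quotient_mul_card_subgroup
  have hQ5 : 3 * Nat.card Q ≤ 15 := by
    have h15 : Nat.card {d : D // d ≠ 1} = 15 := by
      haveI := Fintype.ofFinite D
      rw [Nat.card_eq_fintype_card, Fintype.card_subtype_compl, Fintype.card_subtype_eq, ← Nat.card_eq_fintype_card, h16]
    rw [← h15, mul_comm, ← hW', ← Nat.card_prod]
    exact Nat.card_le_card_of_injective (fun q => ⟨Φ q, hne1 q⟩) fun a b h => hΦ (congrArg Subtype.val h)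
  obtain ⟨k, hk⟩ : ∃ k, Nat.card Q = 2 ^ k :=
    ((hS.to_subgroup N).to_quotient (D.subgroupOf N)).exists_card_eq
  have hQ1 : Nat.card Q ≠ 1 := by
    intro h
    rw [h, one_mul] at hcardN
    exact hn₁D ((eq_of_le_of_card_ge hDN (by rw [h16, hcardN])) ▸ hn₁)
  have hQ24 : Nat.card Q = 2 ∨ Nat.card Q = 4 := by
    rcases k with _ | _ | _ | k
    · exact absurd hk hQ1
    · exact Or.inl hk
    · exact Or.inr hk
    · exfalso
      have := Nat.two_pow_pos k
      rw [hk, pow_succ, pow_succ, pow_succ] at hQ5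
      omega
  -- an element squaring into `D`
  obtain ⟨n, hn, hnD, hnsq⟩ : ∃ n ∈ N, n ∉ D ∧ n * n ∈ D := by
    obtain ⟨q, hq⟩ := exists_prime_orderOf_dvd_card' (G := Q) 2 (by rcases hQ24 with h | h <;> rw [h] <;> norm_num)
    obtain ⟨u, rfl⟩ := QuotientGroup.mk_surjective q
    refine ⟨u, u.2, fun h => ?_, ?_⟩
    · rw [(QuotientGroup.eq_one_iff u).2 (mem_subgroupOf.2 h), orderOf_one] at hq
      omega
    · have := pow_orderOf_eq_one (QuotientGroup.mk (s := D.subgroupOf N) u)
      rw [hq, ← QuotientGroup.mk_pow, QuotientGroup.eq_one_iff, mem_subgroupOf, SubmonoidClass.coe_pow,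
        pow_two] at this
      exact this
  set F : Subgroup S := D ⊓ centralizer ({n} : Set S) with hF
  -- every element off `D` fixes at most four elements of `D`
  have hfour : ∀ n' ∈ N, n' ∉ D → Nat.card ↥(D ⊓ centralizer ({n'} : Set S)) ≤ 4 := by
    intro n' hn' hn'D
    set C := D ⊓ centralizer ({n'} : Set S) with hCdef
    let ψ : C × W → D := fun p => ⟨(p.1 : S) * (p.2 : S), D.mul_mem p.1.2.1 (hWD p.2.2)⟩
    have hψ : Function.Injective ψ := by
      rintro ⟨c, w⟩ ⟨c', w'⟩ he
      have he' : (c : S) * w = c' * w' := congrArg Subtype.val he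
      have hcw : (c' : S)⁻¹ * c = w' * (w : S)⁻¹ := by
        calc (c' : S)⁻¹ * c = (c' : S)⁻¹ * ((c : S) * w) * (w : S)⁻¹ := by group
          _ = w' * (w : S)⁻¹ := by rw [he']; group
      have hmem : (c' : S)⁻¹ * c ∈ C := C.mul_mem (C.inv_mem c'.2) c.2
      have h1 := hC n' hn' hn'D _ hmem.1 (mem_centralizer_singleton_iff.1 hmem.2) 1 N.one_mem
        ((w' : S) * (w : S)⁻¹) (W.mul_mem w'.2 (W.inv_mem w.2)) (by rw [hcw]; group)
      have hcc : (c : S) = c' := (inv_mul_eq_one.1 h1).symm
      refine Prod.ext (Subtype.ext hcc) (Subtype.ext ?_)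
      simpa [hcc] using he'
    have := Nat.card_le_card_of_injective ψ hψ
    rw [Nat.card_prod, hW4, h16] at this
    omega
  have hF4 : Nat.card F = 4 := by
    have h1 := card_le_cent_sq hD (x := n) (fun v hv => (mem_normalizer_iff.1 hn v).1 hv)
      (fun v hv => elem_comm hD hnsq hv)
    have h2 := hfour n hn hnD
    rw [h16, ← hF] at h1
    rw [← hF] at h2
    nlinarith
  rcases hQ24 with hQ | hQ
  · -- normaliser of order `32`
    have hB : ∀ B : Subgroup S, B ≤ N → Cfsg.IsElementaryAbelian 2 B → Nat.card B = 16 → B = D := by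
      intro B hBN hBe hB16
      by_contra hne
      obtain ⟨b, hbB, hbD⟩ := SetLike.not_le_iff_exists.1
        fun hle => hne (eq_of_le_of_card_ge hle (by rw [h16, hB16]))
      have hsub : (B ⊓ D) ≤ D ⊓ centralizer ({b} : Set S) := fun x hx =>
        ⟨hx.2, mem_centralizer_singleton_iff.2 (elem_comm hBe hx.1 hbB)⟩
      have h1 := (Nat.card_le_card_of_injective _ (inclusion_injective hsub)).trans (hfour b (hBN hbB) hbD)
      have h2 := card_mul_le_of_le B D N hBN hDN
      rw [hB16, h16, hcardN, hQ] at h2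
      omega
    have hNtop : N = ⊤ := by
      refine eq_top_of_normalizer hS fun g hg => mem_normalizer_of_conj fun d hd => ?_
      have := hB (D.map (MulAut.conj g).toMonoidHom) (by
          rintro _ ⟨e, he, rfl⟩
          exact (mem_normalizer_iff.1 hg e).1 (hDN he))
        (elem_map hD _) (by rw [card_map_of_injective (MulAut.conj g).injective, h16])
      exact this ▸ ⟨d, hd, rfl⟩
    refine sec4_of_card_le' (by rw [← card_top, ← hNtop, hcardN, hQ]) ?_
    by_contra hcomm
    push Not at hcomm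
    have : D ≤ F := fun d hd => ⟨hd, mem_centralizer_singleton_iff.2 (hcomm d n).1⟩
    have := Nat.card_le_card_of_injective _ (inclusion_injective this)
    omega
  -- normaliser of order `64`
  have hFimg : ∀ d ∈ D, d ∉ F → ∃ m ∈ N, ∃ w ∈ W, w ≠ 1 ∧ d = m * w * m⁻¹ := by
    intro d hd hdF
    have hrange : ∀ q, (Φ q : S) ∉ F := fun q hq => hne1 q (Subtype.ext
      (hC n hn hnD _ hq.1 (mem_centralizer_singleton_iff.1 hq.2) _ q.1.out.2 _ q.2.1.2 rfl))
    let Φ' : Q × W' → {e : D // (e : S) ∉ F} := fun q => ⟨Φ q, hrange q⟩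
    have hcard : Nat.card {e : D // (e : S) ∉ F} = 12 := by
      haveI := Fintype.ofFinite D
      haveI := Fintype.ofFinite {e : D // (e : S) ∈ F}
      have hFD : Nat.card {e : D // (e : S) ∈ F} = 4 := by
        rw [← hF4]
        exact Nat.card_congr ⟨fun e => ⟨e.1, e.2⟩, fun e => ⟨⟨e, e.2.1⟩, e.2⟩, fun _ => rfl, fun _ => rfl⟩
      rw [Nat.card_eq_fintype_card, Fintype.card_subtype_compl, ← Nat.card_eq_fintype_card, h16,
        ← Nat.card_eq_fintype_card, hFD]
    have hbij : Function.Bijective Φ' := by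
      rw [Nat.bijective_iff_injective_and_card]
      exact ⟨fun a b h => hΦ (congrArg Subtype.val h), by rw [hcard, Nat.card_prod, hQ, hW']⟩
    obtain ⟨q, hq⟩ := hbij.2 ⟨⟨d, hd⟩, hdF⟩
    exact ⟨_, q.1.out.2, _, q.2.1.2, fun h => q.2.2 (Subtype.ext h),
      (congrArg (fun e => ((e.1 : D) : S)) hq).symm⟩
  have hcent' : ∀ d ∈ D, d ∉ F → centralizer ({d} : Set S) = D := by
    intro d hd hdF
    obtain ⟨m, hm, w, hw, hw1, rfl⟩ := hFimg d hd hdF
    refine le_antisymm (fun g hg => ?_) fun g hg => mem_centralizer_singleton_iff.2 (elem_comm hD hg hd)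
    have hg' := mem_centralizer_singleton_iff.1 hg
    have : m⁻¹ * g * m ∈ centralizer ({w} : Set S) := mem_centralizer_singleton_iff.2 (by
      calc m⁻¹ * g * m * w = m⁻¹ * (g * (m * w * m⁻¹)) * m := by group
        _ = w * (m⁻¹ * g * m) := by rw [hg']; group)
    rw [hcent w hw hw1] at this
    simpa [mul_assoc] using (mem_normalizer_iff.1 hm _).1 this
  have hCF : ∀ n' ∈ N, n' ∉ D → D ⊓ centralizer ({n'} : Set S) ≤ F := by
    intro n' hn' hn'D d hd
    by_contra hdF
    have hn'c : n' ∈ centralizer ({d} : Set S) :=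
      mem_centralizer_singleton_iff.2 (mem_centralizer_singleton_iff.1 hd.2).symm
    rw [hcent' d hd.1 hdF] at hn'c
    exact hn'D hn'c
  -- an elementary group of sections cannot meet `D` outside `F`
  have hsecD : ∀ H V : Subgroup S, V ≤ H → (∀ x ∈ H, ∀ y ∈ H, x * y * x⁻¹ * y⁻¹ ∈ V) →
      16 * Nat.card V < Nat.card H → H ⊓ D ≤ F := by
    intro H V hVH hHc hlt d hd
    by_contra hdF
    let φ : H → V := fun x => ⟨x * d * (x : S)⁻¹ * d⁻¹, hHc x x.2 d hd.1⟩
    have hfib : ∀ x y : H, φ x = φ y → (y : S)⁻¹ * x ∈ D := by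
      intro x y he
      have he' : (x : S) * d * (x : S)⁻¹ * d⁻¹ = y * d * (y : S)⁻¹ * d⁻¹ := congrArg Subtype.val he
      have : (y : S)⁻¹ * x ∈ centralizer ({d} : Set S) := mem_centralizer_singleton_iff.2 (by
        calc (y : S)⁻¹ * x * d = (y : S)⁻¹ * ((x : S) * d * (x : S)⁻¹ * d⁻¹) * d * x := by group
          _ = (y : S)⁻¹ * ((y : S) * d * (y : S)⁻¹ * d⁻¹) * d * x := by rw [he']
          _ = d * ((y : S)⁻¹ * x) := by group)
      rwa [hcent' d hd.2 hdF] at this
    let χ : H → V × D := fun x => (φ x, ⟨(Function.invFun φ (φ x) : H)⁻¹ * (x : S), by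
      have := hfib x _ (Function.invFun_eq ⟨x, rfl⟩).symm
      simpa using this⟩)
    have hχ : Function.Injective χ := by
      intro x y he
      simp only [χ, Prod.mk.injEq, Subtype.mk.injEq] at he
      obtain ⟨h1, h2⟩ := he
      rw [h1] at h2
      exact Subtype.ext (mul_left_cancel h2)
    have := Nat.card_le_card_of_injective χ hχ
    rw [Nat.card_prod, h16] at this
    omega
  set N' : Subgroup S := normalizer (N : Set S) with hN'
  have hNN' : N ≤ N' := le_normalizer
  -- involutions of `N` lie in the elementary groups of order sixteen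
  have hinv : ∀ B : Subgroup S, B ≤ N → Cfsg.IsElementaryAbelian 2 B → Nat.card B = 16 → B ≠ D →
      ∀ x ∈ N, x * x = 1 → x ∈ D ∨ x ∈ B := by
    intro B hBN hBe hB16 hne x hx hxx
    obtain ⟨b₀, hb₀B, hb₀D⟩ := SetLike.not_le_iff_exists.1
      fun hle => hne (eq_of_le_of_card_ge hle (by rw [h16, hB16]))
    have hBD : B ⊓ D ≤ F := fun y hy => hCF b₀ (hBN hb₀B) hb₀D
      ⟨hy.2, mem_centralizer_singleton_iff.2 (elem_comm hBe hy.1 hb₀B)⟩
    have h1 := Nat.card_le_card_of_injective _ (inclusion_injective hBD)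
    have h2 := card_mul_le_of_le B D N hBN hDN
    rw [hB16, h16, hcardN, hQ] at h2
    rw [hF4] at h1
    have heq : B ⊓ D = F := eq_of_le_of_card_ge hBD (by rw [hF4]; omega)
    have hx' : x ∈ (B : Set S) * (D : Set S) := by
      have hN2 : ((B : Set S) * (D : Set S)) = (N : Set S) := by
        refine Set.eq_of_subset_of_ncard_le ?_ ?_ (Set.toFinite _)
        · rintro _ ⟨a, ha, c, hc, rfl⟩
          exact N.mul_mem (hBN ha) (hDN hc)
        · have := CfsgLib.LocalB.CD.ncard_mul B D
          rw [heq, hF4, hB16, h16] at this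
          rw [← Nat.card_coe_set_eq (N : Set S)]
          show Nat.card N ≤ _
          omega
      rw [hN2]; exact hx
    obtain ⟨b, hb, d, hd, rfl⟩ := hx'
    by_cases hbD : b ∈ D
    · exact Or.inl (D.mul_mem hbD hd)
    · refine Or.inr (B.mul_mem hb ?_)
      have hdb : d * b = b * d := by
        have hbb := elem_sq hBe hb
        have hdd := elem_sq hD hd
        have h4 : b * d * (b * d) = 1 := hxx
        calc d * b = (b * b) * (d * b) * (d * d) := by rw [hbb, hdd, one_mul, mul_one]
          _ = b * (b * d * (b * d)) * d := by group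
          _ = b * d := by rw [h4, mul_one]
      have : d ∈ F := hCF b (hBN hb) hbD ⟨hd, mem_centralizer_singleton_iff.2 hdb⟩
      exact (heq.symm ▸ this : d ∈ B ⊓ D).1
  by_cases hN'N : N' ≤ N
  · -- the whole group has order `64`
    have hNtop := eq_top_of_normalizer hS hN'N
    intro H V hVH hHc hHs
    by_contra hlt
    have h2 := card_mul_le_of_le H D ⊤ le_top le_top
    have h3 := Nat.card_le_card_of_injective _ (inclusion_injective (hsecD H V hVH hHc (by omega)))
    rw [card_top, ← card_top (G := S), ← hNtop, hcardN, hQ, h16] at h2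
    rw [hF4] at h3
    have := Nat.card_pos (α := V)
    nlinarith
  -- the normaliser of `N` has order `128`
  obtain ⟨m₀, hm₀, hm₀N⟩ := SetLike.not_le_iff_exists.1 hN'N
  set B : Subgroup S := D.map (MulAut.conj m₀).toMonoidHom with hBdef
  have hBN : B ≤ N := by
    rintro _ ⟨e, he, rfl⟩
    exact (mem_normalizer_iff.1 hm₀ e).1 (hDN he)
  have hBe : Cfsg.IsElementaryAbelian 2 B := elem_map hD _
  have hB16 : Nat.card B = 16 := by rw [hBdef, card_map_of_injective (MulAut.conj m₀).injective, h16]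
  have hBne : B ≠ D := fun h => hm₀N (mem_normalizer_of_conj fun d hd =>
    (SetLike.ext_iff.1 h _).1 ⟨d, hd, rfl⟩)
  have hBF : B ⊓ D ≤ F := by
    obtain ⟨b₀, hb₀B, hb₀D⟩ := SetLike.not_le_iff_exists.1
      fun hle => hBne (eq_of_le_of_card_ge hle (by rw [h16, hB16]))
    exact fun y hy => hCF b₀ (hBN hb₀B) hb₀D
      ⟨hy.2, mem_centralizer_singleton_iff.2 (elem_comm hBe hy.1 hb₀B)⟩
  have hBD4 : 4 ≤ Nat.card ↥(B ⊓ D) := by
    have h2 := card_mul_le_of_le B D N hBN hDN
    rw [hB16, h16, hcardN, hQ] at h2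
    omega
  have hBDeq : B ⊓ D = F := eq_of_le_of_card_ge hBF (by rw [hF4]; exact hBD4)
  have honly : ∀ B' : Subgroup S, B' ≤ N → Cfsg.IsElementaryAbelian 2 B' → Nat.card B' = 16 →
      B' = D ∨ B' = B := by
    intro B' hB'N hB'e hB'16
    have hsub : ∀ x ∈ B', x ∈ D ∨ x ∈ B := fun x hx =>
      hinv B hBN hBe hB16 hBne x (hB'N hx) (elem_sq hB'e hx)
    rcases le_or_le_of_subset_union hsub with h | h
    · exact Or.inl (eq_of_le_of_card_ge h (by rw [h16, hB'16]))
    · exact Or.inr (eq_of_le_of_card_ge h (by rw [hB16, hB'16]))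
  have hBcent : ∀ b ∈ B, b ∉ F → Nat.card ↥(centralizer ({b} : Set S)) ≤ 16 := by
    rintro b hb hbF
    obtain ⟨d, hd, rfl⟩ := hb
    have hdF : d ∉ F := by
      intro hdF
      have hd' : d ∈ B := (hBDeq.symm ▸ hdF : d ∈ B ⊓ D).1
      refine hbF ?_
      rw [← hBDeq]
      refine ⟨⟨d, hd, rfl⟩, ?_⟩
      have hBB : B.map (MulAut.conj m₀).toMonoidHom = D := by
        have hle : B.map (MulAut.conj m₀).toMonoidHom ≤ N := by
          rintro _ ⟨e, he, rfl⟩
          exact (mem_normalizer_iff.1 hm₀ e).1 (hBN he)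
        rcases honly _ hle (elem_map hBe _)
            (by rw [card_map_of_injective (MulAut.conj m₀).injective, hB16]) with h | h
        · exact h
        · exact absurd (map_injective (MulAut.conj m₀).injective h) hBne
      exact hBB ▸ ⟨d, hd', rfl⟩
    have : centralizer ({(MulAut.conj m₀).toMonoidHom d} : Set S) ≤
        (centralizer ({d} : Set S)).map (MulAut.conj m₀).toMonoidHom := by
      intro g hg
      have hg' : g * (m₀ * d * m₀⁻¹) = m₀ * d * m₀⁻¹ * g := mem_centralizer_singleton_iff.1 hg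
      refine ⟨m₀⁻¹ * g * m₀, mem_centralizer_singleton_iff.2 ?_, by simp [mul_assoc]⟩
      calc m₀⁻¹ * g * m₀ * d = m₀⁻¹ * (g * (m₀ * d * m₀⁻¹)) * m₀ := by group
        _ = d * (m₀⁻¹ * g * m₀) := by rw [hg']; group
    refine (Nat.card_le_card_of_injective _ (inclusion_injective this)).trans ?_
    rw [card_map_of_injective (MulAut.conj m₀).injective, hcent' d hd hdF, h16]
  have hN'card : Nat.card N' ≤ 128 := by
    let τ : N' → Bool × N := fun g =>
      if h : (g : S) ∈ N then (true, ⟨g, h⟩) else (false, ⟨m₀⁻¹ * g, by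
        refine mem_normalizer_of_conj fun d hd => ?_
        have hle : D.map (MulAut.conj (g : S)).toMonoidHom ≤ N := by
          rintro _ ⟨e, he, rfl⟩
          exact (mem_normalizer_iff.1 g.2 e).1 (hDN he)
        rcases honly _ hle (elem_map hD _) (by rw [card_map_of_injective (MulAut.conj (g : S)).injective, h16]) with
          h' | h'
        · exact absurd (mem_normalizer_of_conj fun e he => h' ▸ ⟨e, he, rfl⟩) h
        · obtain ⟨e, he, he'⟩ : (g : S) * d * (g : S)⁻¹ ∈ B := h' ▸ ⟨d, hd, rfl⟩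
          simp only [MulEquiv.coe_toMonoidHom, MulAut.conj_apply] at he'
          have : m₀⁻¹ * g * d * (m₀⁻¹ * g)⁻¹ = e := by
            calc m₀⁻¹ * g * d * (m₀⁻¹ * g)⁻¹ = m₀⁻¹ * ((g : S) * d * (g : S)⁻¹) * m₀ := by group
              _ = e := by rw [← he']; group
          rw [this]; exact he⟩)
    have hτ : Function.Injective τ := by
      intro g g' he
      by_cases h : (g : S) ∈ N <;> by_cases h' : (g' : S) ∈ N <;> simp [τ, h, h'] at he
      · exact he
      · exact he
    have := Nat.card_le_card_of_injective τ hτ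
    rw [Nat.card_prod, hcardN, hQ] at this
    simpa using this
  have hN'top : N' = ⊤ := by
    refine eq_top_of_normalizer hS fun g hg => mem_normalizer_of_conj fun x hx => ?_
    have key : ∀ E : Subgroup S, E ≤ N → Cfsg.IsElementaryAbelian 2 E → Nat.card E = 16 →
        E.map (MulAut.conj g).toMonoidHom ≤ N := by
      intro E hEN hEe hE16
      set B₂ := E.map (MulAut.conj g).toMonoidHom with hB₂
      have hB₂N' : B₂ ≤ N' := by
        rintro _ ⟨e, he, rfl⟩
        exact (mem_normalizer_iff.1 hg e).1 (hNN' (hEN he))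
      have hB₂e : Cfsg.IsElementaryAbelian 2 B₂ := elem_map hEe _
      have hB₂16 : Nat.card B₂ = 16 := by rw [hB₂, card_map_of_injective (MulAut.conj g).injective, hE16]
      intro m hm
      by_contra hmN
      have hX8 : 8 ≤ Nat.card ↥(B₂ ⊓ N) := by
        have := card_mul_le_of_le B₂ N N' hB₂N' hNN'
        rw [hB₂16, hcardN, hQ] at this
        nlinarith
      have hsub : ∀ x ∈ B₂ ⊓ N, x ∈ D ∨ x ∈ B := fun x hx =>
        hinv B hBN hBe hB16 hBne x hx.2 (elem_sq hB₂e hx.1)
      rcases le_or_le_of_subset_union hsub with h | h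
      · have : B₂ ⊓ N ≤ F := by
          intro x hx
          by_contra hxF
          have hmc : m ∈ centralizer ({x} : Set S) := mem_centralizer_singleton_iff.2 (elem_comm hB₂e hm hx.1)
          rw [hcent' x (h hx) hxF] at hmc
          exact hmN (hDN hmc)
        have := Nat.card_le_card_of_injective _ (inclusion_injective this)
        omega
      · have : B₂ ⊓ N ≤ F := by
          intro x hx
          by_contra hxF
          have hmc : m ∈ centralizer ({x} : Set S) := mem_centralizer_singleton_iff.2 (elem_comm hB₂e hm hx.1)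
          have hBle : B ≤ centralizer ({x} : Set S) := fun e he =>
            mem_centralizer_singleton_iff.2 (elem_comm hBe he (h hx))
          rw [← eq_of_le_of_card_ge hBle ((hBcent x (h hx) hxF).trans_eq hB16.symm)] at hmc
          exact hmN (hBN hmc)
        have := Nat.card_le_card_of_injective _ (inclusion_injective this)
        omega
    have hgen : N ≤ D ⊔ B := by
      have h2 := card_mul_le_of_le B D (D ⊔ B) le_sup_right le_sup_left
      rw [hBDeq, hB16, h16, hF4] at h2
      exact (eq_of_le_of_card_ge (sup_le hDN hBN) (by rw [hcardN, hQ]; omega)).ge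
    have hle : (D ⊔ B).map (MulAut.conj g).toMonoidHom ≤ N := by
      rw [Subgroup.map_sup]
      exact sup_le (key D hDN hD h16) (key B hBN hBe hB16)
    exact hle ⟨x, hgen hx, rfl⟩
  intro H V hVH hHc hHs
  by_contra hlt
  have hS128 : Nat.card S ≤ 128 := by rw [← card_top, ← hN'top]; exact hN'card
  have hHD := Nat.card_le_card_of_injective _ (inclusion_injective (hsecD H V hVH hHc (by omega)))
  rw [hF4] at hHD
  have h2 := card_mul_le_of_le H D ⊤ le_top le_top
  rw [card_top, h16] at h2
  have hV1 : V = ⊥ := by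
    refine card_eq_one.1 ?_
    have := Nat.card_pos (α := V)
    nlinarith
  subst hV1
  have hHe : Cfsg.IsElementaryAbelian 2 H :=
    ⟨⟨⟨fun a b => Subtype.ext (commutatorElement_eq_one_iff_mul_comm.1 (mem_bot.1 (hHc a a.2 b b.2)))⟩⟩,
      fun a ha => by rw [pow_two]; exact mem_bot.1 (hHs a ha)⟩
  rw [card_bot, mul_one] at hlt
  have hH32 : 32 ≤ Nat.card H := by
    obtain ⟨j, hj⟩ := (hS.to_subgroup H).exists_card_eq
    rcases le_or_gt 5 j with hj5 | hj5
    · rw [hj]; exact le_trans (by norm_num) (Nat.pow_le_pow_right two_pos hj5)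
    · exact absurd (hj ▸ Nat.pow_le_pow_right two_pos (Nat.lt_succ_iff.1 hj5)) hlt
  have hH16 : 16 ≤ Nat.card ↥(H ⊓ N) := by
    have h3 := card_mul_le_of_le H N N' (by rw [hN'top]; exact le_top) hNN'
    rw [hcardN, hQ] at h3
    nlinarith
  have hsub : ∀ x ∈ H ⊓ N, x ∈ D ∨ x ∈ B := fun x hx =>
    hinv B hBN hBe hB16 hBne x hx.2 (elem_sq hHe hx.1)
  rcases le_or_le_of_subset_union hsub with h | h
  · have hle : H ⊓ N ≤ H ⊓ D := le_inf inf_le_left h
    have := Nat.card_le_card_of_injective _ (inclusion_injective hle)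
    omega
  · obtain ⟨x, hx, hxF⟩ := SetLike.not_le_iff_exists.1 (fun hle : H ⊓ N ≤ F => by
      have := Nat.card_le_card_of_injective _ (inclusion_injective hle)
      omega)
    have hHle : H ≤ centralizer ({x} : Set S) := fun e he =>
      mem_centralizer_singleton_iff.2 (elem_comm hHe he hx.1)
    have h5 := (Nat.card_le_card_of_injective _ (inclusion_injective hHle)).trans (hBcent x (h hx) hxF)
    exact hlt h5

/-- A 2-group with a unique involution is generated by two elements. -/
theorem two_generated {L : Type*} [Group L] [Finite L] (hL : IsPGroup 2 L)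
    (hu : ∀ x y : L, orderOf x = 2 → orderOf y = 2 → x = y) :
    ∃ a b : L, closure ({a, b} : Set L) = ⊤ := by
  haveI : Fact (Nat.Prime 2) := ⟨Nat.prime_two⟩
  rcases CfsgLib.UniqueInvol.cyclic_or_quaternion hL
      (fun x y hx hy => hu x y hx hy ▸ mem_zpowers x) with hc | ⟨-, n, -, ⟨e⟩⟩
  · obtain ⟨g, hg⟩ := hc.exists_generator
    refine ⟨g, g, eq_top_iff.2 fun x _ => ?_⟩
    exact zpowers_le.2 (subset_closure (Set.mem_insert g _)) (hg x)
  · refine ⟨e.symm (QuaternionGroup.a 1), e.symm (QuaternionGroup.xa 0), eq_top_iff.2 fun x _ => ?_⟩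
    set K := closure ({e.symm (QuaternionGroup.a 1), e.symm (QuaternionGroup.xa 0)} : Set L)
    have ha : ∀ i, e.symm (QuaternionGroup.a i) ∈ K := fun i => by
      rw [← ZMod.natCast_zmod_val i, ← QuaternionGroup.a_one_pow, map_pow]
      exact K.pow_mem (subset_closure (Set.mem_insert _ _)) _
    rw [← e.symm_apply_apply x]
    rcases h : e x with i | i
    · exact ha i
    · have h0 : QuaternionGroup.xa i = QuaternionGroup.xa 0 * QuaternionGroup.a i := by simp
      rw [h0, map_mul]
      exact K.mul_mem (subset_closure (Set.mem_insert_of_mem _ rfl)) (ha i)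

/-- An elementary abelian section has order at most sixteen when some subgroup of index at most four has a
unique involution. -/
theorem sec4_of_unique [Finite S] (hS : IsPGroup 2 S) (T : Subgroup S) (hT : T.index ≤ 4)
    (hu : ∀ x ∈ T, ∀ y ∈ T, orderOf x = 2 → orderOf y = 2 → x = y) : Sec4 S := by
  intro H N hNH hHc hHs
  set L : Subgroup S := H ⊓ T with hL
  haveI : (N.subgroupOf H).Normal := ⟨fun x hx h => by
    rw [mem_subgroupOf] at hx ⊢
    have h1 := N.mul_mem (hHc h h.2 x x.2) hx
    simpa [mul_assoc] using h1⟩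
  let ψ : L →* H ⧸ N.subgroupOf H := (QuotientGroup.mk' _).comp (inclusion inf_le_left)
  obtain ⟨a, b, hab⟩ := two_generated (hS.to_subgroup L) fun x y hx hy => Subtype.ext
    (hu x x.2.2 y y.2.2 (by rw [orderOf_coe, hx]) (by rw [orderOf_coe, hy]))
  have hcomm : ∀ p q : H ⧸ N.subgroupOf H, p * q = q * p := fun p q => by
    obtain ⟨x, rfl⟩ := QuotientGroup.mk'_surjective (N.subgroupOf H) p
    obtain ⟨y, rfl⟩ := QuotientGroup.mk'_surjective (N.subgroupOf H) q
    rw [← commutatorElement_eq_one_iff_mul_comm, ← map_commutatorElement]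
    exact (QuotientGroup.eq_one_iff _).2 (mem_subgroupOf.2 (hHc x x.2 y y.2))
  have hsq : ∀ p : H ⧸ N.subgroupOf H, p * p = 1 := fun p => by
    obtain ⟨x, rfl⟩ := QuotientGroup.mk'_surjective (N.subgroupOf H) p
    rw [← map_mul]
    exact (QuotientGroup.eq_one_iff _).2 (mem_subgroupOf.2 (hHs x x.2))
  have hrange : (ψ.range : Set (H ⧸ N.subgroupOf H)) ⊆ {1, ψ a, ψ b, ψ a * ψ b} := by
    rintro _ ⟨x, rfl⟩
    have hx : x ∈ closure ({a, b} : Set L) := by rw [hab]; exact mem_top x
    have A2 := hsq (ψ a)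
    have B2 := hsq (ψ b)
    have AB := hcomm (ψ b) (ψ a)
    induction hx using closure_induction with
    | mem y hy => rcases hy with rfl | rfl <;> simp
    | one => simp
    | inv y _ h1 =>
      rw [map_inv, inv_eq_of_mul_eq_one_right (hsq (ψ y))]
      exact h1
    | mul y z _ _ h1 h2 =>
      rw [map_mul]
      simp only [Set.mem_insert_iff, Set.mem_singleton_iff] at h1 h2 ⊢
      have hA' : ∀ t, ψ a * (ψ a * t) = t := fun t => by rw [← mul_assoc, A2, one_mul]
      have hB' : ∀ t, ψ b * (ψ b * t) = t := fun t => by rw [← mul_assoc, B2, one_mul]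
      have hAB' : ∀ t, ψ b * (ψ a * t) = ψ a * (ψ b * t) := fun t => by rw [← mul_assoc, AB, mul_assoc]
      rcases h1 with h1 | h1 | h1 | h1 <;> rcases h2 with h2 | h2 | h2 | h2 <;> rw [h1, h2] <;>
        simp [mul_assoc, A2, B2, AB, hA', hB', hAB']
  have h4 : Nat.card ψ.range ≤ 4 := by
    rw [← SetLike.coe_sort_coe, Nat.card_coe_set_eq]
    refine (Set.ncard_le_ncard hrange (Set.toFinite _)).trans ?_
    calc ({1, ψ a, ψ b, ψ a * ψ b} : Set (H ⧸ N.subgroupOf H)).ncard
        ≤ ({ψ a, ψ b, ψ a * ψ b} : Set (H ⧸ N.subgroupOf H)).ncard + 1 := Set.ncard_insert_le _ _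
      _ ≤ ({ψ b, ψ a * ψ b} : Set (H ⧸ N.subgroupOf H)).ncard + 1 + 1 :=
          Nat.add_le_add_right (Set.ncard_insert_le _ _) 1
      _ ≤ ({ψ a * ψ b} : Set (H ⧸ N.subgroupOf H)).ncard + 1 + 1 + 1 :=
          Nat.add_le_add_right (Nat.add_le_add_right (Set.ncard_insert_le _ _) 1) 1
      _ = 4 := by rw [Set.ncard_singleton]
  have hker : Nat.card ψ.ker ≤ Nat.card N := by
    refine Nat.card_le_card_of_injective (fun x => ⟨((x : L) : S), ?_⟩) fun x y h =>
      Subtype.ext (Subtype.ext (congrArg (fun u : N => (u : S)) h))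
    have hx := (QuotientGroup.eq_one_iff _).1 (show QuotientGroup.mk' (N.subgroupOf H) _ = 1 from x.2)
    exact mem_subgroupOf.1 hx
  have hL4 : Nat.card L ≤ 4 * Nat.card N := by
    have e := ψ.ker.card_mul_index
    rw [index_ker] at e
    rw [← e, mul_comm 4]
    exact Nat.mul_le_mul hker h4
  have hH4 : Nat.card H ≤ 4 * Nat.card L := by
    have e := (L.subgroupOf H).card_mul_index
    rw [Nat.card_congr (subgroupOfEquivOfLe (inf_le_left : L ≤ H)).toEquiv, ← relIndex, hL,
      inf_relIndex_left] at e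
    rw [← e, mul_comm 4]
    refine Nat.mul_le_mul_left _ (le_trans ?_ hT)
    rw [← relIndex_top_right]
    exact relIndex_le_of_le_right le_top (by rw [relIndex_top_right]; exact index_ne_zero_of_finite)
  omega

end CfsgLib.Fixity4
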