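import Mathlib.GroupTheory.Sylow
import Mathlib.GroupTheory.Abelianization.Defs
import Mathlib.GroupTheory.GroupAction.Quotient
import Mathlib.GroupTheory.Finiteness
import Cfsg.Agent.Fixity4.Small
import Cfsg.Agent.Fixity4.TwoRank
import Cfsg.Agent.Invol.FocalTransfer

/-!
A non-real element of order three whose centralizer has Sylow 3-subgroups of order at most nine lies outside
the derived group.
-/

set_option autoImplicit false
set_option linter.unusedSectionVars false
set_option linter.style.haveILetI false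

namespace CfsgLib.Fixity4

open Subgroup

universe u

theorem pow_three_one {G : Type*} [Group G] {x : G} (hx : orderOf x = 3) : x ^ 3 = 1 := by
  rw [← hx]; exact pow_orderOf_eq_one x

theorem sq_eq_inv {G : Type*} [Group G] {x : G} (hx : orderOf x = 3) : x ^ 2 = x⁻¹ :=
  eq_inv_of_mul_eq_one_left (by rw [← pow_succ]; exact pow_three_one hx)

/-- A power of order two above a pair: odd-order elements cannot invert. -/
theorem eq_one_of_inverted {G : Type*} [Group G] [Finite G] {g x : G} (hg : Odd (orderOf g))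
    (hx : orderOf x = 3) : g * x * g⁻¹ ≠ x⁻¹ := by
  intro h
  have h2 : g * g * x = x * (g * g) := by
    calc g * g * x = g * (g * x * g⁻¹) * g := by group
      _ = g * x⁻¹ * g⁻¹ * g * g := by rw [h]; group
      _ = (g * x * g⁻¹)⁻¹ * (g * g) := by group
      _ = x * (g * g) := by rw [h, inv_inv]
  have hg' : g ∈ zpowers (g * g) := by
    obtain ⟨m, hm⟩ := hg
    refine mem_zpowers_iff.2 ⟨m + 1, ?_⟩
    have : (g * g) ^ (m + 1) = g := by
      rw [← pow_two, ← pow_mul, show 2 * (m + 1) = orderOf g + 1 by omega, pow_succ, pow_orderOf_eq_one, one_mul]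
    exact_mod_cast this
  obtain ⟨k, hk⟩ := mem_zpowers_iff.1 hg'
  have hgx : g * x = x * g := by rw [← hk]; exact ((Commute.zpow_left h2 k)).eq
  rw [hgx, mul_inv_cancel_right] at h
  have h4 : x ^ 2 = 1 := by rw [pow_two]; exact eq_inv_iff_mul_eq_one.1 h
  have := orderOf_dvd_of_pow_eq_one h4
  rw [hx] at this
  norm_num at this

theorem odd_orderOf {G : Type*} [Group G] [Finite G] {P : Subgroup G} (hP : IsPGroup 3 P) {g : G}
    (hg : g ∈ P) : Odd (orderOf g) := by
  haveI : Fact (Nat.Prime 3) := ⟨Nat.prime_three⟩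
  obtain ⟨j, hj⟩ := pgroup_order hP hg
  exact hj ▸ (by decide : Odd 3).pow

/-- The product of an inverse-free set of elements of order three in a group with at most nine of them. -/
theorem prod_ne_one {A : Type*} [CommGroup A] [Finite A] [DecidableEq A] (O : Finset A)
    (hne : O.Nonempty) (h3 : ∀ a ∈ O, a ≠ 1 ∧ a * a * a = 1) (hanti : ∀ a ∈ O, a⁻¹ ∉ O)
    (hmod : ¬ 3 ∣ O.card) (h9 : Nat.card {a : A // a * a * a = 1} ≤ 9) : ∏ a ∈ O, a ≠ 1 := by
  classical
  haveI := Fintype.ofFinite A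
  set T : Finset A := Finset.univ.filter fun a => a * a * a = 1 ∧ a ≠ 1 with hT
  have hT8 : T.card ≤ 8 := by
    have h1 : insert (1 : A) T = Finset.univ.filter fun a : A => a * a * a = 1 := by
      ext a
      simp only [hT, Finset.mem_insert, Finset.mem_filter, Finset.mem_univ, true_and]
      constructor
      · rintro (rfl | h)
        exacts [by simp, h.1]
      · intro h
        by_cases ha : a = 1
        · exact Or.inl ha
        · exact Or.inr ⟨h, ha⟩
    have h2 : (1 : A) ∉ T := by simp [hT]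
    have := congrArg Finset.card h1
    have e : (Finset.univ.filter fun a : A => a * a * a = 1).card = Nat.card {a : A // a * a * a = 1} := by
      rw [Nat.card_eq_fintype_card, Fintype.card_subtype]
    rw [Finset.card_insert_of_notMem h2, e] at this
    omega
  have hinv : ∀ a : A, a * a * a = 1 → a⁻¹ * a⁻¹ * a⁻¹ = 1 := fun a h => by
    rw [← mul_inv_rev, ← mul_inv_rev, ← mul_assoc, h, inv_one]
  have hdis : Disjoint O (O.image (·⁻¹)) := Finset.disjoint_left.2 fun a ha ha' => by
    obtain ⟨b, hb, hba⟩ := Finset.mem_image.1 ha'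
    exact hanti b hb (by rw [hba]; exact ha)
  have hsub : O ∪ O.image (·⁻¹) ⊆ T := by
    intro a ha
    rcases Finset.mem_union.1 ha with ha | ha
    · exact Finset.mem_filter.2 ⟨Finset.mem_univ _, (h3 a ha).2, (h3 a ha).1⟩
    · obtain ⟨b, hb, rfl⟩ := Finset.mem_image.1 ha
      exact Finset.mem_filter.2 ⟨Finset.mem_univ _, hinv b (h3 b hb).2, inv_ne_one.2 (h3 b hb).1⟩
  have hcard : O.card + O.card ≤ T.card := by
    have := Finset.card_le_card hsub
    rwa [Finset.card_union_of_disjoint hdis, Finset.card_image_of_injective _ inv_injective] at this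
  have hpos : 0 < O.card := Finset.card_pos.2 hne
  have hsize : O.card = 1 ∨ O.card = 2 ∨ O.card = 4 := by omega
  rcases hsize with h1 | h2 | h4
  · obtain ⟨a, rfl⟩ := Finset.card_eq_one.1 h1
    rw [Finset.prod_singleton]
    exact (h3 a (by simp)).1
  · obtain ⟨a, b, hab, rfl⟩ := Finset.card_eq_two.1 h2
    rw [Finset.prod_pair hab]
    intro h
    exact hanti a (by simp) (by rw [inv_eq_of_mul_eq_one_right h]; simp)
  · have hfull : O ∪ O.image (·⁻¹) = T := Finset.eq_of_subset_of_card_le hsub (by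
      rw [Finset.card_union_of_disjoint hdis, Finset.card_image_of_injective _ inv_injective]; omega)
    obtain ⟨a, ha⟩ := hne
    obtain ⟨b, hb, hba⟩ : ∃ b ∈ O, b ≠ a := by
      by_contra h
      push Not at h
      have : O ⊆ {a} := fun x hx => Finset.mem_singleton.2 (h x hx)
      have := Finset.card_le_card this
      rw [Finset.card_singleton] at this
      omega
    have hA3 := (h3 a ha).2
    have hB3 := (h3 b hb).2
    have hb' : b ≠ a⁻¹ := fun h => hanti a ha (h ▸ hb)
    have hai : a * a = a⁻¹ := eq_inv_of_mul_eq_one_left hA3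
    have hbi : b * b = b⁻¹ := eq_inv_of_mul_eq_one_left hB3
    have hpick : ∀ c : A, c * c * c = 1 → c ≠ 1 → c ∈ O ∨ c⁻¹ ∈ O := by
      intro c hc hc1
      have : c ∈ O ∪ O.image (·⁻¹) := by
        rw [hfull]
        exact Finset.mem_filter.2 ⟨Finset.mem_univ _, hc, hc1⟩
      rcases Finset.mem_union.1 this with h | h
      · exact Or.inl h
      · obtain ⟨d, hd, rfl⟩ := Finset.mem_image.1 h
        exact Or.inr (by rwa [inv_inv])
    have hab3 : a * b * (a * b) * (a * b) = 1 := by
      rw [show a * b * (a * b) * (a * b) = a * a * a * (b * b * b) by ac_rfl, hA3, hB3, one_mul]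
    have hab'3 : a * b⁻¹ * (a * b⁻¹) * (a * b⁻¹) = 1 := by
      rw [show a * b⁻¹ * (a * b⁻¹) * (a * b⁻¹) = a * a * a * (b⁻¹ * b⁻¹ * b⁻¹) by ac_rfl, hA3, hinv b hB3,
        one_mul]
    have hab1 : a * b ≠ 1 := fun h => hb' (eq_inv_of_mul_eq_one_right h)
    have hab'1 : a * b⁻¹ ≠ 1 := fun h => hba (mul_inv_eq_one.1 h).symm
    have ha1 := (h3 a ha).1
    have hb1 := (h3 b hb).1
    have n1 : a * b ≠ a := fun h => hb1 (mul_eq_left.1 h)
    have n2 : a * b ≠ b := fun h => ha1 (mul_eq_right.1 h)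
    have n3 : (a * b)⁻¹ ≠ a := fun h => hba (by
      calc b = a⁻¹ * (a * b) := by group
        _ = a⁻¹ * a⁻¹ := by rw [inv_eq_iff_eq_inv.1 h]
        _ = a := by rw [← mul_inv_rev, hai, inv_inv])
    have n4 : (a * b)⁻¹ ≠ b := fun h => hba (by
      calc b = b⁻¹ * b⁻¹ := by rw [← mul_inv_rev, hbi, inv_inv]
        _ = (a * b) * b⁻¹ := by rw [inv_eq_iff_eq_inv.1 h]
        _ = a := by group)
    have m1 : a * b⁻¹ ≠ a := fun h => hb1 (inv_eq_one.1 (mul_eq_left.1 h))
    have m2 : a * b⁻¹ ≠ b := fun h => hb' (by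
      calc b = b⁻¹ * b⁻¹ := by rw [← mul_inv_rev, hbi, inv_inv]
        _ = a⁻¹ * (a * b⁻¹) * b⁻¹ := by group
        _ = a⁻¹ * b * b⁻¹ := by rw [h]
        _ = a⁻¹ := by group)
    have m3 : (a * b⁻¹)⁻¹ ≠ a := fun h => hb' (by
      calc b = (a * b⁻¹)⁻¹ * a := by rw [mul_inv_rev, inv_inv]; group
        _ = a * a := by rw [h]
        _ = a⁻¹ := hai)
    have m4 : (a * b⁻¹)⁻¹ ≠ b := fun h => ha1 (by
      rw [mul_inv_rev, inv_inv] at h
      exact inv_eq_one.1 (mul_eq_left.1 h))
    have key : ∀ c d : A, c ∈ O → d ∈ O → c ≠ a → c ≠ b → d ≠ a → d ≠ b → c ≠ d →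
        a * b * (c * d) ≠ 1 → ∏ x ∈ O, x ≠ 1 := by
      intro c d hc hd hca hcb hda hdb hcd hne1
      have hO : O = {a, b, c, d} := by
        refine (Finset.eq_of_subset_of_card_le ?_ ?_).symm
        · intro x hx
          simp only [Finset.mem_insert, Finset.mem_singleton] at hx
          rcases hx with rfl | rfl | rfl | rfl <;> assumption
        · rw [h4, Finset.card_insert_of_notMem, Finset.card_insert_of_notMem, Finset.card_pair hcd] <;>
            simp [Ne.symm hba, Ne.symm hca, Ne.symm hcb, Ne.symm hda, Ne.symm hdb]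
      rw [hO, Finset.prod_insert, Finset.prod_insert, Finset.prod_pair hcd, ← mul_assoc]
      · exact hne1
      · simp [Ne.symm hcb, Ne.symm hdb]
      · simp [Ne.symm hba, Ne.symm hca, Ne.symm hda]
    rcases hpick _ hab3 hab1 with hc | hc <;> rcases hpick _ hab'3 hab'1 with hd | hd
    · refine key _ _ hc hd n1 n2 m1 m2 (fun h => hb1 ?_) ?_
      · have h5 : b * b = 1 := eq_inv_iff_mul_eq_one.1 (mul_left_cancel h)
        calc b = b * b * b * (b * b)⁻¹ := by group
          _ = 1 := by rw [hB3, h5, inv_one, mul_one]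
      · rw [show a * b * (a * b * (a * b⁻¹)) = a * a * a * (b * (b * b⁻¹)) by ac_rfl, hA3, one_mul,
          mul_inv_cancel, mul_one]
        exact hb1
    · refine key _ _ hc hd n1 n2 m3 m4 (fun h => ha1 ?_) ?_
      · rw [mul_inv_rev, inv_inv, mul_comm a b] at h
        have h5 : a * a = 1 := by
          have := mul_left_cancel h
          rw [eq_inv_iff_mul_eq_one] at this
          exact this
        calc a = a * a * a * (a * a)⁻¹ := by group
          _ = 1 := by rw [hA3, h5, inv_one, mul_one]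
      · rw [mul_inv_rev, inv_inv,
          show a * b * (a * b * (b * a⁻¹)) = a * (b * b * b) * (a * a⁻¹) by ac_rfl, hB3, mul_inv_cancel,
          mul_one, mul_one]
        exact ha1
    · refine key _ _ hc hd n3 n4 m1 m2 (fun h => ha1 ?_) ?_
      · rw [mul_inv_rev, mul_comm b⁻¹ a⁻¹] at h
        have h5 : a * a = 1 := by
          have := mul_right_cancel h
          rw [inv_eq_iff_mul_eq_one] at this
          exact this
        calc a = a * a * a * (a * a)⁻¹ := by group
          _ = 1 := by rw [hA3, h5, inv_one, mul_one]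
      · rw [← mul_assoc, mul_inv_cancel, one_mul]
        exact hab'1
    · refine key _ _ hc hd n3 n4 m3 m4 (fun h => hb1 ?_) ?_
      · have h' := inv_injective h
        have h5 : b * b = 1 := by
          have := mul_left_cancel h'
          rw [eq_inv_iff_mul_eq_one] at this
          exact this
        calc b = b * b * b * (b * b)⁻¹ := by group
          _ = 1 := by rw [hB3, h5, inv_one, mul_one]
      · rw [← mul_assoc, mul_inv_cancel, one_mul]
        exact inv_ne_one.2 hab'1

/-- The case of an abelian Sylow 3-subgroup of order at most nine. -/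
theorem nonreal_small {X : Type*} [Group X] [Finite X] (P : Sylow 3 X) (h9 : Nat.card P ≤ 9) {x : X}
    (hxP : x ∈ (P : Subgroup X)) (hx : orderOf x = 3) (hreal : ¬ IsConj x x⁻¹) : x ∉ commutator X := by
  classical
  haveI : Fact (Nat.Prime 3) := ⟨Nat.prime_three⟩
  obtain ⟨k, hk⟩ := P.isPGroup'.exists_card_eq
  haveI hPc : IsMulCommutative (P : Subgroup X) := by
    rcases k with _ | _ | _ | k
    · haveI : Subsingleton (P : Subgroup X) := (Nat.card_eq_one_iff_unique.1 (by simpa using hk)).1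
      exact ⟨⟨fun a b => Subsingleton.elim _ _⟩⟩
    · haveI : IsCyclic (P : Subgroup X) := isCyclic_of_prime_card (by simpa using hk)
      infer_instance
    · exact IsPGroup.isMulCommutative_of_card_eq_prime_sq hk
    · exfalso
      rw [hk, pow_succ, pow_succ, pow_succ] at h9
      have := Nat.one_le_pow k 3 (by norm_num)
      omega
  letI : CommGroup (P : Subgroup X) := { (P : Subgroup X).toGroup with mul_comm := hPc.is_comm.comm }
  set N := normalizer ((P : Subgroup X) : Set X) with hN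
  -- the automorphisms induced by the normaliser
  have hconj : ∀ n : N, ∀ v : (P : Subgroup X), (n : X) * v * (n : X)⁻¹ ∈ (P : Subgroup X) :=
    fun n v => (mem_normalizer_iff.1 n.2 _).1 v.2
  let ρ : N →* MulAut (P : Subgroup X) := MonoidHom.mk'
    (fun n =>
      { toFun := fun v => ⟨_, hconj n v⟩
        invFun := fun v => ⟨_, hconj n⁻¹ v⟩
        left_inv := fun v => Subtype.ext (by simp [mul_assoc])
        right_inv := fun v => Subtype.ext (by simp [mul_assoc])
        map_mul' := fun v w => Subtype.ext (by simp [mul_assoc]) })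
    (fun n m => MulEquiv.ext fun v => Subtype.ext (by simp [mul_assoc]))
  let Q := ρ.range
  have hρ : ∀ (n : N) (v : (P : Subgroup X)), ((ρ n v : (P : Subgroup X)) : X) = (n : X) * v * (n : X)⁻¹ :=
    fun _ _ => rfl
  haveI : Finite Q := Finite.of_surjective _ ρ.rangeRestrict_surjective
  haveI := Fintype.ofFinite Q
  let π : (P : Subgroup X) →* (P : Subgroup X) :=
    { toFun := fun v => ∏ q : Q, (q : MulAut (P : Subgroup X)) v
      map_one' := by simp
      map_mul' := fun v w => by simp [Finset.prod_mul_distrib] }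
  have hinv : ∀ (n : N) (v : (P : Subgroup X)), π (ρ n v) = π v := by
    intro n v
    show ∏ q : Q, (q : MulAut (P : Subgroup X)) (ρ n v) = ∏ q : Q, (q : MulAut (P : Subgroup X)) v
    exact Fintype.prod_equiv (Equiv.mulRight (⟨ρ n, n, rfl⟩ : Q)) _ _ fun q => rfl
  -- the induced group has order prime to three
  have hQ3 : ¬ 3 ∣ Nat.card Q := by
    have hle : ((P : Subgroup X).subgroupOf N) ≤ ρ.ker := fun p hp => by
      refine MulEquiv.ext fun v => Subtype.ext ?_
      rw [hρ]
      have := congrArg Subtype.val (hPc.is_comm.comm ⟨(p : X), hp⟩ v)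
      show (p : X) * v * (p : X)⁻¹ = v
      rw [show (p : X) * v = v * p from this, mul_inv_cancel_right]
    intro h3
    have h4 : ρ.ker.index ∣ ((P : Subgroup X).subgroupOf N).index := index_dvd_of_le hle
    rw [index_ker] at h4
    have h5 : ((P : Subgroup X).subgroupOf N).index ∣ (P : Subgroup X).index := by
      rw [← relIndex]
      exact relIndex_dvd_index_of_le le_normalizer
    exact P.not_dvd_index (h3.trans (h4.trans h5))
  -- the orbit of `x`
  set v₀ : (P : Subgroup X) := ⟨x, hxP⟩ with hv₀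
  haveI := Fintype.ofFinite (MulAction.orbit Q v₀)
  haveI := Fintype.ofFinite (MulAction.stabilizer Q v₀)
  set O : Finset (P : Subgroup X) := (MulAction.orbit Q v₀).toFinset with hO
  let e : MulAction.orbit Q v₀ × MulAction.stabilizer Q v₀ ≃ Q :=
    Equiv.ofBijective (fun p => p.1.2.choose * (p.2 : Q)) ⟨by
      rintro ⟨⟨y, hy⟩, s⟩ ⟨⟨y', hy'⟩, s'⟩ he
      have he' : hy.choose * (s : Q) = hy'.choose * (s' : Q) := he
      have hyy : y = y' := by
        have := congrArg (fun q : Q => q • v₀) he'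
        simp only [mul_smul, MulAction.mem_stabilizer_iff.1 s.2, MulAction.mem_stabilizer_iff.1 s'.2] at this
        rwa [show hy.choose • v₀ = y from hy.choose_spec, show hy'.choose • v₀ = y' from hy'.choose_spec] at this
      subst hyy
      exact Prod.ext rfl (Subtype.ext (mul_left_cancel he')), fun q => by
      have hy : q • v₀ ∈ MulAction.orbit Q v₀ := ⟨q, rfl⟩
      refine ⟨⟨⟨_, hy⟩, ⟨hy.choose⁻¹ * q, ?_⟩⟩, mul_inv_cancel_left _ _⟩
      rw [MulAction.mem_stabilizer_iff, mul_smul, inv_smul_eq_iff]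
      exact hy.choose_spec.symm⟩
  have hπ : π v₀ = (∏ a ∈ O, a) ^ Fintype.card (MulAction.stabilizer Q v₀) := by
    show ∏ q : Q, q • v₀ = _
    rw [← Fintype.prod_equiv e (fun p => ((p.1 : MulAction.orbit Q v₀) : (P : Subgroup X))) (fun q => q • v₀)]
    · rw [Fintype.prod_prod_type, hO, ← Finset.prod_pow]
      simp only [Finset.prod_const, Finset.card_univ]
      exact (Finset.prod_subtype _ (fun a => Set.mem_toFinset) (fun a : (P : Subgroup X) => a ^ _)).symm
    · rintro ⟨⟨y, hy⟩, s⟩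
      show y = (hy.choose * (s : Q)) • v₀
      rw [mul_smul, MulAction.mem_stabilizer_iff.1 s.2]
      exact hy.choose_spec.symm
  have hOmem : ∀ a ∈ O, ∃ n : N, (a : X) = (n : X) * x * (n : X)⁻¹ := by
    intro a ha
    rw [hO, Set.mem_toFinset] at ha
    obtain ⟨⟨q, n, rfl⟩, rfl⟩ := ha
    exact ⟨n, hρ n v₀⟩
  have h3O : ∀ a ∈ O, a ≠ 1 ∧ a * a * a = 1 := by
    intro a ha
    obtain ⟨n, hn⟩ := hOmem a ha
    have ho : orderOf a = 3 := by
      rw [← Subgroup.orderOf_coe, hn, ← hx]
      exact orderOf_injective (MulAut.conj (n : X)).toMonoidHom (MulAut.conj (n : X)).injective x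
    refine ⟨fun h => by simp [h] at ho, ?_⟩
    rw [← pow_three']
    exact pow_three_one ho
  have hanti : ∀ a ∈ O, a⁻¹ ∉ O := by
    intro a ha ha'
    obtain ⟨n, hn⟩ := hOmem a ha
    obtain ⟨m, hm⟩ := hOmem _ ha'
    refine hreal (isConj_iff.2 ⟨(n : X)⁻¹ * m, ?_⟩)
    rw [InvMemClass.coe_inv, hn] at hm
    calc (n : X)⁻¹ * m * x * ((n : X)⁻¹ * m)⁻¹ = (n : X)⁻¹ * ((m : X) * x * (m : X)⁻¹) * n := by group
      _ = x⁻¹ := by rw [← hm]; group
  have hOne : O.Nonempty := ⟨v₀, by rw [hO, Set.mem_toFinset]; exact MulAction.mem_orbit_self v₀⟩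
  have hcardQ : Nat.card Q = O.card * Fintype.card (MulAction.stabilizer Q v₀) := by
    rw [← Nat.card_congr e, Nat.card_prod, hO, Set.toFinset_card,
      Nat.card_eq_fintype_card, Nat.card_eq_fintype_card]
  have hmod : ¬ 3 ∣ O.card := fun h => hQ3 (hcardQ ▸ dvd_mul_of_dvd_left h _)
  have hs := prod_ne_one O hOne h3O hanti hmod ((Finite.card_subtype_le _).trans h9)
  have hs3 : orderOf (∏ a ∈ O, a) = 3 := by
    refine orderOf_eq_prime ?_ hs
    rw [← Finset.prod_pow]
    exact Finset.prod_eq_one fun a ha => by rw [pow_three']; exact (h3O a ha).2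
  have hπ1 : π v₀ ≠ 1 := by
    rw [hπ]
    intro h
    have h' := orderOf_dvd_of_pow_eq_one h
    rw [hs3] at h'
    exact hQ3 (hcardQ ▸ dvd_mul_of_dvd_right h' _)
  intro hcomm
  refine CfsgLib.FocalTransfer.transfer_ne_one π ((Nat.Prime.coprime_iff_not_dvd Nat.prime_three).2 P.not_dvd_index)
    hxP ⟨1, by rw [hx, pow_one]⟩ hπ1 (fun i g₀ h => ?_)
    (MonoidHom.mem_ker.1 (Abelianization.commutator_subset_ker (MonoidHom.transfer π) hcomm))
  obtain ⟨n, hn, heq⟩ := P.conj_eq_normalizer_conj_of_mem (x ^ i) g₀ ((P : Subgroup X).pow_mem hxP i) h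
  rw [← map_pow]
  have : (⟨_, h⟩ : (P : Subgroup X)) = ρ ⟨n⁻¹, N.inv_mem hn⟩ (⟨x, hxP⟩ ^ i) := Subtype.ext (by
    rw [hρ, SubmonoidClass.coe_pow, inv_inv]
    exact heq)
  rw [this, hinv]

/-- Where the centralizer in a larger 3-group has order nine, the element is fused with its coset of the
centre. -/
theorem fuse_coset {X : Type*} [Group X] [Finite X] {P : Subgroup X} (hP : IsPGroup 3 P)
    (h27 : 9 < Nat.card P) {y : X} (hyP : y ∈ P) (hy : orderOf y = 3)
    (hC : Nat.card ↥(P ⊓ centralizer ({y} : Set X)) ≤ 9) :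
    ∃ F : Subgroup X, F ≤ P ∧ Nat.card F = 3 ∧ y ∉ F ∧ (∀ f ∈ F, ∀ p ∈ P, p * f = f * p) ∧
      (∀ f : X, f ∈ P → (∀ p ∈ P, p * f = f * p) → f ∈ F) ∧
      (∀ r ∈ P, r * y = y * r → ∃ i : ℕ, i < 3 ∧ (y ^ i)⁻¹ * r ∈ F) ∧
      (∀ f ∈ F, ∃ p ∈ P, p * y * p⁻¹ = y * f) := by
  haveI : Fact (Nat.Prime 3) := ⟨Nat.prime_three⟩
  set F : Subgroup X := (center P).map P.subtype with hF
  have hFP : F ≤ P := map_subtype_le _
  have hFc : ∀ f ∈ F, ∀ p ∈ P, p * f = f * p := by
    rintro _ ⟨f, hf, rfl⟩ p hp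
    exact congrArg Subtype.val (mem_center_iff.1 hf ⟨p, hp⟩)
  have hFz : ∀ f : X, f ∈ P → (∀ p ∈ P, p * f = f * p) → f ∈ F := fun f hf h =>
    ⟨⟨f, hf⟩, mem_center_iff.2 fun p => Subtype.ext (h p p.2), rfl⟩
  have hyF : y ∉ F := by
    intro h
    have : P ≤ P ⊓ centralizer ({y} : Set X) := le_inf le_rfl fun p hp =>
      mem_centralizer_singleton_iff.2 (hFc y h p hp)
    have := Nat.card_le_card_of_injective _ (inclusion_injective this)
    omega
  set R := P ⊓ centralizer ({y} : Set X) with hR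
  have hFR : F ≤ R := le_inf hFP fun f hf => mem_centralizer_singleton_iff.2 ((hFc f hf y hyP).symm)
  have hyR : y ∈ R := ⟨hyP, mem_centralizer_singleton_iff.2 rfl⟩
  -- products of powers of `y` with central elements
  let ψ : Fin 3 × F → R := fun p => ⟨y ^ (p.1 : ℕ) * (p.2 : X), R.mul_mem (R.pow_mem hyR _) (hFR p.2.2)⟩
  have hψ : Function.Injective ψ := by
    rintro ⟨i, f⟩ ⟨j, g⟩ he
    have he' : y ^ (i : ℕ) * (f : X) = y ^ (j : ℕ) * (g : X) := congrArg Subtype.val he
    have hij : (y ^ (j : ℕ))⁻¹ * y ^ (i : ℕ) ∈ F := by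
      have : (y ^ (j : ℕ))⁻¹ * y ^ (i : ℕ) = (g : X) * (f : X)⁻¹ := by
        calc (y ^ (j : ℕ))⁻¹ * y ^ (i : ℕ) = (y ^ (j : ℕ))⁻¹ * (y ^ (i : ℕ) * f) * (f : X)⁻¹ := by group
          _ = (g : X) * (f : X)⁻¹ := by rw [he']; group
      rw [this]; exact F.mul_mem g.2 (F.inv_mem f.2)
    have hijeq : i = j := by
      by_contra hne
      have hk : ∃ k : ℕ, k < 3 ∧ k ≠ 0 ∧ (y ^ (j : ℕ))⁻¹ * y ^ (i : ℕ) = y ^ k := by
        refine ⟨(i + (3 - j)) % 3, Nat.mod_lt _ (by norm_num), ?_, ?_⟩
        · have hne' : (i : ℕ) ≠ j := fun h => hne (Fin.ext h)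
          omega
        · rw [← pow_eq_pow_mod _ (pow_three_one hy)]
          rw [inv_mul_eq_iff_eq_mul, ← pow_add, show (j : ℕ) + (i + (3 - j)) = i + 3 by omega, pow_add,
            pow_three_one hy, mul_one]
      obtain ⟨k, hk3, hk0, hk⟩ := hk
      rw [hk] at hij
      refine hyF ?_
      obtain rfl | rfl : k = 1 ∨ k = 2 := by omega
      · simpa using hij
      · have := F.mul_mem hij hij
        rwa [← pow_add, pow_succ, show y ^ (2 + 1) = 1 from pow_three_one hy, one_mul] at this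
    subst hijeq
    exact Prod.ext rfl (Subtype.ext (mul_left_cancel he'))
  have h1 := Nat.card_le_card_of_injective ψ hψ
  rw [Nat.card_prod, Nat.card_fin] at h1
  have hF3 : Nat.card F = 3 := by
    haveI : Nontrivial P := Finite.one_lt_card_iff_nontrivial.1 (by omega)
    haveI := hP.center_nontrivial
    have h2 : 1 < Nat.card F := by
      rw [hF, card_map_of_injective P.subtype_injective]
      exact Finite.one_lt_card
    obtain ⟨k, hk⟩ := (hP.to_le hFP).exists_card_eq
    rcases k with _ | _ | k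
    · rw [hk] at h2; omega
    · exact hk
    · have : 9 ≤ Nat.card F := by
        rw [hk, pow_succ, pow_succ]
        have := Nat.one_le_pow k 3 (by norm_num)
        omega
      omega
  have hR9 : Nat.card R = 9 := by omega
  have hmemR : ∀ r ∈ P, r * y = y * r → ∃ i : ℕ, i < 3 ∧ (y ^ i)⁻¹ * r ∈ F := by
    intro r hr hry
    have hb := (Nat.bijective_iff_injective_and_card ψ).2 ⟨hψ, by rw [Nat.card_prod, Nat.card_fin, hR9, hF3]⟩
    obtain ⟨⟨i, f⟩, hif⟩ := hb.2 ⟨r, hr, mem_centralizer_singleton_iff.2 hry⟩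
    refine ⟨i, i.2, ?_⟩
    have : y ^ (i : ℕ) * (f : X) = r := congrArg Subtype.val hif
    rw [← this, inv_mul_cancel_left]
    exact f.2
  refine ⟨F, hFP, hF3, hyF, hFc, hFz, hmemR, ?_⟩
  -- an element normalising the centralizer
  have hlt : R.subgroupOf P < ⊤ := lt_top_iff_ne_top.2 fun h => by
    have := Nat.card_le_card_of_injective _ (inclusion_injective (subgroupOf_eq_top.1 h))
    omega
  have := hP.isNilpotent
  obtain ⟨⟨n, hnP⟩, hn, hnR⟩ := SetLike.exists_of_lt (Group.normalizerCondition_of_isNilpotent _ hlt)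
  rw [mem_subgroupOf] at hnR
  have hnyR : n * y * n⁻¹ ∈ R :=
    mem_subgroupOf.1 ((mem_normalizer_iff.1 hn ⟨y, hyP⟩).1 (mem_subgroupOf.2 hyR))
  obtain ⟨i, hi3, hif⟩ := hmemR _ hnyR.1 (mem_centralizer_singleton_iff.1 hnyR.2)
  obtain ⟨f₁, hf₁, hnf⟩ : ∃ f ∈ F, n * y * n⁻¹ = y ^ i * f := ⟨_, hif, by group⟩
  have hnFc : ∀ f ∈ F, n * f * n⁻¹ = f := fun f hf => by rw [hFc f hf n hnP, mul_inv_cancel_right]
  have hodd := odd_orderOf hP hnP
  have hnC : n * y ≠ y * n := fun h => hnR ⟨hnP, mem_centralizer_singleton_iff.2 h⟩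
  obtain rfl | rfl | rfl : i = 0 ∨ i = 1 ∨ i = 2 := by omega
  · exfalso
    rw [pow_zero, one_mul] at hnf
    refine hyF ?_
    have : y = f₁ := by
      calc y = n⁻¹ * (n * y * n⁻¹) * n := by group
        _ = n⁻¹ * (n * f₁ * n⁻¹) * n := by rw [hnf, hnFc f₁ hf₁]
        _ = f₁ := by group
    rw [this]; exact hf₁
  · rw [pow_one] at hnf
    have hf1 : f₁ ≠ 1 := fun h => hnC (by
      rw [h, mul_one, mul_inv_eq_iff_eq_mul] at hnf; exact hnf)
    intro f hf
    haveI : Fact (Nat.card F).Prime := ⟨by rw [hF3]; exact Nat.prime_three⟩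
    obtain ⟨j, hj⟩ := mem_powers_iff_mem_zpowers.2 (show (⟨f, hf⟩ : F) ∈ zpowers ⟨f₁, hf₁⟩ from
      mem_zpowers_of_prime_card hF3 (fun h => hf1 (congrArg Subtype.val h)))
    refine ⟨n ^ j, P.pow_mem hnP j, ?_⟩
    have hjf : f₁ ^ j = f := congrArg Subtype.val hj
    rw [← hjf]
    clear hj hjf hf f
    induction j with
    | zero => simp
    | succ j ih =>
      calc n ^ (j + 1) * y * (n ^ (j + 1))⁻¹ = n * (n ^ j * y * (n ^ j)⁻¹) * n⁻¹ := by rw [pow_succ']; group
        _ = (n * y * n⁻¹) * (n * f₁ ^ j * n⁻¹) := by rw [ih]; group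
        _ = y * f₁ ^ (j + 1) := by rw [hnf, hnFc _ (F.pow_mem hf₁ j), mul_assoc, ← pow_succ']
  · exfalso
    -- conjugation by `n` would invert `y` modulo the centre
    have hy3 : y ^ 2 = y⁻¹ := sq_eq_inv hy
    rw [hy3] at hnf
    have h2 : n * n * y = y * (n * n) := by
      calc n * n * y = n * (n * y * n⁻¹) * n := by group
        _ = n * (y⁻¹ * f₁) * n := by rw [hnf]
        _ = (n * y * n⁻¹)⁻¹ * (n * f₁ * n⁻¹) * (n * n) := by group
        _ = (y⁻¹ * f₁)⁻¹ * f₁ * (n * n) := by rw [hnf, hnFc f₁ hf₁]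
        _ = f₁⁻¹ * (y * f₁) * (n * n) := by group
        _ = y * (n * n) := by rw [hFc f₁ hf₁ y hyP]; group
    obtain ⟨m, hm⟩ := hodd
    refine hnC ?_
    have e : (n * n) ^ (m + 1) = n := by
      rw [← pow_two, ← pow_mul, show 2 * (m + 1) = orderOf n + 1 by omega, pow_succ, pow_orderOf_eq_one, one_mul]
    rw [← e]
    exact (Commute.pow_left h2 _).eq

theorem nonreal_aux : ∀ (m : ℕ) {X : Type u} [Group X] [Finite X], Nat.card X = m →
    ∀ (P : Sylow 3 X) {x : X}, x ∈ (P : Subgroup X) → orderOf x = 3 →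
      (∀ Q : Subgroup X, IsPGroup 3 Q → (∀ q ∈ Q, q * x = x * q) → Nat.card Q ≤ 9) →
      ¬ IsConj x x⁻¹ → x ∉ commutator X := by
  intro m
  induction m using Nat.strong_induction_on with
  | _ m IH =>
  intro X _ _ hm P x hxP hx hmax hreal
  haveI : Fact (Nat.Prime 3) := ⟨Nat.prime_three⟩
  by_cases h9 : Nat.card P ≤ 9
  · exact nonreal_small P h9 hxP hx hreal
  -- bounds for all conjugates of `x`
  have hmaxy : ∀ g : X, ∀ Q : Subgroup X, IsPGroup 3 Q →
      (∀ q ∈ Q, q * (g * x * g⁻¹) = (g * x * g⁻¹) * q) → Nat.card Q ≤ 9 := by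
    intro g Q hQ hc
    refine le_trans (card_map_of_injective (K := Q) (MulAut.conj g⁻¹).injective).ge
      (hmax (Q.map (MulAut.conj g⁻¹).toMonoidHom) (hQ.map _) ?_)
    rintro _ ⟨q, hq, rfl⟩
    simp only [MulEquiv.coe_toMonoidHom, MulAut.conj_apply, inv_inv]
    calc g⁻¹ * q * g * x = g⁻¹ * (q * (g * x * g⁻¹)) * g := by group
      _ = x * (g⁻¹ * q * g) := by rw [hc q hq]; group
  have hCP : ∀ g : X, Nat.card ↥((P : Subgroup X) ⊓ centralizer ({g * x * g⁻¹} : Set X)) ≤ 9 := fun g =>
    hmaxy g _ (P.isPGroup'.to_le inf_le_left) fun q hq => mem_centralizer_singleton_iff.1 hq.2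
  have h27 : 9 < Nat.card P := not_le.1 h9
  have hy3 : ∀ g : X, orderOf (g * x * g⁻¹) = 3 := fun g =>
    (orderOf_injective (MulAut.conj g).toMonoidHom (MulAut.conj g).injective x).trans hx
  obtain ⟨F, hFP, hF3, hxF, hFc, hFz, hxR, hxfuse⟩ := fuse_coset P.isPGroup' h27 hxP hx
    (by simpa using hCP 1)
  set N := normalizer (F : Set X) with hNdef
  have hPN : (P : Subgroup X) ≤ N := fun p hp => mem_normalizer_iff.2 fun f => by
    refine ⟨fun hf => by rw [hFc f hf p hp, mul_inv_cancel_right]; exact hf, fun hf => ?_⟩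
    have h1 := hFc _ hf p⁻¹ ((P : Subgroup X).inv_mem hp)
    have : f = p * f * p⁻¹ := by
      calc f = p⁻¹ * (p * f * p⁻¹) * p := by group
        _ = p * f * p⁻¹ := by rw [h1]; group
    rw [this]; exact hf
  -- every conjugate of `x` in `P` is a conjugate in the normaliser
  have hlocal : ∀ g : X, g * x * g⁻¹ ∈ (P : Subgroup X) → ∃ h ∈ N, h * x * h⁻¹ = g * x * g⁻¹ := by
    intro g hyP
    set y := g * x * g⁻¹ with hy
    obtain ⟨F', -, hF'3, -, -, hF'z, hyR, hyfuse⟩ := fuse_coset P.isPGroup' h27 hyP (hy3 g) (hCP g)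
    have hFF' : F ≤ F' := fun f hf => hF'z f (hFP hf) (hFc f hf)
    have hFeq : F = F' := eq_of_le_of_card_ge hFF' (by rw [hF3, hF'3])
    subst hFeq
    set Rx := (P : Subgroup X) ⊓ centralizer ({x} : Set X) with hRx
    set Ry := (P : Subgroup X) ⊓ centralizer ({y} : Set X) with hRy
    set C := centralizer ({y} : Set X) with hC
    have hRy9 : 9 ≤ Nat.card Ry := by
      have h1 : ∀ p : Fin 3 × F, y ^ (p.1 : ℕ) * (p.2 : X) ∈ Ry := fun p => Ry.mul_mem
        (Ry.pow_mem ⟨hyP, mem_centralizer_singleton_iff.2 rfl⟩ _)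
        ⟨hFP p.2.2, mem_centralizer_singleton_iff.2 ((hFc _ p.2.2 y hyP).symm)⟩
      have hsurj : Function.Injective (fun p : Fin 3 × F => (⟨_, h1 p⟩ : Ry)) := by
        rintro ⟨i, f⟩ ⟨j, f'⟩ he
        have he' : y ^ (i : ℕ) * (f : X) = y ^ (j : ℕ) * (f' : X) := congrArg Subtype.val he
        by_cases hij : i = j
        · subst hij
          exact Prod.ext rfl (Subtype.ext (mul_left_cancel he'))
        · exfalso
          have h2 : ∃ k : ℕ, (k = 1 ∨ k = 2) ∧ y ^ k ∈ F := by
            rcases lt_or_gt_of_ne (fun h => hij (Fin.ext h) : (i : ℕ) ≠ j) with hlt | hlt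
            · refine ⟨j - i, by omega, ?_⟩
              have : y ^ ((j : ℕ) - i) = (f : X) * (f' : X)⁻¹ := by
                rw [eq_mul_inv_iff_mul_eq]
                refine mul_left_cancel (a := y ^ (i : ℕ)) ?_
                rw [← mul_assoc, ← pow_add, Nat.add_sub_cancel' hlt.le, he']
              rw [this]; exact F.mul_mem f.2 (F.inv_mem f'.2)
            · refine ⟨i - j, by omega, ?_⟩
              have : y ^ ((i : ℕ) - j) = (f' : X) * (f : X)⁻¹ := by
                rw [eq_mul_inv_iff_mul_eq]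
                refine mul_left_cancel (a := y ^ (j : ℕ)) ?_
                rw [← mul_assoc, ← pow_add, Nat.add_sub_cancel' hlt.le, he']
              rw [this]; exact F.mul_mem f'.2 (F.inv_mem f.2)
          obtain ⟨k, hk, hkF⟩ := h2
          have hyF : y ∈ F := by
            rcases hk with rfl | rfl
            · simpa using hkF
            · have := F.mul_mem hkF hkF
              rwa [← pow_add, pow_succ, show y ^ (2 + 1) = 1 from pow_three_one (hy3 g), one_mul] at this
          have hsub : (P : Subgroup X) ≤ Ry := le_inf le_rfl fun p hp =>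
            mem_centralizer_singleton_iff.2 (hFc y hyF p hp)
          have := (Nat.card_le_card_of_injective _ (inclusion_injective hsub)).trans (hCP g)
          omega
      have := Nat.card_le_card_of_injective _ hsurj
      rw [Nat.card_prod, Nat.card_fin, hF3] at this
      omega
    have hRyC : Ry ≤ C := inf_le_right
    have hRymax : ∀ Q : Subgroup X, IsPGroup 3 Q → Ry ≤ Q → Q ≤ C → Q = Ry := fun Q hQ hle hQC =>
      (eq_of_le_of_card_ge hle ((hmaxy g Q hQ fun q hq =>
        mem_centralizer_singleton_iff.1 (hQC hq)).trans hRy9)).symm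
    have hgR : Rx.map (MulAut.conj g).toMonoidHom ≤ C := by
      rintro _ ⟨r, hr, rfl⟩
      refine mem_centralizer_singleton_iff.2 ?_
      simp only [MulEquiv.coe_toMonoidHom, MulAut.conj_apply, hy]
      calc g * r * g⁻¹ * (g * x * g⁻¹) = g * (r * x) * g⁻¹ := by group
        _ = g * x * g⁻¹ * (g * r * g⁻¹) := by rw [mem_centralizer_singleton_iff.1 hr.2]; group
    obtain ⟨c, hc, hcR⟩ := exists_conj_mem (P.isPGroup'.to_le inf_le_left) hRyC hRymax
      ((P.isPGroup'.to_le (inf_le_left : Rx ≤ _)).map _) hgR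
    refine ⟨c * g, mem_normalizer_of_conj' ?_, ?_⟩
    · intro f hf
      have hfR : f ∈ Rx := ⟨hFP hf, mem_centralizer_singleton_iff.2 ((hFc f hf x hxP).symm)⟩
      have hw : c * g * f * (c * g)⁻¹ ∈ Ry := by
        have e : c * g * f * (c * g)⁻¹ = c * (g * f * g⁻¹) * c⁻¹ := by group
        rw [e]
        exact hcR _ ⟨f, hfR, by simp⟩
      obtain ⟨i, hi, hiF⟩ := hyR _ hw.1 (mem_centralizer_singleton_iff.1 hw.2)
      obtain rfl | hi0 := Nat.eq_zero_or_pos i
      · simpa using hiF
      · exfalso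
        set w := c * g * f * (c * g)⁻¹ with hwdef
        -- `w` has a large centralizer but is fused with `y` or its inverse
        obtain ⟨f', hf', hwf⟩ : ∃ f' ∈ F, w = y ^ i * f' := ⟨_, hiF, by group⟩
        have hbig : ∀ q ∈ (P : Subgroup X).map (MulAut.conj (c * g)).toMonoidHom, q * w = w * q := by
          rintro _ ⟨q, hq, rfl⟩
          simp only [MulEquiv.coe_toMonoidHom, MulAut.conj_apply, hwdef]
          calc c * g * q * (c * g)⁻¹ * (c * g * f * (c * g)⁻¹) = c * g * (q * f) * (c * g)⁻¹ := by group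
            _ = c * g * f * (c * g)⁻¹ * (c * g * q * (c * g)⁻¹) := by rw [hFc f hf q hq]; group
        obtain ⟨f'', hf'', hw'⟩ : ∃ f'' ∈ F, w = y * f'' ∨ w⁻¹ = y * f'' := by
          obtain rfl | rfl : i = 1 ∨ i = 2 := by omega
          · exact ⟨f', hf', Or.inl (by rw [hwf, pow_one])⟩
          · refine ⟨f'⁻¹, F.inv_mem hf', Or.inr ?_⟩
            have hy2 : (y ^ 2)⁻¹ = y := inv_eq_of_mul_eq_one_right (by
              rw [← pow_succ]; exact pow_three_one (hy3 g))
            rw [hwf, mul_inv_rev, hy2]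
            exact (hFc _ (F.inv_mem hf') y hyP).symm
        obtain ⟨p, -, hp⟩ := hyfuse f'' hf''
        have hbound := hmaxy (p * g) ((P : Subgroup X).map (MulAut.conj (c * g)).toMonoidHom) (P.isPGroup'.map _)
          (fun q hq => by
            have e : p * g * x * (p * g)⁻¹ = y * f'' := by rw [← hp, hy]; group
            rw [e]
            rcases hw' with h | h
            · rw [← h]; exact hbig q hq
            · rw [← h]; exact (Commute.inv_right (hbig q hq : Commute q w)).eq)
        rw [card_map_of_injective (MulAut.conj (c * g)).injective] at hbound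
        exact absurd hbound (not_le.2 h27)
    · have hcy : c * y = y * c := mem_centralizer_singleton_iff.1 hc
      calc c * g * x * (c * g)⁻¹ = c * y * c⁻¹ := by rw [hy]; group
        _ = y := by rw [hcy, mul_inv_cancel_right]
  -- descend to the quotient by `F`
  haveI : (F.subgroupOf N).Normal := normal_in_normalizer
  let π := QuotientGroup.mk' (F.subgroupOf N)
  have hπs : Function.Surjective π := QuotientGroup.mk'_surjective _
  let PN : Sylow 3 N := P.subtype hPN
  have hπ1 : ∀ u : N, π u = 1 ↔ (u : X) ∈ F := fun u =>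
    (QuotientGroup.eq_one_iff u).trans mem_subgroupOf
  set x' : N := ⟨x, hPN hxP⟩ with hx'
  have hxbar : orderOf (π x') = 3 := orderOf_eq_prime (by
    rw [← map_pow, hπ1, SubmonoidClass.coe_pow, hx', Subtype.coe_mk, ← hx, pow_orderOf_eq_one]
    exact F.one_mem) fun h => hxF ((hπ1 x').1 h)
  have hlt : Nat.card (N ⧸ F.subgroupOf N) < m := by
    have e := (F.subgroupOf N).card_eq_card_quotient_mul_card_subgroup
    rw [Nat.card_congr (subgroupOfEquivOfLe (le_normalizer : F ≤ N)).toEquiv, hF3] at e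
    have := Finite.card_subtype_le (fun a : X => a ∈ N)
    have := Nat.card_pos (α := N ⧸ F.subgroupOf N)
    omega
  have hconjF : ∀ u : X, u * x * u⁻¹ * x⁻¹ ∈ F → ∃ f ∈ F, u * x * u⁻¹ = x * f := fun u h =>
    ⟨x⁻¹ * (u * x * u⁻¹ * x⁻¹) * x, by
      rw [show x⁻¹ * (u * x * u⁻¹ * x⁻¹) * x = x⁻¹ * ((u * x * u⁻¹ * x⁻¹) * x) by group,
        ← hFc _ h x hxP, inv_mul_cancel_left]; exact h, by group⟩
  have hnot := IH _ hlt rfl (PN.mapSurjective hπs) (x := π x')
    (by
      show π x' ∈ ((PN.mapSurjective hπs : Sylow 3 _) : Subgroup _)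
      rw [Sylow.coe_mapSurjective, Sylow.coe_subtype]
      exact ⟨x', hxP, rfl⟩)
    hxbar
    (by
      intro Q hQ hc
      set Q' := (Q.comap π).map N.subtype with hQ'
      have hker : IsPGroup 3 (F.subgroupOf N) := IsPGroup.of_card (n := 1)
        (by rw [Nat.card_congr (subgroupOfEquivOfLe (le_normalizer : F ≤ N)).toEquiv, hF3, pow_one])
      have hQp : IsPGroup 3 Q' :=
        (hQ.comap_of_ker_isPGroup π (by rwa [QuotientGroup.ker_mk'])).map _
      have hxF' : ∀ q : Q', ∃ f : F, (q : X) * x * (q : X)⁻¹ = x * f := by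
        rintro ⟨_, q, hq, rfl⟩
        have h1 : π (q * x' * q⁻¹ * x'⁻¹) = 1 := by
          rw [map_mul, map_mul, map_mul, map_inv, map_inv, hc _ hq]; group
        obtain ⟨f, hf, he⟩ := hconjF q ((hπ1 _).1 h1)
        exact ⟨⟨f, hf⟩, he⟩
      choose θ hθ using hxF'
      have hQcard : Nat.card Q = Nat.card Q' / 3 := by
        have e1 : Nat.card Q' = Nat.card (Q.comap π) := card_map_of_injective N.subtype_injective
        have e2 : Nat.card (Q.comap π) = Nat.card Q * 3 := by
          have h1 := (Q.comap π).card_mul_index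
          rw [index_comap_of_surjective Q hπs, (F.subgroupOf N).card_eq_card_quotient_mul_card_subgroup,
            Nat.card_congr (subgroupOfEquivOfLe (le_normalizer : F ≤ N)).toEquiv, hF3] at h1
          have h2 := Q.card_mul_index
          rw [← h2, mul_right_comm] at h1
          exact Nat.eq_of_mul_eq_mul_right (Nat.pos_of_ne_zero index_ne_zero_of_finite) h1
        omega
      have hbound : Nat.card Q' ≤ 27 := by
        set R := Q' ⊓ centralizer ({x} : Set X) with hR
        have hR9 : Nat.card R ≤ 9 :=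
          hmax R (hQp.to_le inf_le_left) fun q hq => mem_centralizer_singleton_iff.1 hq.2
        let χ : Q' → F × R := fun q => (θ q, ⟨((Function.invFun θ (θ q) : Q') : X)⁻¹ * (q : X), by
          refine ⟨Q'.mul_mem (Q'.inv_mem (SetLike.coe_mem _)) q.2, mem_centralizer_singleton_iff.2 ?_⟩
          have h1 := hθ (Function.invFun θ (θ q))
          rw [Function.invFun_eq (f := θ) ⟨q, rfl⟩, ← hθ q] at h1
          set p : X := ((Function.invFun θ (θ q) : Q') : X)
          calc p⁻¹ * q * x = p⁻¹ * ((q : X) * x * (q : X)⁻¹) * q := by group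
            _ = p⁻¹ * (p * x * p⁻¹) * q := by rw [h1]
            _ = x * (p⁻¹ * q) := by group⟩)
        have hχ : Function.Injective χ := by
          intro a b he
          have h1 : θ a = θ b := congrArg Prod.fst he
          have h2 : ((Function.invFun θ (θ a) : Q') : X)⁻¹ * (a : X) =
              ((Function.invFun θ (θ b) : Q') : X)⁻¹ * (b : X) := congrArg (fun p : F × R => (p.2 : X)) he
          rw [h1] at h2
          exact Subtype.ext (mul_left_cancel h2)
        have := Nat.card_le_card_of_injective χ hχ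
        rw [Nat.card_prod, hF3] at this
        omega
      omega)
    (by
      intro h
      obtain ⟨q, hq⟩ := isConj_iff.1 h
      obtain ⟨u, rfl⟩ := hπs q
      have h1 : π (u * x' * u⁻¹ * x') = 1 := by
        rw [map_mul, map_mul, map_mul, map_inv, hq, inv_mul_cancel]
      set f := (u : X) * x * (u : X)⁻¹ * x with hf
      have hfF : f ∈ F := (hπ1 _).1 h1
      obtain ⟨p, hp, hpx⟩ := hxfuse f⁻¹ (F.inv_mem hfF)
      refine hreal (isConj_iff.2 ⟨p⁻¹ * u, ?_⟩)
      have e1 : (u : X) * x * (u : X)⁻¹ = (x * f⁻¹)⁻¹ := by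
        rw [mul_inv_rev, inv_inv, hf, mul_inv_cancel_right]
      rw [← hpx] at e1
      calc p⁻¹ * (u : X) * x * (p⁻¹ * (u : X))⁻¹ = p⁻¹ * ((u : X) * x * (u : X)⁻¹) * p := by group
        _ = x⁻¹ := by rw [e1]; group)
  -- transfer back
  let A := Abelianization (N ⧸ F.subgroupOf N)
  let φ : N →* A := (Abelianization.of).comp π
  have hne : φ ⟨x, hPN hxP⟩ ≠ 1 := fun h => hnot (by
    rw [← Abelianization.ker_of]; exact h)
  intro hcomm
  refine CfsgLib.FocalTransfer.transfer_ne_one φ
    (Nat.Coprime.coprime_dvd_right (index_dvd_of_le hPN)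
      ((Nat.Prime.coprime_iff_not_dvd Nat.prime_three).2 P.not_dvd_index))
    (hPN hxP) ⟨1, by rw [hx, pow_one]⟩ hne (fun i g₀ h => ?_)
    (MonoidHom.mem_ker.1 (Abelianization.commutator_subset_ker (MonoidHom.transfer φ) hcomm))
  have hkey : ∀ (g : X) (h : g * x * g⁻¹ ∈ N), φ ⟨_, h⟩ = φ ⟨x, hPN hxP⟩ := by
    intro g h
    set u : N := ⟨_, h⟩ with hu
    obtain ⟨v, hv, huv⟩ := exists_conj_mem_elem (M := N) P.isPGroup' hPN (sylow_max P _)
      ⟨1, by rw [hy3 g, pow_one]⟩ h
    obtain ⟨k, hk, hkx⟩ := hlocal (v * g) (by rwa [show v * g * x * (v * g)⁻¹ = v * (g * x * g⁻¹) * v⁻¹ by group])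
    have : u = (⟨v, hv⟩⁻¹ * ⟨k, hk⟩ : N) * ⟨x, hPN hxP⟩ * (⟨v, hv⟩⁻¹ * ⟨k, hk⟩)⁻¹ := by
      refine Subtype.ext ?_
      show g * x * g⁻¹ = v⁻¹ * k * x * (v⁻¹ * k)⁻¹
      calc g * x * g⁻¹ = v⁻¹ * (v * g * x * (v * g)⁻¹) * v := by group
        _ = v⁻¹ * k * x * (v⁻¹ * k)⁻¹ := by rw [← hkx]; group
    rw [this, map_mul, map_mul, map_inv]
    exact mul_inv_cancel_comm _ _
  obtain hi | hi | hi : i % 3 = 0 ∨ i % 3 = 1 ∨ i % 3 = 2 := by omega
  · have e : x ^ i = 1 := by rw [← pow_mod_orderOf, hx, hi, pow_zero]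
    have e2 : (⟨_, h⟩ : N) = 1 := Subtype.ext (by
      show g₀⁻¹ * x ^ i * g₀ = 1
      rw [e]; group)
    have e3 : (⟨x, hPN hxP⟩ : N) ^ i = 1 := Subtype.ext (by rw [SubmonoidClass.coe_pow]; exact e)
    rw [e2, map_one, ← map_pow, e3, map_one]
  · have e : x ^ i = x := by rw [← pow_mod_orderOf, hx, hi, pow_one]
    have e3 : (⟨x, hPN hxP⟩ : N) ^ i = ⟨x, hPN hxP⟩ := Subtype.ext (by rw [SubmonoidClass.coe_pow]; exact e)
    rw [← map_pow, e3]
    have h' : g₀⁻¹ * x * g₀⁻¹⁻¹ ∈ N := by rw [inv_inv, ← e]; exact h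
    rw [← hkey g₀⁻¹ h']
    exact congrArg φ (Subtype.ext (by simp [e]))
  · have e : x ^ i = x⁻¹ := by
      rw [← pow_mod_orderOf, hx, hi]
      exact sq_eq_inv hx
    have e3 : (⟨x, hPN hxP⟩ : N) ^ i = (⟨x, hPN hxP⟩ : N)⁻¹ :=
      Subtype.ext (by rw [SubmonoidClass.coe_pow]; exact e)
    rw [← map_pow, e3, map_inv]
    have h' : g₀⁻¹ * x * g₀⁻¹⁻¹ ∈ N := by
      rw [inv_inv]
      have := N.inv_mem h
      rwa [e, show (g₀⁻¹ * x⁻¹ * g₀)⁻¹ = g₀⁻¹ * x * g₀ by group] at this
    rw [← hkey g₀⁻¹ h', ← map_inv]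
    exact congrArg φ (Subtype.ext (by simp [e, mul_assoc]))
where
  mem_normalizer_of_conj' {X : Type u} [Group X] [Finite X] {H : Subgroup X} {g : X}
      (h : ∀ f ∈ H, g * f * g⁻¹ ∈ H) : g ∈ normalizer (H : Set X) := mem_normalizer_of_conj h

/-- A non-real element of order three with small centralizer lies outside the derived group. -/
theorem nonreal {X : Type*} [Group X] [Finite X] (P : Sylow 3 X) {x : X} (hxP : x ∈ (P : Subgroup X))
    (hx : orderOf x = 3)
    (hmax : ∀ Q : Subgroup X, IsPGroup 3 Q → (∀ q ∈ Q, q * x = x * q) → Nat.card Q ≤ 9)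
    (hreal : ¬ IsConj x x⁻¹) : x ∉ commutator X :=
  nonreal_aux _ rfl P hxP hx hmax hreal

end CfsgLib.Fixity4
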