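import Cfsg.Agent.Fixity4.NonReal

/-!
Point stabilisers of odd order divisible by three: a strongly 3-embedded subgroup or an elementary Sylow
3-subgroup of order nine.
-/

set_option autoImplicit false
set_option linter.unusedSectionVars false
set_option linter.style.haveILetI false

namespace CfsgLib.Fixity4

open Subgroup MulAction
open scoped Pointwise

theorem perm3_fixes : ∀ w : Equiv.Perm (Fin 3), w ^ 3 = 1 → w ≠ 1 → ∀ h : Equiv.Perm (Fin 3),
    h * w = w * h ∨ h * w = w⁻¹ * h → h ^ 8 = 1 → ∃ i, h i = i := by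
  decide +kernel

theorem perm4_fixes : ∀ w : Equiv.Perm (Fin 4), w ^ 3 = 1 → w ≠ 1 → ∀ h : Equiv.Perm (Fin 4),
    h * w = w * h ∨ h * w = w⁻¹ * h → h ^ 8 = 1 → ∃ i, h i = i := by
  decide +kernel

/-- An element of a group of order three is a power of a given nontrivial one. -/
theorem eq_pow_of_card_three {G : Type*} [Group G] {H : Subgroup G} (hH : Nat.card H = 3) {a b : G}
    (ha : a ∈ H) (ha1 : a ≠ 1) (hb : b ∈ H) : b = 1 ∨ b = a ∨ b = a⁻¹ := by
  haveI : Fact (Nat.Prime 3) := ⟨Nat.prime_three⟩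
  haveI : Finite H := Nat.finite_of_card_ne_zero (by omega)
  have ha3 : orderOf a = 3 := by
    rw [← Subgroup.orderOf_mk a ha]
    rcases (Nat.dvd_prime Nat.prime_three).1 (hH ▸ _root_.orderOf_dvd_natCard (⟨a, ha⟩ : H)) with h | h
    · exact absurd (congrArg Subtype.val (orderOf_eq_one_iff.1 h)) ha1
    · exact h
  obtain ⟨j, hj⟩ := mem_powers_iff_mem_zpowers.2 (show (⟨b, hb⟩ : H) ∈ zpowers ⟨a, ha⟩ from
    mem_zpowers_of_prime_card hH (fun h => ha1 (congrArg Subtype.val h)))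
  have hj' : a ^ j = b := congrArg Subtype.val hj
  rw [← hj', pow_eq_pow_mod j (pow_three_one ha3)]
  obtain h | h | h : j % 3 = 0 ∨ j % 3 = 1 ∨ j % 3 = 2 := by omega
  · simp [h]
  · simp [h]
  · exact Or.inr (Or.inr (by rw [h, sq_eq_inv ha3]))

/-- Odd powers of an inverting element invert. -/
theorem inverts_pow_odd {G : Type*} [Group G] {g x : G} (h : g * x = x⁻¹ * g) :
    ∀ {m : ℕ}, Odd m → g ^ m * x = x⁻¹ * g ^ m := by
  have h2 : Commute (g * g) x := by
    show g * g * x = x * (g * g)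
    have h' : g * x⁻¹ = x * g := by
      calc g * x⁻¹ = x * (x⁻¹ * g) * x⁻¹ := by group
        _ = x * g := by rw [← h]; group
    rw [mul_assoc, h, ← mul_assoc, h', mul_assoc]
  rintro m ⟨i, rfl⟩
  rw [pow_succ, pow_mul, pow_two, mul_assoc, h, ← mul_assoc, ((h2.pow_left i).inv_right).eq, mul_assoc]

/-- A 2-element among the odd powers. -/
theorem exists_two_part {G : Type*} [Group G] [Finite G] (g : G) :
    ∃ m : ℕ, Odd m ∧ ∃ j, orderOf (g ^ m) = 2 ^ j := by
  obtain ⟨a, b, hb, hab⟩ := Nat.exists_eq_two_pow_mul_odd (orderOf_pos g).ne'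
  refine ⟨b, hb, a, ?_⟩
  rw [orderOf_pow' _ hb.pos.ne', hab, Nat.gcd_eq_right (dvd_mul_left b _), Nat.mul_div_cancel _ hb.pos]

variable {G Ω : Type*} [Group G] [MulAction G Ω] [Finite G] [Finite Ω]

/-- Odd point stabilisers and at most `k ∈ {3, 4}` fixed points for elements of order three. -/
structure OddData (G Ω : Type*) [Group G] [MulAction G Ω] (k : ℕ) : Prop where
  ctx : Ctx G Ω
  odd : ∀ (g : G) (b : Ω), g • b = b → Odd (orderOf g)
  hk : k = 3 ∨ k = 4
  hmax : ∀ t : G, orderOf t = 3 → Nat.card (fixedBy Ω t) ≤ k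

namespace OddData

variable {k : ℕ} {A : Set Ω}

theorem two_free (_d : OddData G Ω k) {h : G} (hh : ∃ j, orderOf h = 2 ^ j) {b : Ω} (hb : h • b = b) :
    h = 1 := by
  obtain ⟨j, hj⟩ := hh
  have := _d.odd h b hb
  rw [hj] at this
  rcases j with _ | j
  · exact orderOf_eq_one_iff.1 hj
  · exact absurd this (Nat.not_odd_iff_even.2 (Nat.even_pow.2 ⟨even_two, j.succ_ne_zero⟩))

theorem fix_eq (d : OddData G Ω k) (hA : Nat.card A = k) {x : G} (hx : ∃ j, orderOf x = 3 ^ j) (hx1 : x ≠ 1)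
    (hxA : x ∈ fixingSubgroup G A) : fixedBy Ω x = A := by
  haveI : Fact (Nat.Prime 3) := ⟨Nat.prime_three⟩
  exact fix_eq_of_kernel (fun t ht => (d.hmax t ht).trans hA.ge) hx hx1 hxA

theorem img_le (d : OddData G Ω k) (hA : Nat.card A = k) {H : Subgroup G} (hH : H ≤ stabilizer G A)
    (hp : IsPGroup 3 H) : Nat.card ((res A).comp (inclusion hH)).range ≤ 3 := by
  haveI : Fact (Nat.Prime 3) := ⟨Nat.prime_three⟩
  obtain ⟨j, hj, hd⟩ := img_dvd hH hp
  have h24 : 3 ^ j ∣ 24 := hd.trans (Nat.factorial_dvd_factorial (n := 4)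
    (by rcases d.hk with h | h <;> omega))
  rw [hj]
  rcases j with _ | _ | j
  · norm_num
  · norm_num
  · exfalso
    have : 9 ∣ 24 := dvd_trans ⟨3 ^ j, by ring⟩ h24
    norm_num at this

theorem res_pow_three (d : OddData G Ω k) (hA : Nat.card A = k) {w : stabilizer G A}
    (hw : ∃ j, orderOf (w : G) = 3 ^ j) : res A w ^ 3 = 1 := by
  haveI : Fact (Nat.Prime 3) := ⟨Nat.prime_three⟩
  obtain ⟨j, hj⟩ := hw
  have h1 : orderOf (res A w) ∣ 3 ^ j := by
    rw [← hj, Subgroup.orderOf_coe]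
    exact orderOf_map_dvd (res A) w
  have h2 : orderOf (res A w) ∣ 24 := by
    refine (_root_.orderOf_dvd_natCard _).trans ?_
    rw [Nat.card_perm, hA]
    exact Nat.factorial_dvd_factorial (n := 4) (by rcases d.hk with h | h <;> omega)
  have h3 : orderOf (res A w) ∣ 3 := by
    obtain ⟨i, -, hi⟩ := (Nat.dvd_prime_pow Nat.prime_three).1 h1
    rw [hi] at h2 ⊢
    rcases i with _ | _ | i
    · norm_num
    · norm_num
    · exfalso
      have : 9 ∣ 24 := dvd_trans ⟨3 ^ i, by ring⟩ h2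
      norm_num at this
  exact orderOf_dvd_iff_pow_eq_one.1 h3

/-- A 2-element normalising the image of a 3-element that moves the set is trivial. -/
theorem two_norm (d : OddData G Ω k) (hA : Nat.card A = k) {h w : stabilizer G A}
    (hh : ∃ j, orderOf (h : G) = 2 ^ j) (hw : ∃ j, orderOf (w : G) = 3 ^ j)
    (hwn : (w : G) ∉ fixingSubgroup G A)
    (hrel : res A h * res A w = res A w * res A h ∨ res A h * res A w = (res A w)⁻¹ * res A h) :
    (h : G) = 1 := by
  classical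
  have hw3 := d.res_pow_three hA hw
  have hw1 : res A w ≠ 1 := fun h => hwn (res_eq_one.1 h)
  have h8 : res A h ^ 8 = 1 := by
    obtain ⟨j, hj⟩ := hh
    have h1 : orderOf (res A h) ∣ 2 ^ j := by
      rw [← hj, Subgroup.orderOf_coe]
      exact orderOf_map_dvd (res A) h
    have h2 : orderOf (res A h) ∣ 24 := by
      refine (_root_.orderOf_dvd_natCard _).trans ?_
      rw [Nat.card_perm, hA]
      exact Nat.factorial_dvd_factorial (n := 4) (by rcases d.hk with h | h <;> omega)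
    obtain ⟨i, -, hi⟩ := (Nat.dvd_prime_pow Nat.prime_two).1 h1
    rw [← orderOf_dvd_iff_pow_eq_one, hi]
    refine pow_dvd_pow (m := i) (n := 3) 2 ?_
    by_contra hlt
    rw [hi] at h2
    have : 2 ^ 4 ∣ 24 := (pow_dvd_pow 2 (by omega : 4 ≤ i)).trans h2
    norm_num at this
  have key : ∀ (n : ℕ) (e : A ≃ Fin n),
      (∀ w : Equiv.Perm (Fin n), w ^ 3 = 1 → w ≠ 1 → ∀ h : Equiv.Perm (Fin n),
        h * w = w * h ∨ h * w = w⁻¹ * h → h ^ 8 = 1 → ∃ i, h i = i) → ∃ a : A, res A h a = a := by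
    intro n e hn
    let φ := e.permCongrHom
    obtain ⟨i, hi⟩ := hn (φ (res A w)) (by rw [← map_pow, hw3, map_one])
      (fun h => hw1 (φ.injective (h.trans (map_one φ).symm))) (φ (res A h))
      (hrel.imp (fun h => by rw [← map_mul, h, map_mul]) (fun h => by rw [← map_mul, h, map_mul, map_inv]))
      (by rw [← map_pow, h8, map_one])
    refine ⟨e.symm i, e.injective ?_⟩
    rw [e.apply_symm_apply]
    simpa [φ, Equiv.permCongrHom, Equiv.permCongr_apply] using hi
  obtain ⟨a, ha⟩ : ∃ a : A, res A h a = a := by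
    rcases d.hk with rfl | rfl
    · exact key 3 ((Finite.equivFin A).trans (finCongr hA)) perm3_fixes
    · exact key 4 ((Finite.equivFin A).trans (finCongr hA)) perm4_fixes
  exact d.two_free hh (congrArg Subtype.val ha)

/-- No element inverts the image of a 3-element moving the set. -/
theorem no_inverter (d : OddData G Ω k) (hA : Nat.card A = k) {g w : stabilizer G A}
    (hw : ∃ j, orderOf (w : G) = 3 ^ j) (hwn : (w : G) ∉ fixingSubgroup G A) :
    res A g * res A w ≠ (res A w)⁻¹ * res A g := by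
  intro hrel
  obtain ⟨m, hm, hj⟩ := exists_two_part (g : G)
  have h1 := inverts_pow_odd hrel hm
  rw [← map_pow] at h1
  have h2 := d.two_norm hA (h := g ^ m) (by rw [SubmonoidClass.coe_pow]; exact hj) hw hwn (Or.inr h1)
  rw [show g ^ m = 1 from Subtype.ext h2, map_one, one_mul, mul_one] at h1
  have h3 : res A w ^ 2 = 1 := by rw [pow_two]; exact eq_inv_iff_mul_eq_one.1 h1
  have h4 := d.res_pow_three hA hw
  rw [pow_succ, h3, one_mul] at h4
  exact hwn (res_eq_one.1 h4)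

theorem commutator_top (d : OddData G Ω k) (x : G) : x ∈ commutator G := by
  rw [← Abelianization.ker_of, MonoidHom.mem_ker]
  exact d.ctx.hom_trivial _ x

/-- A set stabiliser with a moving element of order three contains a Sylow 3-subgroup of the group. -/
theorem step1 (d : OddData G Ω k) (hA : Nat.card A = k) {x₀ : G} (hx₀ : orderOf x₀ = 3)
    (hx₀A : fixedBy Ω x₀ = A) {u : G} (hu : orderOf u = 3) (huA : u ∈ stabilizer G A)
    (hun : u ∉ fixingSubgroup G A) {D : Subgroup G} (hD : IsPGroup 3 D) (hDA : D ≤ stabilizer G A) :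
    ∃ P : Sylow 3 G, (P : Subgroup G) ≤ stabilizer G A ∧ D ≤ (P : Subgroup G) := by
  haveI : Fact (Nat.Prime 3) := ⟨Nat.prime_three⟩
  set M := stabilizer G A with hM
  obtain ⟨RM, hRM⟩ := (hD.comap_of_injective M.subtype M.subtype_injective).exists_le_sylow
  set R : Subgroup G := (RM : Subgroup M).map M.subtype with hR
  have hRp : IsPGroup 3 R := RM.isPGroup'.map _
  have hRle : R ≤ M := map_subtype_le _
  have hDR : D ≤ R := fun g hg => ⟨⟨g, hDA hg⟩, hRM hg, rfl⟩
  obtain ⟨P, hRP⟩ := hRp.exists_le_sylow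
  by_cases hPM : (P : Subgroup G) ≤ M
  · exact ⟨P, hPM, hDR.trans hRP⟩
  exfalso
  have hmaxR : ∀ Q : Subgroup G, IsPGroup 3 Q → R ≤ Q → Q ≤ M → Q = R := by
    intro Q hQ hle hQM
    refine le_antisymm ?_ hle
    have h1 := RM.is_maximal' (hQ.comap_of_injective M.subtype M.subtype_injective) (fun p hp => hle ⟨p, hp, rfl⟩)
    intro g hg
    exact ⟨⟨g, hQM hg⟩, h1 ▸ hg, rfl⟩
  have hPR : (P : Subgroup G) ⊓ M = R :=
    hmaxR _ (P.isPGroup'.to_le inf_le_left) (le_inf hRP hRle) inf_le_right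
  have hx₀K : x₀ ∈ fixingSubgroup G A := mem_fix.2 hx₀A.ge
  obtain ⟨m, hm, hxR⟩ := exists_conj_mem_elem hRp hRle hmaxR ⟨1, by rw [hx₀, pow_one]⟩ (fixing_le_stab A hx₀K)
  set x := m * x₀ * m⁻¹ with hxdef
  have hx : orderOf x = 3 := (orderOf_injective (MulAut.conj m).toMonoidHom (MulAut.conj m).injective x₀).trans hx₀
  have hxK : x ∈ fixingSubgroup G A := conj_mem_fix_of_stab hm hx₀K
  have hx1 : x ≠ 1 := fun h => by simp [h] at hx
  have hxA := d.fix_eq hA ⟨1, by rw [hx, pow_one]⟩ hx1 hxK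
  obtain ⟨m', hm', huR⟩ := exists_conj_mem_elem hRp hRle hmaxR ⟨1, by rw [hu, pow_one]⟩ huA
  set w := m' * u * m'⁻¹ with hwdef
  have hwn : w ∉ fixingSubgroup G A := fun h => hun (by
    have := conj_mem_fix_of_stab (M.inv_mem hm') h
    simpa [mul_assoc, hwdef] using this)
  -- an element of `P` normalising `R` outside it
  have hlt : R.subgroupOf (P : Subgroup G) < ⊤ := lt_top_iff_ne_top.2 fun h => hPM
    ((subgroupOf_eq_top.1 h).trans hRle)
  have := P.isPGroup'.isNilpotent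
  obtain ⟨⟨v, hvP⟩, hvn, hvR⟩ := SetLike.exists_of_lt (Group.normalizerCondition_of_isNilpotent _ hlt)
  rw [mem_subgroupOf] at hvR
  have hvA : v ∉ M := fun h => hvR (hPR.le ⟨hvP, h⟩)
  have hvconj : ∀ r ∈ R, v * r * v⁻¹ ∈ R := fun r hr =>
    mem_subgroupOf.1 ((mem_normalizer_iff.1 hvn ⟨r, hRP hr⟩).1 (mem_subgroupOf.2 hr))
  set φ := (res A).comp (inclusion hRle) with hφ
  set T := R ⊓ fixingSubgroup G A with hT
  have himg := d.img_le hA hRle hRp
  have hvB : v • A ≠ A := fun h => hvA (mem_stabilizer_iff.2 h)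
  have hvA4 : Nat.card ↥(v • A) = k := by
    rw [Nat.card_coe_set_eq, Set.ncard_smul_set, ← Nat.card_coe_set_eq, hA]
  have hT3 : Nat.card T ≤ 3 := by
    let ψ : T →* φ.range := MonoidHom.mk' (fun r => ⟨φ ⟨v * r * v⁻¹, hvconj r r.2.1⟩, ⟨_, rfl⟩⟩)
      (fun a b => Subtype.ext ((congrArg φ (Subtype.ext (by simp [mul_assoc]) :
        (⟨v * ((a * b : T) : G) * v⁻¹, hvconj _ (a * b).2.1⟩ : R) =
          ⟨v * a * v⁻¹, hvconj a a.2.1⟩ * ⟨v * b * v⁻¹, hvconj b b.2.1⟩)).trans (map_mul φ _ _)))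
    refine le_trans (Nat.card_le_card_of_injective ψ ((injective_iff_map_eq_one ψ).2 fun r hr => ?_)) himg
    by_contra hr1
    have h1 : v * (r : G) * v⁻¹ ∈ fixingSubgroup G A := res_eq_one.1 (congrArg Subtype.val hr)
    have h2 : v * (r : G) * v⁻¹ ∈ fixingSubgroup G (v • A) := conj_mem_fix r.2.2
    have hne : v * (r : G) * v⁻¹ ≠ 1 := fun h => hr1 (Subtype.ext (conj_eq_one_iff.1 h))
    have h3 := pgroup_order hRp (hvconj r r.2.1)
    exact hvB ((d.fix_eq hvA4 h3 hne h2).symm.trans (d.fix_eq hA h3 hne h1))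
  have hR9 : Nat.card R ≤ 9 := by
    rw [card_eq_ker_mul hRle]
    exact (Nat.mul_le_mul hT3 himg).trans (le_refl (3 * 3))
  obtain ⟨j, hj⟩ := hRp.exists_card_eq
  haveI : IsMulCommutative R := by
    rcases j with _ | _ | _ | j
    · haveI : Subsingleton R := (Nat.card_eq_one_iff_unique.1 (by simpa using hj)).1
      exact ⟨⟨fun a b => Subsingleton.elim _ _⟩⟩
    · haveI : IsCyclic R := isCyclic_of_prime_card (by simpa using hj)
      infer_instance
    · exact IsPGroup.isMulCommutative_of_card_eq_prime_sq hj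
    · exfalso
      rw [hj, pow_succ, pow_succ, pow_succ] at hR9
      have := Nat.one_le_pow j 3 (by norm_num)
      omega
  have hRc : R ≤ centralizer ({x} : Set G) := fun r hr => mem_centralizer_singleton_iff.2
    (congrArg Subtype.val (mul_comm' (⟨r, hr⟩ : R) ⟨x, hxR⟩))
  have hCM : ∀ g : G, g * x = x * g → g ∈ M := fun g hg => by
    have := mem_stab_of_commute (Ω := Ω) hg
    rwa [hxA] at this
  have hbound : ∀ Q : Subgroup G, IsPGroup 3 Q → (∀ q ∈ Q, q * x = x * q) → Nat.card Q ≤ 9 := by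
    intro Q hQ hc
    obtain ⟨m₁, -, h⟩ := exists_conj_mem hRp hRle hmaxR hQ (fun q hq => hCM q (hc q hq))
    refine (le_trans ?_ hR9)
    exact Nat.card_le_card_of_injective (fun q : Q => (⟨m₁ * q * m₁⁻¹, h q q.2⟩ : R)) fun a b he =>
      Subtype.ext (by simpa using congrArg Subtype.val he)
  refine nonreal P (hRP hxR) hx hbound ?_ (d.commutator_top x)
  intro hreal
  obtain ⟨g, hg⟩ := isConj_iff.1 hreal
  set C := centralizer ({x} : Set G) with hC
  have hmaxC : ∀ Q : Subgroup G, IsPGroup 3 Q → R ≤ Q → Q ≤ C → Q = R := fun Q hQ hle hQC =>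
    hmaxR Q hQ hle fun q hq => hCM q (mem_centralizer_singleton_iff.1 (hQC hq))
  have hgC : R.map (MulAut.conj g).toMonoidHom ≤ C := by
    rintro _ ⟨r, hr, rfl⟩
    refine mem_centralizer_singleton_iff.2 ?_
    simp only [MulEquiv.coe_toMonoidHom, MulAut.conj_apply]
    have h1 : r * x⁻¹ = x⁻¹ * r := (Commute.inv_right (mem_centralizer_singleton_iff.1 (hRc hr) : Commute r x)).eq
    have hx' : x = g * x⁻¹ * g⁻¹ := by
      calc x = (g * x * g⁻¹)⁻¹ := by rw [hg, inv_inv]
        _ = g * x⁻¹ * g⁻¹ := by group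
    calc g * r * g⁻¹ * x = g * r * g⁻¹ * (g * x⁻¹ * g⁻¹) := by rw [← hx']
      _ = g * (r * x⁻¹) * g⁻¹ := by group
      _ = g * x⁻¹ * g⁻¹ * (g * r * g⁻¹) := by rw [h1]; group
      _ = x * (g * r * g⁻¹) := by rw [← hx']
  obtain ⟨c, hc, hcR⟩ := exists_conj_mem hRp hRc hmaxC (hRp.map _) hgC
  set g' := c * g with hg'
  have hg'x : g' * x = x⁻¹ * g' := by
    have hcx : c * x⁻¹ = x⁻¹ * c := (Commute.inv_right (mem_centralizer_singleton_iff.1 hc : Commute c x)).eq
    rw [hg', mul_assoc, show g * x = x⁻¹ * g from mul_inv_eq_iff_eq_mul.1 hg, ← mul_assoc, hcx, mul_assoc]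
  have hg'N : g' ∈ normalizer (R : Set G) := mem_normalizer_of_conj fun r hr => by
    have := hcR (g * r * g⁻¹) ⟨r, hr, by simp⟩
    simpa [hg', mul_assoc] using this
  have hg'M : g' ∈ M := by
    have : fixedBy Ω x⁻¹ = A := by rw [fixedBy_inv, hxA]
    have e : g' * x * g'⁻¹ = x⁻¹ := mul_inv_eq_iff_eq_mul.2 hg'x
    rw [hM, mem_stabilizer_iff]
    conv_lhs => rw [← hxA, ← fixedBy_conj, e, this]
  obtain ⟨i, hi, h2⟩ := exists_two_part g'
  set h := g' ^ i with hh
  have hhx : h * x = x⁻¹ * h := inverts_pow_odd hg'x hi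
  have hhM : h ∈ M := M.pow_mem hg'M i
  have hhw : h * w * h⁻¹ ∈ R := (mem_normalizer_iff.1 ((normalizer _).pow_mem hg'N i) w).1 huR
  have hw3 : ∃ j, orderOf ((⟨w, hRle huR⟩ : M) : G) = 3 ^ j := pgroup_order hRp huR
  have hrange3 : Nat.card φ.range = 3 := by
    refine le_antisymm himg ?_
    have hne : φ.range ≠ ⊥ := fun h0 => hwn (res_eq_one.1 (MonoidHom.mem_range.2 ⟨⟨w, huR⟩, rfl⟩ |>
      fun (hm : φ ⟨w, huR⟩ ∈ φ.range) => mem_bot.1 (h0 ▸ hm)))
    obtain ⟨j', hj', -⟩ := img_dvd hRle hRp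
    rw [← hφ] at hj'
    rw [hj']
    rcases j' with _ | j'
    · exact absurd (card_eq_one.1 (by rw [hj', pow_zero])) hne
    · exact Nat.le_self_pow j'.succ_ne_zero 3
  set hM' : M := ⟨h, hhM⟩
  set wM : M := ⟨w, hRle huR⟩
  have hmem1 : res A wM ∈ φ.range := ⟨⟨w, huR⟩, rfl⟩
  have hmem2 : res A (hM' * wM * hM'⁻¹) ∈ φ.range := ⟨⟨_, hhw⟩, rfl⟩
  have hrel : res A hM' * res A wM = res A wM * res A hM' ∨
      res A hM' * res A wM = (res A wM)⁻¹ * res A hM' := by
    rcases eq_pow_of_card_three hrange3 hmem1 (fun h => hwn (res_eq_one.1 h)) hmem2 with h' | h' | h'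
    · exfalso
      rw [map_mul, map_mul, map_inv, conj_eq_one_iff] at h'
      exact hwn (res_eq_one.1 h')
    · rw [map_mul, map_mul, map_inv, mul_inv_eq_iff_eq_mul] at h'
      exact Or.inl h'
    · rw [map_mul, map_mul, map_inv, mul_inv_eq_iff_eq_mul] at h'
      exact Or.inr h'
  have h1 : h = 1 := d.two_norm hA (h := hM') h2 hw3 hwn hrel
  rw [h1, one_mul, mul_one] at hhx
  have h4 : x ^ 2 = 1 := by rw [pow_two]; exact eq_inv_iff_mul_eq_one.1 hhx
  have := orderOf_dvd_of_pow_eq_one h4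
  rw [hx] at this
  norm_num at this

/-- The centralizer of a moving element in the kernel part of a 3-group. -/
theorem kernel_cent_le (d : OddData G Ω k) (hA : Nat.card A = k) {P : Subgroup G} (hP : IsPGroup 3 P)
    (hPA : P ≤ stabilizer G A) {u : G} (huP : u ∈ P) (hu : orderOf u = 3)
    (hun : u ∉ fixingSubgroup G A) (hfix : Nat.card (fixedBy Ω u) = k) :
    Nat.card ↥(P ⊓ centralizer ({u} : Set G) ⊓ fixingSubgroup G A) ≤ 3 := by
  haveI : Fact (Nat.Prime 3) := ⟨Nat.prime_three⟩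
  set B := fixedBy Ω u with hB
  have hne : (B \ A).Nonempty := by
    by_contra h
    rw [Set.not_nonempty_iff_eq_empty, Set.sdiff_eq_empty] at h
    refine hun (mem_fix.2 ?_)
    rw [← hB, Set.eq_of_subset_of_ncard_le h (by rw [← Nat.card_coe_set_eq, ← Nat.card_coe_set_eq, hfix, hA]) (Set.toFinite _)]
  obtain ⟨b, hb⟩ := hne
  refine le_trans (card_le_of_semiregular (B := B \ A) ?_ ?_ hb) ?_
  · intro g hg b' hb'
    refine ⟨smul_mem_of_stab (mem_stab_of_commute (mem_centralizer_singleton_iff.1 hg.1.2)) hb'.1, fun h => hb'.2 ?_⟩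
    have := smul_mem_of_stab ((stabilizer G A).inv_mem (hPA hg.1.1)) h
    rwa [inv_smul_smul] at this
  · intro g hg b' hb' hgb
    by_contra hg1
    exact hb'.2 (d.fix_eq hA (pgroup_order hP hg.1.1) hg1 hg.2 ▸ hgb)
  · rcases d.hk with rfl | rfl
    · rw [← hfix, Nat.card_coe_set_eq, Nat.card_coe_set_eq]
      exact Set.ncard_le_ncard Set.sdiff_subset (Set.toFinite _)
    · classical
      haveI := Fintype.ofFinite A
      obtain ⟨a, ha⟩ := Equiv.Perm.exists_fixed_point_of_prime (p := 3) (n := 1)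
        (by rw [← Nat.card_eq_fintype_card, hA]; norm_num) (σ := res A ⟨u, hPA huP⟩)
        (by rw [pow_one]; exact d.res_pow_three hA (pgroup_order hP huP))
      have hsum : Nat.card ↥(B ∩ A) + Nat.card ↥(B \ A) = 4 := by
        rw [← hfix, Nat.card_coe_set_eq, Nat.card_coe_set_eq, Nat.card_coe_set_eq,
          Set.ncard_inter_add_ncard_sdiff_eq_ncard B A]
      have : 0 < Nat.card ↥(B ∩ A) :=
        Nat.card_pos_iff.2 ⟨⟨⟨(a : Ω), congrArg Subtype.val ha, a.2⟩⟩, inferInstance⟩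
      omega

/-- The subgroup generated by a kernel element and a commuting moving one. -/
theorem pair_facts (d : OddData G Ω k) (hA : Nat.card A = k) {P : Subgroup G} (hP : IsPGroup 3 P)
    (hPA : P ≤ stabilizer G A) {z u : G} (hzP : z ∈ P) (hz : orderOf z = 3) (hzA : fixedBy Ω z = A)
    (huP : u ∈ P) (hu : orderOf u = 3) (hun : u ∉ fixingSubgroup G A)
    (hfix : Nat.card (fixedBy Ω u) = k) (hzu : z * u = u * z) :
    Nat.card ↥(P ⊓ centralizer ({u} : Set G)) = 9 ∧
      ∀ r ∈ P, r * u = u * r → ∃ i j : ℕ, i < 3 ∧ r = u ^ i * z ^ j := by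
  haveI : Fact (Nat.Prime 3) := ⟨Nat.prime_three⟩
  set H := P ⊓ centralizer ({u} : Set G) with hH
  have hHA : H ≤ stabilizer G A := inf_le_left.trans hPA
  have hzK : z ∈ H ⊓ fixingSubgroup G A :=
    ⟨⟨hzP, mem_centralizer_singleton_iff.2 hzu⟩, mem_fix.2 hzA.ge⟩
  have hker : H ⊓ fixingSubgroup G A = zpowers z := by
    refine (eq_of_le_of_card_ge (zpowers_le.2 hzK) ?_).symm
    rw [Nat.card_zpowers, hz]
    exact d.kernel_cent_le hA hP hPA huP hu hun hfix
  set φ := (res A).comp (inclusion hHA) with hφ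
  have huH : u ∈ H := ⟨huP, mem_centralizer_singleton_iff.2 rfl⟩
  have hr3 : Nat.card φ.range = 3 := by
    refine le_antisymm (d.img_le hA hHA (hP.to_le inf_le_left)) ?_
    obtain ⟨j, hj, -⟩ := img_dvd hHA (hP.to_le (inf_le_left : H ≤ P))
    rw [← hφ] at hj
    rw [hj]
    rcases j with _ | j
    · exfalso
      have hb : φ.range = ⊥ := card_eq_one.1 (by rw [hj, pow_zero])
      have hm : φ ⟨u, huH⟩ ∈ φ.range := ⟨_, rfl⟩
      rw [hb, mem_bot] at hm
      exact hun (res_eq_one.1 hm)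
    · exact Nat.le_self_pow j.succ_ne_zero 3
  refine ⟨?_, fun r hr hru => ?_⟩
  · rw [card_eq_ker_mul hHA, hker, Nat.card_zpowers, hz, ← hφ, hr3]
  have hrH : r ∈ H := ⟨hr, mem_centralizer_singleton_iff.2 hru⟩
  have hsub : ∀ i : ℕ, φ ⟨r, hrH⟩ = φ ⟨u, huH⟩ ^ i → ∃ j : ℕ, r = u ^ i * z ^ j := by
    intro i hi
    have h1 : (u ^ i)⁻¹ * r ∈ fixingSubgroup G A := by
      have h' : φ ((⟨u, huH⟩ ^ i)⁻¹ * ⟨r, hrH⟩) = 1 := by
        rw [map_mul, map_inv, map_pow, hi, inv_mul_cancel]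
      exact res_eq_one.1 h'
    have h2 : (u ^ i)⁻¹ * r ∈ H ⊓ fixingSubgroup G A :=
      ⟨H.mul_mem (H.inv_mem (H.pow_mem huH i)) hrH, h1⟩
    rw [hker] at h2
    obtain ⟨j, hj⟩ := mem_powers_iff_mem_zpowers.2 h2
    refine ⟨j, ?_⟩
    simp only at hj
    rw [hj, mul_inv_cancel_left]
  have hu1 : φ ⟨u, huH⟩ ≠ 1 := fun h => hun (res_eq_one.1 h)
  rcases eq_pow_of_card_three hr3 ⟨_, rfl⟩ hu1 ⟨⟨r, hrH⟩, rfl⟩ with h | h | h
  · obtain ⟨j, hj⟩ := hsub 0 (by rw [h, pow_zero])
    exact ⟨0, j, by norm_num, hj⟩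
  · obtain ⟨j, hj⟩ := hsub 1 (by rw [h, pow_one])
    exact ⟨1, j, by norm_num, hj⟩
  · obtain ⟨j, hj⟩ := hsub 2 (by
      rw [h, ← map_pow, ← map_inv]
      exact congrArg φ (Subtype.ext (sq_eq_inv hu).symm))
    exact ⟨2, j, by norm_num, hj⟩

/-- In a large Sylow subgroup some element shears the pair. -/
theorem fusion (d : OddData G Ω k) (hA : Nat.card A = k) {P : Subgroup G} (hP : IsPGroup 3 P)
    (hPA : P ≤ stabilizer G A) (h9 : 9 < Nat.card P) {z u : G} (hzP : z ∈ P) (hz : orderOf z = 3)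
    (hzA : fixedBy Ω z = A) (huP : u ∈ P) (hu : orderOf u = 3) (hun : u ∉ fixingSubgroup G A)
    (hfix : Nat.card (fixedBy Ω u) = k) (hzu : z * u = u * z) :
    ∃ n : G, n * z * n⁻¹ = z ∧ n * u * n⁻¹ = u * z := by
  haveI : Fact (Nat.Prime 3) := ⟨Nat.prime_three⟩
  obtain ⟨hD9, hmem⟩ := d.pair_facts hA hP hPA hzP hz hzA huP hu hun hfix hzu
  set H := P ⊓ centralizer ({u} : Set G) with hH
  have hlt : H.subgroupOf P < ⊤ := lt_top_iff_ne_top.2 fun h => by
    have := Nat.card_le_card_of_injective _ (inclusion_injective (subgroupOf_eq_top.1 h))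
    omega
  have := hP.isNilpotent
  obtain ⟨⟨n, hnP⟩, hn, hnH⟩ := SetLike.exists_of_lt (Group.normalizerCondition_of_isNilpotent _ hlt)
  rw [mem_subgroupOf] at hnH
  have hconj : ∀ r ∈ H, n * r * n⁻¹ ∈ H := fun r hr =>
    mem_subgroupOf.1 ((mem_normalizer_iff.1 hn ⟨r, hr.1⟩).1 (mem_subgroupOf.2 hr))
  have hnC : n * u ≠ u * n := fun h => hnH ⟨hnP, mem_centralizer_singleton_iff.2 h⟩
  have hzK : z ∈ fixingSubgroup G A := mem_fix.2 hzA.ge
  have hzpow : ∀ j : ℕ, z ^ j ∈ fixingSubgroup G A := fun j => pow_mem hzK j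
  -- `n` centralizes `z`
  have hnz : n * z * n⁻¹ = z := by
    have h1 := hconj z ⟨hzP, mem_centralizer_singleton_iff.2 hzu⟩
    obtain ⟨i, j, hi, hij⟩ := hmem _ h1.1 (mem_centralizer_singleton_iff.1 h1.2)
    have h2 : n * z * n⁻¹ ∈ fixingSubgroup G A := conj_mem_fix_of_stab (hPA hnP) hzK
    have hi0 : i = 0 := by
      by_contra hne
      refine hun ?_
      have h3 : u ^ i ∈ fixingSubgroup G A := by
        have := mul_mem h2 (inv_mem (hzpow j))
        rwa [hij, mul_inv_cancel_right] at this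
      obtain rfl | rfl : i = 1 ∨ i = 2 := by omega
      · simpa using h3
      · rw [sq_eq_inv hu, inv_mem_iff] at h3
        exact h3
    rw [hi0, pow_zero, one_mul] at hij
    have hne : n * z * n⁻¹ ≠ 1 := fun h => by
      rw [conj_eq_one_iff] at h
      simp [h] at hz
    rcases eq_pow_of_card_three (by rw [Nat.card_zpowers, hz]) (mem_zpowers z)
      (fun h => by simp [h] at hz) (show n * z * n⁻¹ ∈ zpowers z by rw [hij]; exact npow_mem_zpowers z j)
      with h | h | h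
    · exact absurd h hne
    · exact h
    · exact absurd h (eq_one_of_inverted (odd_orderOf hP hnP) hz)
  obtain ⟨hnuP, hnuC⟩ := hconj u ⟨huP, mem_centralizer_singleton_iff.2 rfl⟩
  obtain ⟨i, j, hi, hij⟩ := hmem _ hnuP (mem_centralizer_singleton_iff.1 hnuC)
  have hznC : ∀ m : ℕ, n * z ^ m * n⁻¹ = z ^ m := fun m => by rw [← conj_pow, hnz]
  obtain rfl | rfl | rfl : i = 0 ∨ i = 1 ∨ i = 2 := by omega
  · exfalso
    rw [pow_zero, one_mul] at hij
    refine hun ?_
    have := conj_mem_fix_of_stab ((stabilizer G A).inv_mem (hPA hnP)) (hij ▸ hzpow j : n * u * n⁻¹ ∈ fixingSubgroup G A)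
    simpa [mul_assoc] using this
  · rw [pow_one, pow_eq_pow_mod j (pow_three_one hz)] at hij
    obtain h0 | h1 | h2 : j % 3 = 0 ∨ j % 3 = 1 ∨ j % 3 = 2 := by omega
    · exfalso
      rw [h0, pow_zero, mul_one, mul_inv_eq_iff_eq_mul] at hij
      exact hnC hij
    · exact ⟨n, hnz, by rw [hij, h1, pow_one]⟩
    · refine ⟨n * n, ?_, ?_⟩
      · calc n * n * z * (n * n)⁻¹ = n * (n * z * n⁻¹) * n⁻¹ := by group
          _ = z := by rw [hnz, hnz]
      · rw [h2] at hij
        calc n * n * u * (n * n)⁻¹ = n * (n * u * n⁻¹) * n⁻¹ := by group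
          _ = n * (u * z ^ 2) * n⁻¹ := by rw [hij]
          _ = (n * u * n⁻¹) * (n * z ^ 2 * n⁻¹) := by group
          _ = u * z ^ 4 := by rw [hznC 2, hij]; group
          _ = u * z := by rw [pow_succ, pow_three_one hz, one_mul]
  · exfalso
    rw [sq_eq_inv hu] at hij
    have h2 : n * n * u = u * (n * n) := by
      have hc : Commute (z ^ j) u := Commute.pow_left hzu j
      calc n * n * u = n * (n * u * n⁻¹) * n := by group
        _ = n * (u⁻¹ * z ^ j) * n := by rw [hij]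
        _ = (n * u * n⁻¹)⁻¹ * (n * z ^ j * n⁻¹) * (n * n) := by group
        _ = (z ^ j)⁻¹ * (u * z ^ j) * (n * n) := by rw [hznC j, hij]; group
        _ = u * (n * n) := by rw [← hc.eq]; group
    obtain ⟨m, hm⟩ := odd_orderOf hP hnP
    refine hnC ?_
    have e : (n * n) ^ (m + 1) = n := by
      rw [← pow_two, ← pow_mul, show 2 * (m + 1) = orderOf n + 1 by omega, pow_succ, pow_orderOf_eq_one, one_mul]
    rw [← e]
    exact (Commute.pow_left h2 _).eq

/-- Either a strongly 3-embedded subgroup or elementary abelian Sylow 3-subgroups of order nine. -/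
theorem main (d : OddData G Ω k) (hA : Nat.card A = k) {x : G} (hx : orderOf x = 3) (hxA : fixedBy Ω x = A)
    (hmove : ∃ u ∈ stabilizer G A, orderOf u = 3 ∧ u ∉ fixingSubgroup G A) :
    ∃ P : Sylow 3 G, Nat.card P = 9 ∧ ∀ r ∈ (P : Subgroup G), r ^ 3 = 1 := by
  haveI : Fact (Nat.Prime 3) := ⟨Nat.prime_three⟩
  obtain ⟨u₁, hu₁A, hu₁, hu₁n⟩ := hmove
  have hxK : x ∈ fixingSubgroup G A := mem_fix.2 hxA.ge
  obtain ⟨P, hPA, hxP⟩ := d.step1 hA hx hxA hu₁ hu₁A hu₁n
    (IsPGroup.of_card (n := 1) (by rw [Nat.card_zpowers, hx, pow_one]) : IsPGroup 3 (zpowers x))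
    (zpowers_le.2 (fixing_le_stab A hxK))
  obtain ⟨m₁, hm₁, hu₁P⟩ := exists_conj_mem_elem P.isPGroup' hPA (sylow_max P _) ⟨1, by rw [hu₁, pow_one]⟩ hu₁A
  set w₁ := m₁ * u₁ * m₁⁻¹ with hw₁
  have hw₁n : w₁ ∉ fixingSubgroup G A := fun h => hu₁n (by
    have := conj_mem_fix_of_stab ((stabilizer G A).inv_mem hm₁) h
    simpa [mul_assoc, hw₁] using this)
  -- a central element of order three fixing `A`
  set T := (P : Subgroup G) ⊓ fixingSubgroup G A with hT
  haveI hTn : (T.subgroupOf (P : Subgroup G)).Normal := ⟨fun t ht g => mem_subgroupOf.2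
    ⟨(P : Subgroup G).mul_mem ((P : Subgroup G).mul_mem g.2 (mem_subgroupOf.1 ht).1)
      ((P : Subgroup G).inv_mem g.2), conj_mem_fix_of_stab (hPA g.2) (mem_subgroupOf.1 ht).2⟩⟩
  obtain ⟨z, hz, hzP, hzA, hzc⟩ : ∃ z, orderOf z = 3 ∧ z ∈ (P : Subgroup G) ∧ fixedBy Ω z = A ∧
      ∀ r ∈ (P : Subgroup G), r * z = z * r := by
    haveI := P.isPGroup'.isNilpotent
    have hne : T.subgroupOf (P : Subgroup G) ≠ ⊥ := fun h => by
      have h1 : (⟨x, hxP (mem_zpowers x)⟩ : (P : Subgroup G)) ∈ T.subgroupOf (P : Subgroup G) :=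
        mem_subgroupOf.2 ⟨hxP (mem_zpowers x), hxK⟩
      rw [h, mem_bot] at h1
      have : x = 1 := congrArg Subtype.val h1
      simp [this] at hx
    obtain ⟨w, hw, hw1⟩ := (bot_or_exists_ne_one _).resolve_left (CfsgLib.PGroupBasic.inf_center_ne_bot _ hne)
    obtain ⟨i, hi⟩ := exists_pow_order (p := 3) (pgroup_order P.isPGroup' w.2) fun h => hw1 (Subtype.ext h)
    refine ⟨_, hi, (P : Subgroup G).pow_mem w.2 i, d.fix_eq hA ⟨1, by rw [hi, pow_one]⟩
      (fun h => by simp [h] at hi) (pow_mem (mem_subgroupOf.1 hw.1).2 i), fun r hr => ?_⟩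
    exact Commute.pow_right (congrArg Subtype.val (mem_center_iff.1 hw.2 ⟨r, hr⟩) : r * (w : G) = w * r) i
  have hz1 : z ≠ 1 := fun h => by simp [h] at hz
  have hzK : z ∈ fixingSubgroup G A := mem_fix.2 hzA.ge
  -- some moving element fixes `k` points
  obtain ⟨u, huP, hu, hun, hufix⟩ : ∃ u ∈ (P : Subgroup G), orderOf u = 3 ∧ u ∉ fixingSubgroup G A ∧
      Nat.card (fixedBy Ω u) = k := by
    by_contra h0
    push Not at h0
    have h0' : ∀ t ∈ (P : Subgroup G), orderOf t = 3 → Nat.card (fixedBy Ω t) = k →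
        t ∈ fixingSubgroup G A := fun t ht h3 hk => by
      by_contra hn
      exact h0 t ht h3 hn hk
    have h1 : ∀ t ∈ (P : Subgroup G), k ≤ Nat.card (fixedBy Ω t) → t ∈ fixingSubgroup G A := by
      intro t ht hk
      by_cases ht1 : t = 1
      · rw [ht1]; exact one_mem _
      obtain ⟨i, hi⟩ := exists_pow_order (p := 3) (pgroup_order P.isPGroup' ht) ht1
      have hsub := fixedBy_subset_pow (Ω := Ω) t i
      have hk' : Nat.card (fixedBy Ω (t ^ i)) = k := le_antisymm (d.hmax _ hi) (hk.trans (by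
        rw [Nat.card_coe_set_eq, Nat.card_coe_set_eq]
        exact Set.ncard_le_ncard hsub (Set.toFinite _)))
      have hK' := h0' _ ((P : Subgroup G).pow_mem ht i) hi hk'
      rw [d.fix_eq hA ⟨1, by rw [hi, pow_one]⟩ (fun h => by simp [h] at hi) hK'] at hsub
      refine mem_fix.2 (Set.eq_of_subset_of_ncard_le hsub ?_ (Set.toFinite _)).ge
      rw [← Nat.card_coe_set_eq, ← Nat.card_coe_set_eq, hA]
      exact hk
    set φ := (res A).comp (inclusion hPA) with hφ
    have hφK : ∀ t : (P : Subgroup G), φ t = 1 ↔ (t : G) ∈ fixingSubgroup G A := fun t => res_eq_one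
    have hr3 : Nat.card φ.range = 3 := by
      refine le_antisymm (d.img_le hA hPA P.isPGroup') ?_
      obtain ⟨j, hj, -⟩ := img_dvd hPA P.isPGroup'
      rw [← hφ] at hj
      rw [hj]
      rcases j with _ | j
      · exfalso
        have hb : φ.range = ⊥ := card_eq_one.1 (by rw [hj, pow_zero])
        have hm : φ ⟨w₁, hu₁P⟩ ∈ φ.range := ⟨_, rfl⟩
        rw [hb, mem_bot] at hm
        exact hw₁n ((hφK _).1 hm)
      · exact Nat.le_self_pow j.succ_ne_zero 3
    haveI : IsCyclic φ.range := isCyclic_of_prime_card hr3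
    letI : CommGroup φ.range := IsCyclic.commGroup
    have hinv : ∀ (g : G) (v w : (P : Subgroup G)), g * w * g⁻¹ = v → φ v = φ w := by
      intro g v w hgv
      by_cases hw1 : (w : G) = 1
      · have : v = w := Subtype.ext (by rw [← hgv, hw1]; group)
        rw [this]
      have hv1 : (v : G) ≠ 1 := fun h => hw1 (conj_eq_one_iff.1 (hgv.trans h))
      have hcards : Nat.card (fixedBy Ω (v : G)) = Nat.card (fixedBy Ω (w : G)) := by
        rw [← hgv, fixedBy_conj, Nat.card_coe_set_eq, Nat.card_coe_set_eq, Set.ncard_smul_set]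
      by_cases hwK : (w : G) ∈ fixingSubgroup G A
      · have hvK := h1 v v.2 (by rw [hcards, d.fix_eq hA (pgroup_order P.isPGroup' w.2) hw1 hwK, hA])
        rw [(hφK v).2 hvK, (hφK w).2 hwK]
      by_cases hvK : (v : G) ∈ fixingSubgroup G A
      · exact absurd (h1 w w.2 (by rw [← hcards, d.fix_eq hA (pgroup_order P.isPGroup' v.2) hv1 hvK, hA])) hwK
      -- move the conjugating element into the stabiliser
      set C := centralizer ({(v : G)} : Set G) with hC
      have hzC : z ∈ C := mem_centralizer_singleton_iff.2 (hzc v v.2).symm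
      set z' := g * z * g⁻¹ with hz'
      have hz'3 : orderOf z' = 3 :=
        (orderOf_injective (MulAut.conj g).toMonoidHom (MulAut.conj g).injective z).trans hz
      have hz'C : z' ∈ C := mem_centralizer_singleton_iff.2 (by
        rw [← hgv, hz']
        calc g * z * g⁻¹ * (g * w * g⁻¹) = g * (z * w) * g⁻¹ := by group
          _ = g * w * g⁻¹ * (g * z * g⁻¹) := by rw [← hzc w w.2]; group)
      obtain ⟨QC, hQC⟩ := ((IsPGroup.of_card (n := 1) (by rw [Nat.card_zpowers, hz, pow_one]) :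
        IsPGroup 3 (zpowers z)).comap_of_injective C.subtype C.subtype_injective).exists_le_sylow
      set Q := (QC : Subgroup C).map C.subtype with hQ
      have hzQ : z ∈ Q := ⟨⟨z, hzC⟩, hQC (mem_zpowers z), rfl⟩
      have hQmax : ∀ Q' : Subgroup G, IsPGroup 3 Q' → Q ≤ Q' → Q' ≤ C → Q' = Q := by
        intro Q' hQ' hle hQ'C
        refine le_antisymm ?_ hle
        have h2 := QC.is_maximal' (hQ'.comap_of_injective C.subtype C.subtype_injective)
          (fun p hp => hle ⟨p, hp, rfl⟩)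
        intro p hp
        exact ⟨⟨p, hQ'C hp⟩, h2 ▸ hp, rfl⟩
      obtain ⟨c, hc, hcQ⟩ := exists_conj_mem_elem (QC.isPGroup'.map _) (map_subtype_le _) hQmax
        ⟨1, by rw [hz'3, pow_one]⟩ hz'C
      obtain ⟨P₁, hQP₁⟩ := (QC.isPGroup'.map C.subtype : IsPGroup 3 Q).exists_le_sylow
      obtain ⟨y, hy⟩ := exists_smul_eq G P₁ P
      have hyP : ∀ t ∈ (P₁ : Subgroup G), y * t * y⁻¹ ∈ (P : Subgroup G) := fun t ht => by
        rw [← hy]; exact ⟨t, ht, rfl⟩
      have hfixk : ∀ t : G, Nat.card (fixedBy Ω t) = k → t ∈ Q → orderOf t = 3 →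
          fixedBy Ω t = y⁻¹ • A := by
        intro t htk htQ ht3
        have ho : orderOf (y * t * y⁻¹) = 3 :=
          (orderOf_injective (MulAut.conj y).toMonoidHom (MulAut.conj y).injective t).trans ht3
        have hK := h0' _ (hyP t (hQP₁ htQ)) ho (by
          rw [fixedBy_conj, Nat.card_coe_set_eq, Set.ncard_smul_set, ← Nat.card_coe_set_eq, htk])
        have := d.fix_eq hA ⟨1, by rw [ho, pow_one]⟩ (fun h => by simp [h] at ho) hK
        rw [fixedBy_conj] at this
        rw [← this, inv_smul_smul]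
      set g' := c * g with hg'
      have ez : c * z' * c⁻¹ = g' * z * g'⁻¹ := by rw [hz', hg']; group
      have e1 := hfixk z (by rw [hzA, hA]) hzQ hz
      have e2 := hfixk (g' * z * g'⁻¹)
        (by rw [fixedBy_conj, Nat.card_coe_set_eq, Set.ncard_smul_set, ← Nat.card_coe_set_eq, hzA, hA])
        (ez ▸ hcQ) ((orderOf_injective (MulAut.conj g').toMonoidHom (MulAut.conj g').injective z).trans hz)
      rw [fixedBy_conj, hzA, ← e1, hzA] at e2
      have hg'M : g' ∈ stabilizer G A := mem_stabilizer_iff.2 e2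
      have hg'w : g' * (w : G) * g'⁻¹ = v := by
        have hcv : c * (v : G) = v * c := mem_centralizer_singleton_iff.1 hc
        calc g' * (w : G) * g'⁻¹ = c * (g * w * g⁻¹) * c⁻¹ := by rw [hg']; group
          _ = v := by rw [hgv, hcv, mul_inv_cancel_right]
      set gM : stabilizer G A := ⟨g', hg'M⟩
      have hres : res A gM * φ w * (res A gM)⁻¹ = φ v := by
        show res A gM * res A (inclusion hPA w) * (res A gM)⁻¹ = res A (inclusion hPA v)
        rw [← map_mul, ← map_inv, ← map_mul]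
        exact congrArg (res A) (Subtype.ext hg'w)
      have hwne : φ w ≠ 1 := fun h => hwK ((hφK w).1 h)
      rcases eq_pow_of_card_three hr3 ⟨w, rfl⟩ hwne (⟨v, rfl⟩ : φ v ∈ φ.range) with h | h | h
      · exact absurd ((hφK v).1 h) hvK
      · exact h
      · exfalso
        rw [h, mul_inv_eq_iff_eq_mul] at hres
        exact d.no_inverter hA (g := gM) (w := inclusion hPA w) (pgroup_order P.isPGroup' w.2) hwK hres
    let ψ : (P : Subgroup G) →* φ.range := φ.rangeRestrict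
    have hψne : ψ ⟨w₁, hu₁P⟩ ≠ 1 := fun h => hw₁n ((hφK _).1 (congrArg Subtype.val h))
    refine CfsgLib.FocalTransfer.transfer_ne_one ψ
      ((Nat.Prime.coprime_iff_not_dvd Nat.prime_three).2 P.not_dvd_index) hu₁P
      (pgroup_order P.isPGroup' hu₁P) hψne (fun i g₀ h => ?_) (d.ctx.hom_trivial _ _)
    rw [← map_pow]
    refine Subtype.ext ?_
    show φ ⟨_, h⟩ = φ (⟨w₁, hu₁P⟩ ^ i)
    exact hinv g₀⁻¹ _ _ (by rw [SubmonoidClass.coe_pow, inv_inv])
  have hzu : z * u = u * z := (hzc u huP).symm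
  obtain ⟨hD9, hmem⟩ := d.pair_facts hA P.isPGroup' hPA hzP hz hzA huP hu hun hufix hzu
  have hDP : Nat.card ↥((P : Subgroup G) ⊓ centralizer ({u} : Set G)) ≤ Nat.card P :=
    Nat.card_le_card_of_injective _ (inclusion_injective inf_le_left)
  by_cases h9 : Nat.card P = 9
  · refine ⟨P, h9, fun r hr => ?_⟩
    have hrD : r ∈ (P : Subgroup G) ⊓ centralizer ({u} : Set G) := by
      rw [eq_of_le_of_card_ge inf_le_left (by rw [hD9, h9])]; exact hr
    obtain ⟨i, j, -, rfl⟩ := hmem r hr (mem_centralizer_singleton_iff.1 hrD.2)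
    rw [(Commute.pow_pow (hzu.symm : Commute u z) i j).mul_pow, pow_right_comm, pow_three_one hu, one_pow,
      one_mul, pow_right_comm, pow_three_one hz, one_pow]
  exfalso
  have h27 : 9 < Nat.card P := by omega
  -- the second quadruple
  set B := fixedBy Ω u with hB
  have hzB : z ∈ stabilizer G B := mem_stab_of_commute hzu
  have hzn : z ∉ fixingSubgroup G B := fun h => hun (mem_fix.2 (by
    rw [← hzA, d.fix_eq hufix ⟨1, by rw [hz, pow_one]⟩ hz1 h]))
  obtain ⟨P', hP'B, hDP'⟩ := d.step1 hufix hu rfl hz hzB hzn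
    (P.isPGroup'.to_le (inf_le_left : (P : Subgroup G) ⊓ centralizer ({u} : Set G) ≤ _))
    (fun g hg => mem_stab_of_commute (mem_centralizer_singleton_iff.1 hg.2))
  have h27' : 9 < Nat.card P' := by
    rw [Nat.card_congr (P'.equiv P).toEquiv]; exact h27
  obtain ⟨n₁, hn₁z, hn₁u⟩ := d.fusion hA P.isPGroup' hPA h27 hzP hz hzA huP hu hun hufix hzu
  obtain ⟨n₂, hn₂u, hn₂z⟩ := d.fusion hufix P'.isPGroup' hP'B h27'
    (hDP' ⟨huP, mem_centralizer_singleton_iff.2 rfl⟩) hu rfl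
    (hDP' ⟨hzP, mem_centralizer_singleton_iff.2 hzu⟩) hz hzn (by rw [hzA, hA]) hzu.symm
  have hn1z : MulAut.conj n₁ z = z := hn₁z
  have hn1u : MulAut.conj n₁ u = u * z := hn₁u
  have hn2u : MulAut.conj (n₂ * n₂) u = u := by
    rw [map_mul, MulAut.mul_apply, MulAut.conj_apply n₂ u, hn₂u, MulAut.conj_apply, hn₂u]
  have hn2z : MulAut.conj (n₂ * n₂) z = z * u⁻¹ := by
    rw [map_mul, MulAut.mul_apply, MulAut.conj_apply n₂ z, hn₂z, map_mul, MulAut.conj_apply, hn₂z,
      MulAut.conj_apply, hn₂u, mul_assoc, ← pow_two, sq_eq_inv hu]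
  set g := n₁ * (n₂ * n₂) * n₁ with hg
  have huz' : u * z = z * u := hzu.symm
  have hgz : MulAut.conj g z = u⁻¹ := by
    rw [hg, map_mul, map_mul, MulAut.mul_apply, MulAut.mul_apply, hn1z, hn2z, map_mul, map_inv, hn1z, hn1u,
      mul_inv_rev, ← mul_assoc, mul_inv_cancel, one_mul]
  have hgu : MulAut.conj g u = z := by
    rw [hg, map_mul, map_mul, MulAut.mul_apply, MulAut.mul_apply, hn1u, map_mul (MulAut.conj (n₂ * n₂)), hn2u,
      hn2z, map_mul, map_mul, map_inv, hn1z, hn1u, mul_inv_rev, ← mul_assoc z z⁻¹, mul_inv_cancel, one_mul,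
      huz', mul_inv_cancel_right]
  set h := g * g with hh
  have hhz : MulAut.conj h z = z⁻¹ := by rw [hh, map_mul, MulAut.mul_apply, hgz, map_inv, hgu]
  have hhu : MulAut.conj h u = u⁻¹ := by rw [hh, map_mul, MulAut.mul_apply, hgu, hgz]
  have hhA : h ∈ stabilizer G A := by
    have e : fixedBy Ω (MulAut.conj h z) = h • fixedBy Ω z := fixedBy_conj h z
    rw [hhz, fixedBy_inv, hzA] at e
    exact mem_stabilizer_iff.2 e.symm
  refine d.no_inverter hA (g := ⟨h, hhA⟩) (w := ⟨u, hPA huP⟩) ⟨1, by rw [hu, pow_one]⟩ hun ?_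
  rw [← map_inv, ← map_mul, ← map_mul]
  exact congrArg (res A) (Subtype.ext (mul_inv_eq_iff_eq_mul.1 (hhu : h * u * h⁻¹ = u⁻¹)))

end OddData

end CfsgLib.Fixity4
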