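import Cfsg.Agent.Fixity4.Small
import Cfsg.Agent.Fixity4.TwoRank

/-!
A second quadruple of fixed points bounds the sectional rank of a Sylow 2-subgroup.
-/

set_option autoImplicit false
set_option linter.unusedSectionVars false
set_option linter.style.haveILetI false

namespace CfsgLib.Fixity4

open Subgroup MulAction
open scoped Pointwise

variable {G : Type*} [Group G]

theorem elem_subgroupOf {A S : Subgroup G} (hA : Cfsg.IsElementaryAbelian 2 A) :
    Cfsg.IsElementaryAbelian 2 (A.subgroupOf S) :=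
  ⟨⟨⟨fun a b => Subtype.ext (Subtype.ext (elem_comm hA (mem_subgroupOf.1 a.2) (mem_subgroupOf.1 b.2)))⟩⟩,
    fun a ha => Subtype.ext (by rw [SubmonoidClass.coe_pow]; exact hA.2 _ (mem_subgroupOf.1 ha))⟩

theorem card_subgroupOf {A S : Subgroup G} (h : A ≤ S) : Nat.card (A.subgroupOf S) = Nat.card A :=
  Nat.card_congr (subgroupOfEquivOfLe h).toEquiv

theorem elem_of_sub {S : Subgroup G} {E : Subgroup S} (hE : Cfsg.IsElementaryAbelian 2 E) :
    Cfsg.IsElementaryAbelian 2 (E.map S.subtype) := by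
  refine ⟨⟨⟨?_⟩⟩, ?_⟩
  · rintro ⟨_, a, ha, rfl⟩ ⟨_, b, hb, rfl⟩
    have h := congrArg Subtype.val (elem_comm hE ha hb)
    exact Subtype.ext h
  · rintro _ ⟨a, ha, rfl⟩
    rw [← map_pow, hE.2 a ha, map_one]

/-- The product of two commuting disjoint elementary abelian subgroups. -/
theorem prod_elem [Finite G] {A B : Subgroup G} (hA : Cfsg.IsElementaryAbelian 2 A)
    (hB : Cfsg.IsElementaryAbelian 2 B) (hc : ∀ a ∈ A, ∀ b ∈ B, a * b = b * a)
    (hd : ∀ x ∈ A, x ∈ B → x = 1) :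
    ∃ D : Subgroup G, Cfsg.IsElementaryAbelian 2 D ∧ Nat.card D = Nat.card A * Nat.card B ∧
      ∀ x, x ∈ D ↔ ∃ a ∈ A, ∃ b ∈ B, a * b = x := by
  have hmul : ∀ a ∈ A, ∀ b ∈ B, ∀ a' ∈ A, ∀ b' ∈ B, a * b * (a' * b') = a * a' * (b * b') := by
    intro a _ b hb a' ha' b' _
    calc a * b * (a' * b') = a * (b * a') * b' := by group
      _ = a * (a' * b) * b' := by rw [hc a' ha' b hb]
      _ = a * a' * (b * b') := by group
  let D : Subgroup G :=
    { carrier := {x | ∃ a ∈ A, ∃ b ∈ B, a * b = x}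
      one_mem' := ⟨1, A.one_mem, 1, B.one_mem, one_mul 1⟩
      mul_mem' := by
        rintro _ _ ⟨a, ha, b, hb, rfl⟩ ⟨a', ha', b', hb', rfl⟩
        exact ⟨a * a', A.mul_mem ha ha', b * b', B.mul_mem hb hb', (hmul a ha b hb a' ha' b' hb').symm⟩
      inv_mem' := by
        rintro _ ⟨a, ha, b, hb, rfl⟩
        exact ⟨a⁻¹, A.inv_mem ha, b⁻¹, B.inv_mem hb, by
          rw [mul_inv_rev, hc _ (A.inv_mem ha) _ (B.inv_mem hb)]⟩ }
  refine ⟨D, ⟨⟨⟨?_⟩⟩, ?_⟩, ?_, fun x => Iff.rfl⟩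
  · rintro ⟨_, a, ha, b, hb, rfl⟩ ⟨_, a', ha', b', hb', rfl⟩
    refine Subtype.ext ?_
    show a * b * (a' * b') = a' * b' * (a * b)
    rw [hmul a ha b hb a' ha' b' hb', hmul a' ha' b' hb' a ha b hb, elem_comm hA ha ha', elem_comm hB hb hb']
  · rintro _ ⟨a, ha, b, hb, rfl⟩
    rw [pow_two, hmul a ha b hb a ha b hb, elem_sq hA ha, elem_sq hB hb, mul_one]
  · rw [← Nat.card_prod]
    symm
    refine Nat.card_congr (Equiv.ofBijective
      (fun p : A × B => (⟨p.1 * p.2, p.1, p.1.2, p.2, p.2.2, rfl⟩ : D)) ⟨?_, ?_⟩)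
    · rintro ⟨a, b⟩ ⟨a', b'⟩ h
      have h' : (a : G) * b = a' * b' := congrArg Subtype.val h
      have h1 : (a' : G)⁻¹ * a = b' * (b : G)⁻¹ := by
        calc (a' : G)⁻¹ * a = (a' : G)⁻¹ * ((a : G) * b) * (b : G)⁻¹ := by group
          _ = b' * (b : G)⁻¹ := by rw [h']; group
      have h2 := hd _ (A.mul_mem (A.inv_mem a'.2) a.2) (h1 ▸ B.mul_mem b'.2 (B.inv_mem b.2))
      have h3 : (a : G) = a' := (inv_mul_eq_one.1 h2).symm
      refine Prod.ext (Subtype.ext h3) (Subtype.ext ?_)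
      simpa [h3] using h'
    · rintro ⟨_, a, ha, b, hb, rfl⟩
      exact ⟨⟨⟨a, ha⟩, ⟨b, hb⟩⟩, rfl⟩

/-- Commuting exponent-two permutation groups of four points. -/
theorem four_sub {X : Type*} [Finite X] (hX : Nat.card X = 4) (H : Subgroup (Equiv.Perm X))
    (hc : ∀ a ∈ H, ∀ b ∈ H, a * b = b * a) (hs : ∀ a ∈ H, a * a = 1) :
    Nat.card H ≤ 4 ∧ (Nat.card H = 4 → ∀ x, (∀ h ∈ H, h * x = x * h) → x ∈ H) := by
  classical
  let e : X ≃ Fin 4 := (Finite.equivFin X).trans (finCongr hX)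
  let φ := e.permCongrHom
  by_cases h2 : ∃ a ∈ H, a ≠ 1 ∧ ∃ b ∈ H, b ≠ 1 ∧ b ≠ a
  · obtain ⟨a, ha, ha1, b, hb, hb1, hba⟩ := h2
    have key : ∀ x, a * x = x * a → b * x = x * b → x = 1 ∨ x = a ∨ x = b ∨ x = a * b := by
      intro x hax hbx
      have hne : ∀ {u : Equiv.Perm X}, u ≠ 1 → φ u ≠ 1 := fun hu h =>
        hu (φ.injective (h.trans (map_one φ).symm))
      rcases perm4_centralizer (φ a) (by rw [← map_mul, hs a ha, map_one]) (hne ha1)
        (φ b) (by rw [← map_mul, hs b hb, map_one]) (hne hb1) (fun h => hba (φ.injective h))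
        (by rw [← map_mul, ← map_mul, hc a ha b hb]) (φ x) (by rw [← map_mul, ← map_mul, hax])
        (by rw [← map_mul, ← map_mul, hbx]) with h | h | h | h
      · exact Or.inl (φ.injective (h.trans (map_one φ).symm))
      · exact Or.inr (Or.inl (φ.injective h))
      · exact Or.inr (Or.inr (Or.inl (φ.injective h)))
      · exact Or.inr (Or.inr (Or.inr (φ.injective (h.trans (map_mul φ a b).symm))))
    refine ⟨?_, fun _ x hx => ?_⟩
    · rw [← SetLike.coe_sort_coe, Nat.card_coe_set_eq]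
      refine (Set.ncard_le_ncard (t := {1, a, b, a * b}) (fun x hx => ?_) (Set.toFinite _)).trans ?_
      · rcases key x (hc a ha x hx) (hc b hb x hx) with h | h | h | h <;> simp [h]
      · calc ({1, a, b, a * b} : Set (Equiv.Perm X)).ncard
            ≤ ({a, b, a * b} : Set (Equiv.Perm X)).ncard + 1 := Set.ncard_insert_le _ _
          _ ≤ ({b, a * b} : Set (Equiv.Perm X)).ncard + 1 + 1 :=
              Nat.add_le_add_right (Set.ncard_insert_le _ _) 1
          _ ≤ ({a * b} : Set (Equiv.Perm X)).ncard + 1 + 1 + 1 :=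
              Nat.add_le_add_right (Nat.add_le_add_right (Set.ncard_insert_le _ _) 1) 1
          _ = 4 := by rw [Set.ncard_singleton]
    · rcases key x (hx a ha) (hx b hb) with h | h | h | h <;> rw [h]
      exacts [H.one_mem, ha, hb, H.mul_mem ha hb]
  · push Not at h2
    have h : Nat.card H ≤ 2 := by
      rw [← SetLike.coe_sort_coe, Nat.card_coe_set_eq]
      by_cases h1 : ∃ a ∈ H, a ≠ 1
      · obtain ⟨a, ha, ha1⟩ := h1
        refine (Set.ncard_le_ncard (t := {1, a}) (fun x hx => ?_) (Set.toFinite _)).trans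
          ((Set.ncard_insert_le _ _).trans (by rw [Set.ncard_singleton]))
        by_cases hx1 : x = 1
        · simp [hx1]
        · simp [h2 a ha ha1 x hx hx1]
      · push Not at h1
        refine (Set.ncard_le_ncard (t := {1}) (fun x hx => ?_) (Set.toFinite _)).trans (by simp)
        simp [h1 x hx]
    exact ⟨by omega, fun h4 => by omega⟩

variable {Ω : Type*} [MulAction G Ω] [Finite G] [Finite Ω]

/-- A second quadruple `B` of fixed points, stabilised in `S` only inside the stabiliser of `A`. -/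
structure BData (S : Subgroup G) (A B : Set Ω) : Prop where
  ctx : Ctx G Ω
  hA : Nat.card A = 4
  hB : Nat.card B = 4
  ne : B ≠ A
  hS : IsPGroup 2 S
  sub : S ⊓ stabilizer G B ≤ stabilizer G A

namespace BData

variable {S : Subgroup G} {A B : Set Ω}

theorem disj (d : BData S A B) {x : G} (hA : x ∈ fixingSubgroup G A) (hB : x ∈ fixingSubgroup G B) :
    x = 1 := by
  by_contra hx
  exact d.ne ((d.ctx.fix_eq4 d.hB hx hB).symm.trans (d.ctx.fix_eq4 d.hA hx hA))

theorem cent_le (d : BData S A B) {w g : G} (hw : w ∈ fixingSubgroup G B) (hw1 : w ≠ 1) (hg : g ∈ S)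
    (hgw : g * w = w * g) : g ∈ stabilizer G A ∧ g ∈ stabilizer G B := by
  have h := mem_stab_of_commute (Ω := Ω) hgw
  rw [d.ctx.fix_eq4 d.hB hw1 hw] at h
  exact ⟨d.sub ⟨hg, h⟩, h⟩

/-- The part of a centralizer fixing `A` pointwise. -/
def cpart (S : Subgroup G) (A : Set Ω) (w : G) : Subgroup G :=
  S ⊓ centralizer ({w} : Set G) ⊓ fixingSubgroup G A

theorem mem_cpart {w x : G} :
    x ∈ cpart (Ω := Ω) S A w ↔ (x ∈ S ∧ x * w = w * x) ∧ x ∈ fixingSubgroup G A := by
  simp [cpart, mem_centralizer_singleton_iff]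

theorem cpart_free (d : BData S A B) {w : G} (hw : w ∈ fixingSubgroup G B) (hw1 : w ≠ 1) :
    (∀ x ∈ cpart S A w, ∀ b ∈ B \ A, x • b ∈ B \ A) ∧
      (∀ x ∈ cpart S A w, ∀ b ∈ B \ A, x • b = b → x = 1) := by
  refine ⟨fun x hx b hb => ?_, fun x hx b hb hxb => ?_⟩
  · obtain ⟨⟨hxS, hxw⟩, hxA⟩ := mem_cpart.1 hx
    refine ⟨smul_mem_of_stab (d.cent_le hw hw1 hxS hxw).2 hb.1, fun h => hb.2 ?_⟩
    have := smul_mem_of_stab ((stabilizer G A).inv_mem (fixing_le_stab A hxA)) h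
    rwa [inv_smul_smul] at this
  · by_contra hx1
    exact hb.2 (d.ctx.fix_eq4 d.hA hx1 (mem_cpart.1 hx).2 ▸ hxb)

theorem outside (d : BData S A B) : (B \ A).Nonempty := by
  by_contra h
  rw [Set.not_nonempty_iff_eq_empty, Set.sdiff_eq_empty] at h
  exact d.ne (Set.eq_of_subset_of_ncard_le h (by
    rw [← Nat.card_coe_set_eq, ← Nat.card_coe_set_eq, d.hA, d.hB]) (Set.toFinite _))

theorem cpart_le_four (d : BData S A B) {w : G} (hw : w ∈ fixingSubgroup G B) (hw1 : w ≠ 1) :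
    Nat.card (cpart S A w) ≤ Nat.card ↥(B \ A) ∧ Nat.card (cpart S A w) ≤ 4 := by
  obtain ⟨b, hb⟩ := d.outside
  have h := card_le_of_semiregular (d.cpart_free hw hw1).1 (d.cpart_free hw hw1).2 hb
  refine ⟨h, h.trans ?_⟩
  rw [← d.hB, Nat.card_coe_set_eq, Nat.card_coe_set_eq]
  exact Set.ncard_le_ncard Set.sdiff_subset (Set.toFinite _)

/-- The part of `S` fixing `B` pointwise. -/
def wpart (S : Subgroup G) (A B : Set Ω) : Subgroup G := S ⊓ stabilizer G A ⊓ fixingSubgroup G B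

/-- Some point of `A` is fixed: the centralizer has order at most eight. -/
theorem case_meet (d : BData S A B) (hmeet : (A ∩ B).Nonempty) {y : G} (hy : y ∈ wpart S A B)
    (hy2 : orderOf y = 2) : Cfsg.SectionalPRankLE 2 4 S := by
  have hy1 := CfsgLib.Invol.ne_one hy2
  have hfix := d.ctx.fix_eq4 d.hB hy1 hy.2
  have hmoved := two_dvd_moved (A := A) (CfsgLib.Invol.mul_self_eq_one hy2) hy.1.2
  rw [hfix] at hmoved
  have hsum : Nat.card ↥(A ∩ B) + Nat.card ↥(A \ B) = 4 := by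
    rw [← d.hA, Nat.card_coe_set_eq, Nat.card_coe_set_eq, Nat.card_coe_set_eq,
      Set.ncard_inter_add_ncard_sdiff_eq_ncard A B]
  have hpos : 0 < Nat.card ↥(A ∩ B) := Nat.card_pos_iff.2 ⟨hmeet.to_subtype, inferInstance⟩
  have hlt : 0 < Nat.card ↥(A \ B) := by
    refine Nat.card_pos_iff.2 ⟨Set.Nonempty.to_subtype ?_, inferInstance⟩
    by_contra h
    rw [Set.not_nonempty_iff_eq_empty, Set.sdiff_eq_empty] at h
    exact d.ne (Set.eq_of_subset_of_ncard_le h (by
      rw [← Nat.card_coe_set_eq, ← Nat.card_coe_set_eq, d.hA, d.hB]) (Set.toFinite _)).symm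
  rw [d.hA] at hmoved
  have hBA : Nat.card ↥(B \ A) = 2 := by
    have hs : Nat.card ↥(B ∩ A) + Nat.card ↥(B \ A) = 4 := by
      rw [← d.hB, Nat.card_coe_set_eq, Nat.card_coe_set_eq, Nat.card_coe_set_eq,
        Set.ncard_inter_add_ncard_sdiff_eq_ncard B A]
    rw [Set.inter_comm] at hs
    omega
  set H : Subgroup G := S ⊓ centralizer ({y} : Set G) with hH
  have hHp : IsPGroup 2 H := d.hS.to_le inf_le_left
  have hHA : H ≤ stabilizer G A := fun g hg =>
    (d.cent_le hy.2 hy1 hg.1 (mem_centralizer_singleton_iff.1 hg.2)).1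
  have hHB : ∀ g ∈ H, g ∈ stabilizer G B := fun g hg =>
    (d.cent_le hy.2 hy1 hg.1 (mem_centralizer_singleton_iff.1 hg.2)).2
  have hinter : H ≤ stabilizer G (A ∩ B) := fun g hg => by
    rw [mem_stabilizer_iff, Set.smul_set_inter, mem_stabilizer_iff.1 (hHA hg), mem_stabilizer_iff.1 (hHB g hg)]
  have hdiff : H ≤ stabilizer G (A \ B) := fun g hg => by
    rw [mem_stabilizer_iff, Set.smul_set_sdiff, mem_stabilizer_iff.1 (hHA hg), mem_stabilizer_iff.1 (hHB g hg)]
  have hH8 : Nat.card H ≤ 8 := by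
    rw [card_eq_ker_mul hinter]
    refine (Nat.mul_le_mul ?_ (img_le_two (by omega) _ hHp)).trans (le_refl (4 * 2))
    rw [card_eq_ker_mul ((inf_le_left : H ⊓ fixingSubgroup G (A ∩ B) ≤ H).trans hdiff)]
    refine (Nat.mul_le_mul ?_ (img_le_two (by omega) _ (hHp.to_le inf_le_left))).trans (le_refl (2 * 2))
    refine le_trans (Nat.card_le_card_of_injective _ (inclusion_injective ?_))
      (((d.cpart_le_four hy.2 hy1).1).trans_eq hBA)
    intro g hg
    refine mem_cpart.2 ⟨⟨hg.1.1.1, mem_centralizer_singleton_iff.1 hg.1.1.2⟩, mem_fix.2 fun a ha => ?_⟩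
    by_cases hab : a ∈ B
    · exact mem_fix.1 hg.1.2 ⟨ha, hab⟩
    · exact mem_fix.1 hg.2 ⟨ha, hab⟩
  refine rank_of_invol d.hS ⟨y, hy.1.1⟩ (by rw [Subgroup.orderOf_mk, hy2]) fun E hE h8 hyE => ?_
  intro g hg
  have hle : E.map S.subtype ≤ H := by
    rintro _ ⟨e, he, rfl⟩
    exact ⟨e.2, mem_centralizer_singleton_iff.2 (congrArg Subtype.val (elem_comm hE he hyE))⟩
  have hgH : (g : G) ∈ H := ⟨g.2, mem_centralizer_singleton_iff.2
    (congrArg Subtype.val (mem_centralizer_iff.1 hg _ hyE).symm)⟩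
  rw [← eq_of_le_of_card_ge hle (by rw [card_map_of_injective S.subtype_injective, h8]; exact hH8)] at hgH
  obtain ⟨e, he, hge⟩ := hgH
  rwa [Subtype.ext (hge : (e : G) = g)] at he

/-- The elements fixing `B` act semiregularly on a disjoint `A`. -/
theorem wpart_card (d : BData S A B) (hdisj : A ∩ B = ∅) : Nat.card (wpart S A B) ≤ 4 := by
  obtain ⟨a, ha⟩ : A.Nonempty := nonempty_of_card (by rw [d.hA]; norm_num)
  rw [← d.hA]
  refine card_le_of_semiregular (fun h hh a ha => smul_mem_of_stab hh.1.2 ha) (fun h hh a ha hfx => ?_) ha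
  by_contra h1
  have : a ∈ A ∩ B := ⟨ha, d.ctx.fix_eq4 d.hB h1 hh.2 ▸ hfx⟩
  rw [hdisj] at this
  exact this

/-- An element commuting with a regular `C` lies in `C` times the kernel of `B`. -/
theorem decomp (d : BData S A B) (hdisj : A ∩ B = ∅) {w g : G} (hw : w ∈ fixingSubgroup G B) (hw1 : w ≠ 1)
    (hC : Nat.card (cpart S A w) = 4) (hg : g ∈ S) (hgw : g * w = w * g)
    (hcomm : ∀ c ∈ cpart S A w, g * c = c * g) :
    ∃ c ∈ cpart S A w, c⁻¹ * g ∈ wpart S A B := by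
  haveI : Fact (Nat.Prime 2) := ⟨Nat.prime_two⟩
  have hBA : B \ A = B := sdiff_eq_self_iff_disjoint.2 (by
    rw [Set.disjoint_iff_inter_eq_empty]; exact hdisj)
  obtain ⟨hmaps, hfree⟩ := d.cpart_free hw hw1
  rw [hBA] at hmaps hfree
  obtain ⟨b, hb⟩ : B.Nonempty := nonempty_of_card (by rw [d.hB]; norm_num)
  have hgs := d.cent_le hw hw1 hg hgw
  have htrans : ∀ b' ∈ B, ∃ c ∈ cpart S A w, c • b = b' := fun b' hb' =>
    exists_smul_of_regular hmaps hfree (by rw [hC, d.hB]) hb hb'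
  obtain ⟨c, hc, hcb⟩ := htrans (g • b) (smul_mem_of_stab hgs.2 hb)
  obtain ⟨⟨hcS, hcw⟩, hcA⟩ := mem_cpart.1 hc
  haveI : IsMulCommutative (cpart S A w) := IsPGroup.isMulCommutative_of_card_eq_prime_sq (p := 2) (by rw [hC]; norm_num)
  refine ⟨c, hc, ⟨⟨S.mul_mem (S.inv_mem hcS) hg,
    (stabilizer G A).mul_mem ((stabilizer G A).inv_mem (fixing_le_stab A hcA)) hgs.1⟩, mem_fix.2 fun b' hb' => ?_⟩⟩
  obtain ⟨c', hc', rfl⟩ := htrans b' hb'
  have hcc : c⁻¹ * g * c' = c' * (c⁻¹ * g) := by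
    have h2 : c⁻¹ * c' = c' * c⁻¹ := congrArg Subtype.val
      (mul_comm' (⟨c, hc⟩ : cpart S A w)⁻¹ (⟨c', hc'⟩ : cpart S A w))
    calc c⁻¹ * g * c' = c⁻¹ * (g * c') := by group
      _ = c⁻¹ * c' * g := by rw [hcomm c' hc']; group
      _ = c' * (c⁻¹ * g) := by rw [h2]; group
  show (c⁻¹ * g) • c' • b = c' • b
  rw [← mul_smul, hcc, mul_smul, mul_smul, ← hcb, inv_smul_smul]

/-- Where the self-centralizing condition fails. -/
theorem fail (d : BData S A B) (hdisj : A ∩ B = ∅) {y : G} (hy : y ∈ wpart S A B) (hy2 : orderOf y = 2)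
    (E : Subgroup S) (hE : Cfsg.IsElementaryAbelian 2 E) (h8 : Nat.card E = 8)
    (hyE : ⟨y, hy.1.1⟩ ∈ E) (hbig : ¬ centralizer (E : Set S) ≤ E) :
    Nat.card (cpart S A y) = 4 ∧ Nat.card (wpart S A B) = 4 ∧
      ((∀ c ∈ cpart S A y, c * c = 1) ∨ ∀ w ∈ wpart S A B, w * w = 1) := by
  haveI : Fact (Nat.Prime 2) := ⟨Nat.prime_two⟩
  have hy1 := CfsgLib.Invol.ne_one hy2
  obtain ⟨g₀, hg₀, hg₀E⟩ := SetLike.not_le_iff_exists.1 hbig
  set E' := E.map S.subtype with hE'def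
  have hE' := elem_of_sub hE
  rw [← hE'def] at hE'
  have hE'8 : Nat.card E' = 8 := by rw [hE'def, card_map_of_injective S.subtype_injective, h8]
  have hE'S : E' ≤ S := map_subtype_le E
  have hyE' : y ∈ E' := ⟨_, hyE, rfl⟩
  set g : G := (g₀ : G) with hgdef
  have hgE : g ∉ E' := by
    rintro ⟨e, he, heq⟩
    exact hg₀E ((Subtype.ext heq : e = g₀) ▸ he)
  have hgc : ∀ e ∈ E', g * e = e * g := by
    rintro _ ⟨e, he, rfl⟩
    exact (congrArg Subtype.val (mem_centralizer_iff.1 hg₀ e he)).symm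
  have hgy : g * y = y * g := hgc y hyE'
  have hE'A : E' ≤ stabilizer G A := fun e he =>
    (d.cent_le hy.2 hy1 (hE'S he) (elem_comm hE' he hyE')).1
  have hgA : g ∈ stabilizer G A := (d.cent_le hy.2 hy1 g₀.2 hgy).1
  set C := cpart (Ω := Ω) S A y with hCdef
  have hEK : E' ⊓ fixingSubgroup G A ≤ C := fun e he =>
    mem_cpart.2 ⟨⟨hE'S he.1, elem_comm hE' he.1 hyE'⟩, he.2⟩
  have hC4 : Nat.card C ≤ 4 := (d.cpart_le_four hy.2 hy1).2
  have hW4 : Nat.card (wpart S A B) ≤ 4 := d.wpart_card hdisj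
  set φ := (res A).comp (inclusion hE'A) with hφ
  have hcm : ∀ a ∈ φ.range, ∀ b ∈ φ.range, a * b = b * a := by
    rintro _ ⟨a, rfl⟩ _ ⟨b, rfl⟩
    rw [← map_mul, ← map_mul]
    exact congrArg φ (Subtype.ext (elem_comm hE' a.2 b.2))
  have hsq : ∀ a ∈ φ.range, a * a = 1 := by
    rintro _ ⟨a, rfl⟩
    rw [← map_mul, (Subtype.ext (elem_sq hE' a.2) : a * a = 1), map_one]
  obtain ⟨himg, hself⟩ := four_sub d.hA φ.range hcm hsq
  have hk := card_eq_ker_mul hE'A
  rw [hE'8] at hk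
  have hCp : IsPGroup 2 C := d.hS.to_le (inf_le_left.trans inf_le_left)
  have hpow : ∀ H : Subgroup G, IsPGroup 2 H → 2 < Nat.card H → Nat.card H ≤ 4 → Nat.card H = 4 := by
    intro H hH h1 h2
    obtain ⟨k, hk⟩ := hH.exists_card_eq
    rcases k with _ | _ | _ | k
    · omega
    · omega
    · omega
    · rw [hk, pow_succ, pow_succ, pow_succ] at h2
      have := Nat.two_pow_pos k
      omega
  have hker4 : Nat.card ↥(E' ⊓ fixingSubgroup G A) ≤ 4 :=
    (Nat.card_le_card_of_injective _ (inclusion_injective hEK)).trans hC4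
  have hcases : Nat.card φ.range = 2 ∧ Nat.card ↥(E' ⊓ fixingSubgroup G A) = 4 ∨
      Nat.card φ.range = 4 ∧ Nat.card ↥(E' ⊓ fixingSubgroup G A) = 2 := by
    rw [← hφ] at hk
    generalize Nat.card φ.range = r at hk himg
    generalize Nat.card ↥(E' ⊓ fixingSubgroup G A) = k at hk hker4
    interval_cases r <;> omega
  rcases hcases with ⟨-, hk4⟩ | ⟨hr4, hk2⟩
  · -- the kernel is all of `C`
    have hCE : E' ⊓ fixingSubgroup G A = C := eq_of_le_of_card_ge hEK (hC4.trans_eq hk4.symm)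
    have hC : Nat.card C = 4 := hCE ▸ hk4
    have hCE' : C ≤ E' := hCE ▸ inf_le_left
    obtain ⟨c, hc, hcg⟩ := d.decomp hdisj hy.2 hy1 hC g₀.2 hgy fun c hc => hgc c (hCE' hc)
    refine ⟨hC, hpow _ (d.hS.to_le (inf_le_left.trans inf_le_left)) ?_ hW4,
      Or.inl fun a ha => elem_sq hE' (hCE' ha)⟩
    have hsub : ({1, y, c⁻¹ * g} : Set G) ⊆ wpart S A B := by
      rintro x (rfl | rfl | rfl)
      exacts [one_mem _, hy, hcg]
    have h1 : c⁻¹ * g ≠ 1 := fun h => hgE (by rw [← inv_mul_eq_one.1 h]; exact hCE' hc)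
    have h2 : y ≠ c⁻¹ * g := fun h => hgE (by
      have : g = c * y := by rw [h]; group
      rw [this]; exact E'.mul_mem (hCE' hc) hyE')
    have := Set.ncard_le_ncard hsub (Set.toFinite _)
    rw [Set.ncard_eq_three.2 ⟨1, y, c⁻¹ * g, hy1.symm, h1.symm, h2, rfl⟩, ← Nat.card_coe_set_eq] at this
    exact this
  · -- the image is a self-centralizing four group
    obtain ⟨⟨e, he⟩, hge⟩ : ∃ e : E', φ e = res A ⟨g, hgA⟩ := hself hr4 _ (by
      rintro _ ⟨e, rfl⟩
      show res A (inclusion hE'A e) * _ = _ * res A (inclusion hE'A e)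
      rw [← map_mul, ← map_mul]
      exact congrArg (res A) (Subtype.ext (hgc e e.2).symm))
    have hcK : e⁻¹ * g ∈ fixingSubgroup G A := by
      have h : res A ((inclusion hE'A ⟨e, he⟩)⁻¹ * ⟨g, hgA⟩) = 1 := by
        rw [map_mul, map_inv, ← hge]
        exact inv_mul_cancel _
      exact res_eq_one.1 h
    have hec : ∀ x ∈ E', (e⁻¹ * g) * x = x * (e⁻¹ * g) := fun x hx => by
      calc e⁻¹ * g * x = e⁻¹ * (g * x) := by group
        _ = (e⁻¹ * x) * g := by rw [hgc x hx]; group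
        _ = x * (e⁻¹ * g) := by rw [elem_comm hE' (E'.inv_mem he) hx]; group
    have hcC : e⁻¹ * g ∈ C := mem_cpart.2 ⟨⟨S.mul_mem (S.inv_mem (hE'S he)) g₀.2, hec y hyE'⟩, hcK⟩
    have hcE : e⁻¹ * g ∉ E' := fun h => hgE (by simpa using E'.mul_mem he h)
    set X := C ⊓ centralizer (E' : Set G) with hX
    have hX3 : E' ⊓ fixingSubgroup G A < X := by
      refine lt_of_le_of_ne (le_inf hEK fun x hx => mem_centralizer_iff.2 fun z hz =>
        elem_comm hE' hz hx.1) fun h => hcE ?_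
      have : e⁻¹ * g ∈ X := ⟨hcC, mem_centralizer_iff.2 fun z hz => (hec z hz).symm⟩
      exact (h ▸ this : e⁻¹ * g ∈ E' ⊓ fixingSubgroup G A).1
    have hX4 : Nat.card X = 4 := by
      refine hpow _ (hCp.to_le inf_le_left) ?_
        ((Nat.card_le_card_of_injective _ (inclusion_injective inf_le_left)).trans hC4)
      rw [← hk2, ← SetLike.coe_sort_coe, ← SetLike.coe_sort_coe (X), Nat.card_coe_set_eq, Nat.card_coe_set_eq]
      exact Set.ncard_lt_ncard (SetLike.coe_ssubset_coe.2 hX3) (Set.toFinite _)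
    have hXC : X = C := eq_of_le_of_card_ge inf_le_left (hC4.trans_eq hX4.symm)
    have hC : Nat.card C = 4 := hXC ▸ hX4
    have hdec : ∀ x ∈ E', ∃ c ∈ C, c⁻¹ * x ∈ wpart S A B := fun x hx =>
      d.decomp hdisj hy.2 hy1 hC (hE'S hx) (elem_comm hE' hx hyE') fun c hc =>
        mem_centralizer_iff.1 (hXC.symm ▸ hc : c ∈ X).2 x hx
    have hWA : wpart S A B ≤ stabilizer G A := inf_le_left.trans inf_le_right
    set ψ := (res A).comp (inclusion hWA)
    have hψ : Function.Injective ψ := by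
      rw [← MonoidHom.ker_eq_bot_iff, eq_bot_iff]
      intro x hx
      exact mem_bot.2 (Subtype.ext (d.disj (res_eq_one.1 hx) x.2.2))
    have hle : φ.range ≤ ψ.range := by
      rintro _ ⟨x, rfl⟩
      obtain ⟨c, hc, hcx⟩ := hdec x x.2
      refine ⟨⟨_, hcx⟩, ?_⟩
      have hc1 : res A ⟨c, fixing_le_stab A (mem_cpart.1 hc).2⟩ = 1 := res_eq_one.2 (mem_cpart.1 hc).2
      show res A (inclusion hWA ⟨_, hcx⟩) = res A (inclusion hE'A x)
      rw [show inclusion hWA ⟨_, hcx⟩ = (⟨c, fixing_le_stab A (mem_cpart.1 hc).2⟩ : stabilizer G A)⁻¹ *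
        inclusion hE'A x from rfl, map_mul, map_inv, hc1, inv_one, one_mul]
    have hψc : Nat.card ψ.range = Nat.card (wpart S A B) :=
      (Nat.card_congr (MonoidHom.ofInjective hψ).toEquiv).symm
    have hW : Nat.card (wpart S A B) = 4 := by
      refine le_antisymm hW4 ?_
      rw [← hψc, ← hr4]
      exact Nat.card_le_card_of_injective _ (inclusion_injective hle)
    refine ⟨hC, hW, Or.inr fun w hw => ?_⟩
    have heq := eq_of_le_of_card_ge hle (by rw [hψc, hW, hr4])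
    have := hsq (ψ ⟨w, hw⟩) (heq ▸ ⟨_, rfl⟩)
    rw [← map_mul, ← map_one ψ] at this
    exact congrArg Subtype.val (hψ this)

/-- An elementary centralizer part and kernel part of order four. -/
theorem both (d : BData S A B) (hdisj : A ∩ B = ∅) {y : G} (hy : y ∈ wpart S A B) (hy2 : orderOf y = 2)
    (hC : Nat.card (cpart S A y) = 4) (hW : Nat.card (wpart S A B) = 4)
    (hcomm : ∀ c ∈ cpart S A y, ∀ w ∈ wpart S A B, c * w = w * c)
    (hcw : ∀ w ∈ wpart S A B, w ≠ 1 → cpart S A w = cpart S A y)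
    (hCe : ∀ c ∈ cpart S A y, c * c = 1) (hWe : ∀ w ∈ wpart S A B, w * w = 1) :
    Cfsg.SectionalPRankLE 2 4 S := by
  haveI : Fact (Nat.Prime 2) := ⟨Nat.prime_two⟩
  have hy1 := CfsgLib.Invol.ne_one hy2
  set C := cpart (Ω := Ω) S A y with hCdef
  set W := wpart (Ω := Ω) S A B with hWdef
  haveI : IsMulCommutative C := IsPGroup.isMulCommutative_of_card_eq_prime_sq (p := 2) (by rw [hC]; norm_num)
  haveI : IsMulCommutative W := IsPGroup.isMulCommutative_of_card_eq_prime_sq (p := 2) (by rw [hW]; norm_num)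
  have hCel : Cfsg.IsElementaryAbelian 2 C := ⟨inferInstance, fun a ha => by rw [pow_two]; exact hCe a ha⟩
  have hWel : Cfsg.IsElementaryAbelian 2 W := ⟨inferInstance, fun a ha => by rw [pow_two]; exact hWe a ha⟩
  have hCW : ∀ x ∈ C, x ∈ W → x = 1 := fun x hx hx' => d.disj (mem_cpart.1 hx).2 hx'.2
  obtain ⟨D, hD, hD16, hmem⟩ := prod_elem hCel hWel hcomm hCW
  rw [hC, hW] at hD16
  norm_num at hD16
  have hCD : C ≤ D := fun x hx => (hmem x).2 ⟨x, hx, 1, W.one_mem, mul_one x⟩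
  have hWD : W ≤ D := fun x hx => (hmem x).2 ⟨1, C.one_mem, x, hx, one_mul x⟩
  have hWS : W ≤ S := inf_le_left.trans inf_le_left
  have hDS : D ≤ S := by
    intro x hx
    obtain ⟨a, ha, b, hb, rfl⟩ := (hmem x).1 hx
    exact S.mul_mem (mem_cpart.1 ha).1.1 (hWS hb)
  have hWA : W ≤ stabilizer G A := inf_le_left.trans inf_le_right
  -- an element of a centralizer outside `D`
  by_cases hbig : ∃ w ∈ W, w ≠ 1 ∧ ∃ r ∈ S, r * w = w * r ∧ r ∉ D
  · obtain ⟨w, hw, hw1, r, hr, hrw, hrD⟩ := hbig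
    set H := S ⊓ centralizer ({w} : Set G) with hHdef
    have hHA : H ≤ stabilizer G A := fun g hg =>
      (d.cent_le hw.2 hw1 hg.1 (mem_centralizer_singleton_iff.1 hg.2)).1
    have hDH : D ≤ H := le_inf hDS fun x hx =>
      mem_centralizer_singleton_iff.2 (elem_comm hD hx (hWD hw))
    have hH32 : Nat.card H = 32 := by
      have hle : Nat.card H ≤ 32 := by
        rw [card_eq_ker_mul hHA]
        refine (Nat.mul_le_mul ?_ (img_le_eight d.hA _ (d.hS.to_le inf_le_left))).trans (le_refl (4 * 8))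
        exact (d.cpart_le_four hw.2 hw1).2
      have hrH : r ∈ H := ⟨hr, mem_centralizer_singleton_iff.2 hrw⟩
      have hlt : 16 < Nat.card H := by
        refine lt_of_le_of_ne (hD16 ▸ Nat.card_le_card_of_injective _ (inclusion_injective hDH)) fun h => hrD ?_
        rw [eq_of_le_of_card_ge hDH (by rw [← h, hD16])]
        exact hrH
      obtain ⟨k, hk⟩ := (d.hS.to_le (inf_le_left : H ≤ S)).exists_card_eq
      rw [hk] at hle hlt ⊢
      have h5 : k = 5 := by
        rcases lt_trichotomy k 5 with h | h | h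
        · exact absurd ((Nat.pow_le_pow_right two_pos (Nat.lt_succ_iff.1 h)).trans (by norm_num)) (not_le.2 hlt)
        · exact h
        · exact absurd ((Nat.pow_le_pow_right two_pos h).trans hle) (by norm_num)
      rw [h5]; norm_num
    have hrs := d.cent_le hw.2 hw1 hr hrw
    have hrH : r ∈ H := ⟨hr, mem_centralizer_singleton_iff.2 hrw⟩
    have hWn : ∀ v ∈ W, r * v * r⁻¹ ∈ W := fun v hv =>
      ⟨⟨S.mul_mem (S.mul_mem hr hv.1.1) (S.inv_mem hr),
        (stabilizer G A).mul_mem ((stabilizer G A).mul_mem hrs.1 hv.1.2) ((stabilizer G A).inv_mem hrs.1)⟩,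
        conj_mem_fix_of_stab hrs.2 hv.2⟩
    have hCn : ∀ v ∈ C, r * v * r⁻¹ ∈ C := by
      intro v hv
      rw [← hcw w hw hw1] at hv ⊢
      obtain ⟨⟨hvS, hvw⟩, hvA⟩ := mem_cpart.1 hv
      refine mem_cpart.2 ⟨⟨S.mul_mem (S.mul_mem hr hvS) (S.inv_mem hr), ?_⟩, conj_mem_fix_of_stab hrs.1 hvA⟩
      calc r * v * r⁻¹ * w = r * (v * (r⁻¹ * w * r)) * r⁻¹ := by group
        _ = r * (v * w) * r⁻¹ := by rw [show r⁻¹ * w * r = w by rw [mul_assoc, ← hrw]; group]
        _ = r * w * v * r⁻¹ := by rw [hvw]; group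
        _ = w * (r * v * r⁻¹) := by rw [hrw]; group
    have hr2 : r * r ∈ D := by
      have hidx : (D.subgroupOf H).index = 2 := by
        have e := (D.subgroupOf H).card_mul_index
        rw [card_subgroupOf hDH, hD16, hH32] at e
        omega
      have := sq_mem_of_index_two hidx ⟨r, hrH⟩
      rwa [mem_subgroupOf, SubmonoidClass.coe_pow, pow_two] at this
    have hCs : ∀ V : Subgroup G, Cfsg.IsElementaryAbelian 2 V → Nat.card V = 4 → V ≤ D →
        (∀ v ∈ V, r * v * r⁻¹ ∈ V) → (¬ ∀ v ∈ V, r * v = v * r) →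
        Nat.card ↥(V ⊓ centralizer ({r} : Set G)) = 2 := by
      intro V hV hV4 hVD hVn hne
      have h1 := card_le_cent_sq hV (x := r) hVn fun v hv => elem_comm hD hr2 (hVD hv)
      set Z := V ⊓ centralizer ({r} : Set G)
      have h2 : Nat.card Z ∣ Nat.card V := card_dvd_of_le inf_le_left
      rw [hV4] at h1 h2
      have h3 : Nat.card Z ≠ 4 := fun h => hne fun v hv => by
        have := (eq_of_le_of_card_ge (inf_le_left : Z ≤ V) (by rw [h, hV4])).symm ▸ hv
        exact (mem_centralizer_singleton_iff.1 (this : v ∈ Z).2).symm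
      have := Nat.le_of_dvd (by norm_num) h2
      interval_cases Nat.card Z <;> omega
    have hCne : ¬ ∀ v ∈ C, r * v = v * r := by
      intro h
      obtain ⟨c, hc, hcr⟩ := d.decomp hdisj hw.2 hw1 (by rw [hcw w hw hw1]; exact hC) hr hrw
        (by rw [hcw w hw hw1]; exact h)
      rw [hcw w hw hw1] at hc
      refine hrD ((hmem r).2 ⟨c, hc, _, hcr, by group⟩)
    have hWne : ¬ ∀ v ∈ W, r * v = v * r := by
      intro h
      set ψ := (res A).comp (inclusion hWA)
      have hψ : Function.Injective ψ := by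
        rw [← MonoidHom.ker_eq_bot_iff, eq_bot_iff]
        intro x hx
        exact mem_bot.2 (Subtype.ext (d.disj (res_eq_one.1 hx) x.2.2))
      have hψ4 : Nat.card ψ.range = 4 :=
        (Nat.card_congr (MonoidHom.ofInjective hψ).toEquiv).symm.trans hW
      obtain ⟨-, hself⟩ := four_sub d.hA ψ.range
        (by rintro _ ⟨a, rfl⟩ _ ⟨b, rfl⟩; rw [← map_mul, ← map_mul, mul_comm'])
        (by
          rintro _ ⟨a, rfl⟩
          rw [← map_mul, (Subtype.ext (hWe a a.2) : a * a = 1), map_one])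
      obtain ⟨v, hv⟩ := hself hψ4 (res A ⟨r, hrs.1⟩) (by
        rintro _ ⟨a, rfl⟩
        show res A (inclusion hWA a) * _ = _ * res A (inclusion hWA a)
        rw [← map_mul, ← map_mul]
        exact congrArg (res A) (Subtype.ext (h a a.2).symm))
      have hK : r * (v : G)⁻¹ ∈ fixingSubgroup G A := by
        have h' : res A (⟨r, hrs.1⟩ * (inclusion hWA v)⁻¹) = 1 := by
          rw [map_mul, map_inv, ← hv]
          exact mul_inv_cancel _
        exact res_eq_one.1 h'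
      have hcom : r * (v : G)⁻¹ * w = w * (r * (v : G)⁻¹) := by
        have h3 : (v : G)⁻¹ * w = w * (v : G)⁻¹ := congrArg Subtype.val (mul_comm' v⁻¹ (⟨w, hw⟩ : W))
        rw [mul_assoc, h3, ← mul_assoc, hrw, mul_assoc]
      have hc : r * (v : G)⁻¹ ∈ cpart S A w := mem_cpart.2 ⟨⟨S.mul_mem hr (S.inv_mem (hWS v.2)), hcom⟩, hK⟩
      rw [hcw w hw hw1] at hc
      exact hrD ((hmem r).2 ⟨_, hc, v, v.2, by group⟩)
    have hfix : Nat.card ↥(D ⊓ centralizer ({r} : Set G)) = 4 := by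
      have e1 := hCs C hCel hC hCD hCn hCne
      have e2 := hCs W hWel hW hWD hWn hWne
      set CC := C ⊓ centralizer ({r} : Set G)
      set WW := W ⊓ centralizer ({r} : Set G)
      obtain ⟨D', -, hD'4, hmem'⟩ := prod_elem (A := CC) (B := WW)
        (elem_le hCel inf_le_left) (elem_le hWel inf_le_left) (fun a ha b hb => hcomm a ha.1 b hb.1)
        (fun x hx hx' => hCW x hx.1 hx'.1)
      have : D ⊓ centralizer ({r} : Set G) = D' := by
        ext x
        refine ⟨fun hx => ?_, fun hx => ?_⟩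
        · obtain ⟨a, ha, b, hb, rfl⟩ := (hmem x).1 hx.1
          have hab : r * (a * b) * r⁻¹ = a * b := by
            rw [← mem_centralizer_singleton_iff.1 hx.2]; group
          have hq : (r * a * r⁻¹)⁻¹ * a = r * b * r⁻¹ * b⁻¹ := by
            calc (r * a * r⁻¹)⁻¹ * a = (r * a * r⁻¹)⁻¹ * (r * (a * b) * r⁻¹) * b⁻¹ := by rw [hab]; group
              _ = r * b * r⁻¹ * b⁻¹ := by group
          have h1 := hCW _ (C.mul_mem (C.inv_mem (hCn a ha)) ha)
            (hq ▸ W.mul_mem (hWn b hb) (W.inv_mem hb))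
          refine (hmem' _).2 ⟨a, ⟨ha, mem_centralizer_singleton_iff.2 ?_⟩, b, ⟨hb, mem_centralizer_singleton_iff.2 ?_⟩, rfl⟩
          · have := inv_mul_eq_one.1 h1
            calc a * r = r * a * r⁻¹ * r := by rw [this]
              _ = r * a := by group
          · rw [hq, mul_inv_eq_one] at h1
            calc b * r = r * b * r⁻¹ * r := by rw [h1]
              _ = r * b := by group
        · obtain ⟨a, ha, b, hb, rfl⟩ := (hmem' x).1 hx
          exact ⟨(hmem _).2 ⟨a, ha.1, b, hb.1, rfl⟩, (centralizer _).mul_mem ha.2 hb.2⟩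
      rw [this, hD'4, e1, e2]
    refine rank_of_swap d.hS (D.subgroupOf S) (elem_subgroupOf hD) (by rw [card_subgroupOf hDS, hD16])
      ⟨w, hWS hw⟩ (mem_subgroupOf.2 (hWD hw)) (by rw [card_cent_sub]; exact hH32) ⟨r, hr⟩
      (Subtype.ext hrw) (fun h => hrD (mem_subgroupOf.1 h)) ?_
    rw [← hfix]
    exact Nat.card_congr ⟨fun x => ⟨((x : S) : G), mem_subgroupOf.1 x.2.1, mem_centralizer_singleton_iff.2
        (congrArg Subtype.val (mem_centralizer_singleton_iff.1 x.2.2))⟩,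
      fun x => ⟨⟨x, hDS x.2.1⟩, mem_subgroupOf.2 x.2.1, mem_centralizer_singleton_iff.2
        (Subtype.ext (mem_centralizer_singleton_iff.1 x.2.2))⟩,
      fun _ => rfl, fun _ => rfl⟩
  · -- every centralizer is `D`
    push Not at hbig
    refine rank_of_spread d.hS (D.subgroupOf S) (W.subgroupOf S) (elem_subgroupOf hD)
      (by rw [card_subgroupOf hDS, hD16]) (fun x hx => mem_subgroupOf.2 (hWD (mem_subgroupOf.1 hx)))
      (by rw [card_subgroupOf hWS, hW]) (fun w hw hw1 => ?_) (fun n _ w hw hw1 hnw v hv => ?_)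
    · ext x
      rw [mem_centralizer_singleton_iff, mem_subgroupOf]
      refine ⟨fun h => hbig w (mem_subgroupOf.1 hw) (fun h' => hw1 (Subtype.ext h')) x x.2
          (congrArg Subtype.val h), fun h => Subtype.ext ?_⟩
      exact elem_comm hD h (hWD (mem_subgroupOf.1 hw))
    · rw [mem_subgroupOf] at hw hnw hv ⊢
      simp only [Subgroup.coe_mul, InvMemClass.coe_inv] at hnw ⊢
      have hw1' : (w : G) ≠ 1 := fun h => hw1 (Subtype.ext h)
      have hne : (n : G) * w * (n : G)⁻¹ ≠ 1 := by simpa [conj_eq_one_iff] using hw1'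
      have hnB : (n : G) ∈ stabilizer G B := by
        rw [mem_stabilizer_iff]
        nth_rewrite 1 [← d.ctx.fix_eq4 d.hB hw1' hw.2]
        rw [← fixedBy_conj, d.ctx.fix_eq4 d.hB hne hnw.2]
      have hnA : (n : G) ∈ stabilizer G A := d.sub ⟨n.2, hnB⟩
      exact ⟨⟨S.mul_mem (S.mul_mem n.2 hv.1.1) (S.inv_mem n.2),
        (stabilizer G A).mul_mem ((stabilizer G A).mul_mem hnA hv.1.2) ((stabilizer G A).inv_mem hnA)⟩,
        conj_mem_fix_of_stab hnB hv.2⟩

/-- The bound from a second quadruple. -/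
theorem rank (d : BData S A B) {y : G} (hy : y ∈ wpart S A B) (hy2 : orderOf y = 2)
    (hmixed : S ≤ stabilizer G A ∨ ∃ v : G, ∀ x : G,
      x ∈ wpart S A B ↔ v⁻¹ * x * v ∈ S ⊓ fixingSubgroup G A) :
    Cfsg.SectionalPRankLE 2 4 S := by
  haveI : Fact (Nat.Prime 2) := ⟨Nat.prime_two⟩
  rcases (A ∩ B).eq_empty_or_nonempty with hdisj | hmeet
  swap
  · exact d.case_meet hmeet hy hy2
  by_cases hP : ∀ E : Subgroup S, Cfsg.IsElementaryAbelian 2 E → Nat.card E = 8 → ⟨y, hy.1.1⟩ ∈ E →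
      centralizer (E : Set S) ≤ E
  · exact rank_of_invol d.hS ⟨y, hy.1.1⟩ (by rw [Subgroup.orderOf_mk, hy2]) hP
  push Not at hP
  obtain ⟨E, hE, h8, hyE, hbig⟩ := hP
  obtain ⟨hC, hW, hor⟩ := d.fail hdisj hy hy2 E hE h8 hyE hbig
  have hy1 := CfsgLib.Invol.ne_one hy2
  set C := cpart (Ω := Ω) S A y with hCdef
  set W := wpart (Ω := Ω) S A B with hWdef
  haveI : IsMulCommutative W := IsPGroup.isMulCommutative_of_card_eq_prime_sq (p := 2) (by rw [hW]; norm_num)
  have hcomm : ∀ c ∈ C, ∀ w ∈ W, c * w = w * c := by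
    intro c hc w hw
    obtain ⟨⟨hcS, hcy⟩, hcA⟩ := mem_cpart.1 hc
    have hcs := d.cent_le hy.2 hy1 hcS hcy
    refine commutatorElement_eq_one_iff_mul_comm.1 (d.disj ?_ ?_)
    · rw [commutatorElement_def, mul_assoc (c * w), show c * w * (c⁻¹ * w⁻¹) = c * (w * c⁻¹ * w⁻¹) by group]
      exact mul_mem hcA (conj_mem_fix_of_stab hw.1.2 (inv_mem hcA))
    · rw [commutatorElement_def]
      exact mul_mem (conj_mem_fix_of_stab hcs.2 hw.2) (inv_mem hw.2)
  have hcw : ∀ w ∈ W, w ≠ 1 → cpart S A w = C := fun w hw hw1 =>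
    (eq_of_le_of_card_ge (fun c hc => mem_cpart.2 ⟨⟨(mem_cpart.1 hc).1.1, hcomm c hc w hw⟩, (mem_cpart.1 hc).2⟩)
      (by rw [hC]; exact (d.cpart_le_four hw.2 hw1).2)).symm
  by_cases hall : (∀ c ∈ C, c * c = 1) ∧ ∀ w ∈ W, w * w = 1
  · exact d.both hdisj hy hy2 hC hW hcomm hcw hall.1 hall.2
  -- one of the two parts is cyclic: `C` is the whole kernel
  set T : Subgroup G := S ⊓ fixingSubgroup G A with hT
  have hCT : C ≤ T := fun c hc => ⟨(mem_cpart.1 hc).1.1, (mem_cpart.1 hc).2⟩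
  have hTC : T = C := by
    by_contra hne
    have hlt : C < T := lt_of_le_of_ne hCT (Ne.symm hne)
    set R : Subgroup G := S ⊓ stabilizer G A with hR
    have hTR : T ≤ R := fun x hx => ⟨hx.1, fixing_le_stab A hx.2⟩
    obtain ⟨x₀, hx₀T, hx₀C, hx₀n⟩ : ∃ x ∈ T, x ∉ C ∧ x ∈ normalizer (C : Set G) := by
      have hTp : IsPGroup 2 T := d.hS.to_le inf_le_left
      have := hTp.isNilpotent
      have hlt' : C.subgroupOf T < ⊤ := lt_top_iff_ne_top.2 fun h => hlt.not_ge (subgroupOf_eq_top.1 h)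
      obtain ⟨x, hx, hxC⟩ := SetLike.exists_of_lt (Group.normalizerCondition_of_isNilpotent _ hlt')
      refine ⟨x, x.2, fun h => hxC (mem_subgroupOf.2 h), ?_⟩
      refine mem_normalizer_of_conj fun c hc => ?_
      exact mem_subgroupOf.1 ((mem_normalizer_iff.1 hx ⟨c, hCT hc⟩).1 (mem_subgroupOf.2 hc))
    set X : Subgroup G := R ⊓ normalizer (C : Set G) with hX
    have hXp : IsPGroup 2 X := d.hS.to_le (inf_le_left.trans inf_le_left)
    haveI := hXp.isNilpotent
    haveI : (C.subgroupOf X).Normal := ⟨fun c hc g => mem_subgroupOf.2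
      ((mem_normalizer_iff.1 g.2.2 _).1 (mem_subgroupOf.1 hc))⟩
    haveI : (T.subgroupOf X).Normal := ⟨fun t ht g => mem_subgroupOf.2
      ⟨S.mul_mem (S.mul_mem g.2.1.1 (mem_subgroupOf.1 ht).1) (S.inv_mem g.2.1.1),
        conj_mem_fix_of_stab g.2.1.2 (mem_subgroupOf.1 ht).2⟩⟩
    have hlt2 : C.subgroupOf X < T.subgroupOf X := lt_of_le_of_ne (fun c hc => hCT hc) fun h => hx₀C
      (mem_subgroupOf.1 (h.symm ▸ (mem_subgroupOf.2 hx₀T :
        (⟨x₀, hTR hx₀T, hx₀n⟩ : X) ∈ T.subgroupOf X) : (⟨x₀, hTR hx₀T, hx₀n⟩ : X) ∈ C.subgroupOf X))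
    obtain ⟨⟨x, hxX⟩, hxT, hxC, hxc⟩ := CfsgLib.PGroupBasic.exists_central_mod (C.subgroupOf X) (T.subgroupOf X) hlt2
    have hWX : ∀ w ∈ W, w ∈ X := fun w hw => ⟨hw.1, mem_normalizer_of_conj fun c hc => by
      rw [← hcomm c hc w hw, mul_inv_cancel_right]; exact hc⟩
    have hxw : ∀ w ∈ W, x * w * x⁻¹ * w⁻¹ ∈ C := fun w hw => hxc ⟨w, hWX w hw⟩
    let θ : W →* C :=
      { toFun := fun w => ⟨x * w * x⁻¹ * (w : G)⁻¹, hxw w w.2⟩
        map_one' := Subtype.ext (by simp)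
        map_mul' := fun a b => Subtype.ext (by
          have h1 := hcomm _ (hxw b b.2) a a.2
          simp only [Subgroup.coe_mul]
          calc x * ((a : G) * b) * x⁻¹ * ((a : G) * b)⁻¹
              = x * a * x⁻¹ * ((x * b * x⁻¹ * (b : G)⁻¹) * (a : G)⁻¹) := by group
            _ = x * a * x⁻¹ * ((a : G)⁻¹ * ((a : G) * (x * b * x⁻¹ * (b : G)⁻¹)) * (a : G)⁻¹) := by group
            _ = x * a * x⁻¹ * (a : G)⁻¹ * (x * b * x⁻¹ * (b : G)⁻¹) := by rw [← h1]; group) }
    have hninj : ¬ Function.Injective θ := by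
      intro hinj
      have hbij : Function.Bijective θ := (Nat.bijective_iff_injective_and_card θ).2 ⟨hinj, by rw [hC, hW]⟩
      rcases hor with h | h
      · refine hall ⟨h, fun w hw => ?_⟩
        have h' : θ (⟨w, hw⟩ * ⟨w, hw⟩) = θ 1 := by
          rw [map_mul, map_one]
          exact Subtype.ext (h _ (θ ⟨w, hw⟩).2)
        exact congrArg Subtype.val (hinj h')
      · refine hall ⟨fun c hc => ?_, h⟩
        obtain ⟨w, hw⟩ := hbij.2 ⟨c, hc⟩
        have h' : θ w * θ w = 1 := by rw [← map_mul, (Subtype.ext (h w w.2) : w * w = 1), map_one]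
        rw [hw] at h'
        exact congrArg Subtype.val h'
    obtain ⟨w, hw, hw1⟩ : ∃ w, θ w = 1 ∧ w ≠ 1 := by
      by_contra h
      push Not at h
      exact hninj ((injective_iff_map_eq_one θ).2 h)
    obtain ⟨k, hk⟩ := exists_pow_order (p := 2) (pgroup_order (d.hS.to_le (inf_le_left.trans inf_le_left)) w.2)
      (fun h => hw1 (Subtype.ext h) : (w : G) ≠ 1)
    have hxw1 : x * (w : G) = w * x := by
      have h' : x * w * x⁻¹ * (w : G)⁻¹ = 1 := congrArg Subtype.val hw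
      exact commutatorElement_eq_one_iff_mul_comm.1 (by rw [commutatorElement_def]; exact h')
    have hxm : x ∈ cpart S A ((w : G) ^ k) :=
      mem_cpart.2 ⟨⟨(mem_subgroupOf.1 hxT).1, (Commute.pow_right hxw1 k).eq⟩, (mem_subgroupOf.1 hxT).2⟩
    rw [hcw _ (W.pow_mem w.2 k) (CfsgLib.Invol.ne_one hk)] at hxm
    exact hxC (mem_subgroupOf.2 hxm)
  rcases hmixed with hSA | ⟨v, hv⟩
  · refine Sec4.sectional (sec4_of_card_le' ?_ ?_)
    · rw [card_eq_ker_mul hSA]
      refine (Nat.mul_le_mul ?_ (img_le_eight d.hA _ d.hS)).trans (le_refl (4 * 8))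
      rw [← hT, hTC, hC]
    · rw [not_and_or] at hall
      push Not at hall
      rcases hall with ⟨c, hc, hc1⟩ | ⟨w, hw, hw1⟩
      · exact ⟨⟨c, (mem_cpart.1 hc).1.1⟩, ⟨c, (mem_cpart.1 hc).1.1⟩, Or.inr fun h => hc1 (congrArg Subtype.val h)⟩
      · exact ⟨⟨w, hw.1.1⟩, ⟨w, hw.1.1⟩, Or.inr fun h => hw1 (congrArg Subtype.val h)⟩
  · exfalso
    refine hall ?_
    rw [hTC] at hv
    rcases hor with h | h
    · refine ⟨h, fun w hw => ?_⟩
      have := h _ ((hv w).1 hw)
      calc w * w = v * (v⁻¹ * w * v * (v⁻¹ * w * v)) * v⁻¹ := by group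
        _ = 1 := by rw [this]; group
    · refine ⟨fun c hc => ?_, h⟩
      have hcW : v * c * v⁻¹ ∈ W := (hv _).2 (by
        have : v⁻¹ * (v * c * v⁻¹) * v = c := by group
        rw [this]; exact hc)
      calc c * c = v⁻¹ * (v * c * v⁻¹ * (v * c * v⁻¹)) * v := by group
        _ = 1 := by rw [h _ hcW]; group

end BData

end CfsgLib.Fixity4
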